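/-
Peterfalvi section 10: the combinatorics and arithmetic behind (10.5), (10.8) and the bridge lemmas.
-/
import Mathlib

set_option autoImplicit false

namespace CfsgLib.OddOrder.Ten

open Finset

/-- The four cells of a unit rectangle: a norm at most two forces the two corner values. -/
theorem six_cells {x y u v u' v' δ : ℤ} (hδ : δ * δ = 1) (h1 : x - y - u + v = 2 * δ) (h2 : x - y - u' + v' = 2 * δ)
    (hn : x ^ 2 + y ^ 2 + u ^ 2 + v ^ 2 + u' ^ 2 + v' ^ 2 ≤ 2) :
    x = δ ∧ y = -δ ∧ u = 0 ∧ v = 0 ∧ u' = 0 ∧ v' = 0 := by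
  have hs : δ = 1 ∨ δ = -1 := by
    rcases Int.eq_one_or_neg_one_of_mul_eq_one hδ with h | h
    · exact Or.inl h
    · exact Or.inr h
  have bd : ∀ z : ℤ, z ^ 2 ≤ 2 → z = -1 ∨ z = 0 ∨ z = 1 := by
    intro z hz
    have : -1 ≤ z ∧ z ≤ 1 := ⟨by nlinarith, by nlinarith⟩
    omega
  rcases hs with rfl | rfl <;>
    rcases bd x (by nlinarith) with rfl | rfl | rfl <;> rcases bd y (by nlinarith) with rfl | rfl | rfl <;>
    rcases bd u (by nlinarith) with rfl | rfl | rfl <;> rcases bd v (by nlinarith) with rfl | rfl | rfl <;>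
    first
    | omega
    | (rcases bd u' (by nlinarith) with rfl | rfl | rfl <;> rcases bd v' (by nlinarith) with rfl | rfl | rfl <;> omega)

variable {I J : Type*} [Fintype I] [Fintype J] [DecidableEq I] [DecidableEq J]

/-- The grid lemma of (10.5): an integer table congruent modulo row plus column functions to
`δ` at `(i, j)` and `-δ` at `(i, o)`, of norm at most two, is that table. -/
theorem grid_eq {c : I → J → ℤ} {δ : ℤ} {i : I} {j o : J} (hI : 3 ≤ Fintype.card I) (hjo : j ≠ o)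
    (hδ : δ * δ = 1) (hcorner : ∀ a, a ≠ i → c i j - c i o - c a j + c a o = 2 * δ)
    (hn : ∑ a, ∑ b, c a b ^ 2 ≤ 2) :
    ∀ a b, c a b = if a = i then (if b = j then δ else if b = o then -δ else 0) else 0 := by
  have hcard : 1 < (Finset.univ.erase i).card := by
    rw [Finset.card_erase_of_mem (Finset.mem_univ i), Finset.card_univ]; omega
  obtain ⟨a₁, ha₁, a₂, ha₂, h12⟩ := Finset.one_lt_card.mp hcard
  have key : ∀ a a', a ≠ i → a' ≠ i → a ≠ a' →
      c i j = δ ∧ c i o = -δ ∧ c a j = 0 ∧ c a o = 0 ∧ c a' j = 0 ∧ c a' o = 0 := by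
    intro a a' ha ha' haa
    refine six_cells hδ (hcorner a ha) (hcorner a' ha') ?_
    have hsub : ∑ x ∈ ({i, a, a'} : Finset I), ∑ b ∈ ({j, o} : Finset J), c x b ^ 2 ≤ ∑ x, ∑ b, c x b ^ 2 :=
      (Finset.sum_le_sum fun x _ => Finset.sum_le_sum_of_subset_of_nonneg (Finset.subset_univ _)
        fun b _ _ => sq_nonneg _).trans
        (Finset.sum_le_sum_of_subset_of_nonneg (Finset.subset_univ _)
          fun x _ _ => Finset.sum_nonneg fun b _ => sq_nonneg _)
    rw [Finset.sum_insert (by simp [ha.symm, ha'.symm]), Finset.sum_pair haa] at hsub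
    simp only [Finset.sum_pair hjo] at hsub
    linarith
  obtain ⟨hx, hy, -⟩ := key a₁ a₂ (Finset.ne_of_mem_erase ha₁) (Finset.ne_of_mem_erase ha₂) h12
  have hij : c i j ^ 2 + c i o ^ 2 = 2 := by rw [hx, hy]; linear_combination 2 * hδ
  intro a b
  by_cases hab : a = i ∧ (b = j ∨ b = o)
  · obtain ⟨rfl, rfl | rfl⟩ := hab
    · simp [hx]
    · simp [hy, hjo.symm]
  · have hz : c a b = 0 := by
      have hne1 : (a, b) ≠ (i, j) := fun e => hab ⟨congrArg Prod.fst e, Or.inl (congrArg Prod.snd e)⟩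
      have hne2 : (a, b) ≠ (i, o) := fun e => hab ⟨congrArg Prod.fst e, Or.inr (congrArg Prod.snd e)⟩
      have hsub : ∑ z ∈ ({(a, b), (i, j), (i, o)} : Finset (I × J)), c z.1 z.2 ^ 2 ≤ ∑ z : I × J, c z.1 z.2 ^ 2 :=
        Finset.sum_le_sum_of_subset_of_nonneg (Finset.subset_univ _) fun z _ _ => sq_nonneg _
      rw [Finset.sum_insert (by simp [hne1, hne2]), Finset.sum_insert (by simp [hjo]), Finset.sum_singleton,
        Fintype.sum_prod_type] at hsub
      have : c a b ^ 2 ≤ 0 := by simp only at hsub; linarith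
      nlinarith
    rw [hz]
    by_cases ha : a = i
    · rw [if_pos ha, if_neg (fun h => hab ⟨ha, Or.inl h⟩), if_neg (fun h => hab ⟨ha, Or.inr h⟩)]
    · rw [if_neg ha]

/-- A table with the corner differences of (10.5) has norm at least two. -/
theorem two_le_grid {c : I → J → ℤ} {δ : ℤ} {i : I} {j o : J} (hI : 3 ≤ Fintype.card I) (hjo : j ≠ o)
    (hδ : δ * δ = 1) (hcorner : ∀ a, a ≠ i → c i j - c i o - c a j + c a o = 2 * δ) :
    2 ≤ ∑ a, ∑ b, c a b ^ 2 := by
  by_contra h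
  push Not at h
  have e := grid_eq hI hjo hδ hcorner h.le
  have hsub : ∑ b ∈ ({j, o} : Finset J), c i b ^ 2 ≤ ∑ a, ∑ b, c a b ^ 2 :=
    (Finset.sum_le_sum_of_subset_of_nonneg (Finset.subset_univ _) fun b _ _ => sq_nonneg _).trans
      (Finset.single_le_sum (f := fun a => ∑ b, c a b ^ 2) (fun a _ => Finset.sum_nonneg fun b _ => sq_nonneg _)
        (Finset.mem_univ i))
  rw [Finset.sum_pair hjo, e i j, e i o] at hsub
  simp [hjo.symm] at hsub
  nlinarith

/-- Cauchy bound for one column. -/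
theorem sq_colSum_le (c : I → J → ℤ) (b : J) : (∑ a, c a b) ^ 2 ≤ Fintype.card I * ∑ a, c a b ^ 2 := by
  simpa using sq_sum_le_card_mul_sum_sq (s := (Finset.univ : Finset I)) (f := fun a => c a b)

/-- The columns carrying the images of a pair of reducible characters bound the norm from below. -/
theorem two_columns_le (c : I → J → ℤ) {b b' : J} (hbb : b ≠ b') :
    (∑ a, c a b) ^ 2 + (∑ a, c a b') ^ 2 ≤ Fintype.card I * ∑ a, ∑ x, c a x ^ 2 := by
  have h : ∑ x ∈ ({b, b'} : Finset J), ∑ a, c a x ^ 2 ≤ ∑ x, ∑ a, c a x ^ 2 :=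
    Finset.sum_le_sum_of_subset_of_nonneg (Finset.subset_univ _) fun x _ _ => Finset.sum_nonneg fun a _ => sq_nonneg _
  rw [Finset.sum_pair hbb, Finset.sum_comm (s := Finset.univ) (t := Finset.univ)] at h
  have := sq_colSum_le c b
  have := sq_colSum_le c b'
  have hm : (Fintype.card I : ℤ) * (∑ a, c a b ^ 2 + ∑ a, c a b' ^ 2) ≤ Fintype.card I * ∑ a, ∑ x, c a x ^ 2 :=
    mul_le_mul_of_nonneg_left h (Int.natCast_nonneg _)
  linarith [mul_add (Fintype.card I : ℤ) (∑ a, c a b ^ 2) (∑ a, c a b' ^ 2)]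

/-- The numerical core of (10.5): the coefficient `a` at `τ₁ ζ` vanishes. -/
theorem coeff_eq_zero {a n d Q N w : ℤ} (hw : 3 ≤ w) (hn : 2 ≤ n) (hd : n * w ≤ d + 1) (hQ : 0 ≤ Q)
    (hnorm : a ^ 2 * Q - 2 * a * n + N ≤ 2) (hcol : (1 + a * d) ^ 2 + (a * d) ^ 2 ≤ w * N) : a = 0 := by
  by_contra ha
  set x := |a| with hx
  have hx1 : 1 ≤ x := Int.one_le_abs ha
  have hxn : 2 ≤ x * n := by nlinarith
  have haQ : 0 ≤ a ^ 2 * Q := mul_nonneg (sq_nonneg a) hQ
  have hle : a * n ≤ x * n := mul_le_mul_of_nonneg_right (le_abs_self a) (by linarith)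
  have hN : N ≤ 2 + 2 * (x * n) := by linarith
  have hd0 : 0 ≤ d := by nlinarith
  have hsq : (1 + a * d) ^ 2 + (a * d) ^ 2 ≥ 2 * (x * d - 1) ^ 2 := by
    have e1 : (a * d) ^ 2 = (x * d) ^ 2 := by rw [mul_pow, mul_pow, hx, sq_abs]
    have e2 : -(x * d) ≤ a * d := by nlinarith [neg_abs_le a]
    have : 1 ≤ x * d := by nlinarith
    nlinarith
  have hlow : x * n * (w - 1) ≤ x * d - 1 := by nlinarith
  have hpos : 0 ≤ x * n * (w - 1) := by nlinarith
  have h2 : (x * n * (w - 1)) ^ 2 ≤ (x * d - 1) ^ 2 := pow_le_pow_left₀ hpos hlow 2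
  have h3 : w * N ≤ w * (3 * (x * n)) := mul_le_mul_of_nonneg_left (by linarith) (by linarith)
  have h4 : 2 * (x * n) * (w - 1) ^ 2 * (x * n) ≤ 3 * w * (x * n) := by nlinarith
  have h5 : 2 * (x * n) * (w - 1) ^ 2 ≤ 3 * w := le_of_mul_le_mul_right h4 (by linarith)
  nlinarith

/-- One row of the table in the bridge lemmas costs at least one. -/
theorem one_le_row {t s r : ℤ} (hr : 1 ≤ r) (hs : s ≠ 0) : 1 ≤ t ^ 2 + r * (t + s) ^ 2 := by
  rcases eq_or_ne t 0 with rfl | ht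
  · have : 0 < s ^ 2 := by positivity
    nlinarith
  · have : 0 < t ^ 2 := by positivity
    nlinarith [mul_nonneg (by linarith : (0 : ℤ) ≤ r) (sq_nonneg (t + s))]

/-- A row of cost exactly one has its first entry opposite to the shift. -/
theorem row_eq_one {t s r : ℤ} (hr : 2 ≤ r) (hs : s ≠ 0) (h : t ^ 2 + r * (t + s) ^ 2 = 1) :
    t + s = 0 ∧ (t = 1 ∨ t = -1) := by
  have hts : t + s = 0 := by
    by_contra hne
    have : 0 < (t + s) ^ 2 := by positivity
    nlinarith [sq_nonneg t]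
  refine ⟨hts, ?_⟩
  rw [hts] at h
  exact sq_eq_one_iff.mp (by linarith)

/-- The numerical core of the bridge lemma. -/
theorem bridge_coeff {b Q : ℤ} (hQ : 3 ≤ Q) (h : b ^ 2 + (Q - 1) * (b + 1) ^ 2 ≤ 1) : b = -1 := by
  by_contra hb
  have hb1 : 0 < (b + 1) ^ 2 := sq_pos_of_ne_zero (fun e => hb (by linarith))
  nlinarith [sq_nonneg b]

/-- With a weighted family of size above `2 n` the coefficient in the partial bridge vanishes. -/
theorem coeff_eq_zero_of_large {a n Q N : ℤ} (hn : 0 ≤ n) (hQ : 2 * n < Q) (hN : 2 ≤ N)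
    (hnorm : a ^ 2 * Q - 2 * a * n + N ≤ 2) : a = 0 := by
  by_contra ha
  have h1 : 1 ≤ |a| := Int.one_le_abs ha
  have h2 : a * n ≤ |a| * n := mul_le_mul_of_nonneg_right (le_abs_self a) hn
  have h3 : a ^ 2 * Q ≤ 2 * (|a| * n) := by linarith
  rw [← sq_abs] at h3
  have h4 : |a| * Q ≤ 2 * n := le_of_mul_le_mul_left (by linarith) (by linarith : (0 : ℤ) < |a|)
  nlinarith

/-- The inequality closing the non-Galois case of (10.8). -/
theorem avg_bound {q : ℝ} (hq : 7 ≤ q) :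
    1 / q + q / (2 * q - 1) ^ 2 < 2 * (q - 3) / (q - 1) ^ 2 := by
  have h1 : (0 : ℝ) < q := by linarith
  have h2 : (0 : ℝ) < (2 * q - 1) ^ 2 := by nlinarith
  have h3 : (0 : ℝ) < (q - 1) ^ 2 := by nlinarith
  have k1 : q / (2 * q - 1) ^ 2 ≤ 1 / (3 * q) := by
    rw [div_le_div_iff₀ h2 (by linarith)]; nlinarith
  have k2 : 1 / q + 1 / (3 * q) < 2 * (q - 3) / (q - 1) ^ 2 := by
    rw [div_add_div _ _ h1.ne' (by linarith), div_lt_div_iff₀ (by positivity) h3]; nlinarith
  linarith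

/-- The bound on the error term of (10.8) from the derived quotient and one further layer. -/
theorem eps_bound {w X Y : ℕ} (hw : 3 ≤ w) (hX : 2 * w + 1 ≤ X) (hY : 2 * w + 1 ≤ Y) :
    (w : ℝ) / ((X : ℝ) * Y) ≤ (w : ℝ) / (2 * (w : ℝ) - 1) ^ 2 := by
  have h1 : (2 * (w : ℝ) + 1) ≤ X := by exact_mod_cast hX
  have h2 : (2 * (w : ℝ) + 1) ≤ Y := by exact_mod_cast hY
  have h3 : (3 : ℝ) ≤ w := by exact_mod_cast hw
  refine div_le_div_of_nonneg_left (by linarith) (by nlinarith) ?_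
  nlinarith [mul_le_mul h1 h2 (by linarith) (by linarith)]

end CfsgLib.OddOrder.Ten
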