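/-
Peterfalvi section 10: Bessel's inequality for integral coefficient tables and the shape of the image
of `α_{ij}` in (10.5), stated abstractly (orthonormal families in `G` only).
-/
import Cfsg.Agent.Lib.CharTheory.CoherenceExt
import Cfsg.Agent.Lib.OddOrder.S10.Grid

set_option autoImplicit false

namespace CfsgLib.OddOrder.Ten

open Cfsg CfsgLib.CharTheory
open scoped ComplexConjugate

universe u

variable {G : Type u} [Group G] [Fintype G]

/-- Bessel's inequality for a finite orthonormal family with integer coefficients, with its equality case. -/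
theorem bessel_int {ι : Type*} [Fintype ι] [DecidableEq ι] {e : ι → G → ℂ}
    (he : ∀ a b, classInner (e a) (e b) = if a = b then 1 else 0) {X : G → ℂ} {c : ι → ℤ}
    (hc : ∀ a, classInner X (e a) = c a) {N : ℤ} (hN : classInner X X = N) :
    ∑ a, c a ^ 2 ≤ N ∧ (∑ a, c a ^ 2 = N → X = ∑ a, (c a : ℂ) • e a) := by

  set A : G → ℂ := ∑ a, (c a : ℂ) • e a with hA
  have hAe : ∀ b, classInner A (e b) = (c b : ℂ) := fun b => by
    rw [hA, classInner_sum_left, Finset.sum_eq_single b
      (fun a _ hne => by rw [classInner_smul_left, he, if_neg hne, mul_zero])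
      (fun h => absurd (Finset.mem_univ b) h), classInner_smul_left, he, if_pos rfl, mul_one]
  have hXA : classInner X A = ((∑ a, c a ^ 2 : ℤ) : ℂ) := by
    rw [hA, classInner_sum_right]
    push_cast
    exact Finset.sum_congr rfl fun a _ => by rw [classInner_smul_right, hc, map_intCast, sq]
  have hAA : classInner A A = ((∑ a, c a ^ 2 : ℤ) : ℂ) := by
    conv_lhs => arg 2; rw [hA]
    rw [classInner_sum_right]
    push_cast
    exact Finset.sum_congr rfl fun a _ => by rw [classInner_smul_right, hAe, map_intCast, sq]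
  have hAX : classInner A X = ((∑ a, c a ^ 2 : ℤ) : ℂ) := by rw [← classInner_comm, hXA, map_intCast]
  obtain ⟨r, hr0, hr, hrz⟩ := classInner_self_nonneg_real (X - A)
  have hreal : r = ((N - ∑ a, c a ^ 2 : ℤ) : ℝ) := by
    have h : (r : ℂ) = ((N - ∑ a, c a ^ 2 : ℤ) : ℂ) := by
      rw [← hr]
      simp only [classInner_sub_left, classInner_sub_right, hN, hXA, hAA, hAX]
      push_cast; ring
    exact_mod_cast h
  refine ⟨?_, fun h => ?_⟩
  · have : (0 : ℝ) ≤ ((N - ∑ a, c a ^ 2 : ℤ) : ℝ) := hreal ▸ hr0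
    have : (0 : ℤ) ≤ N - ∑ a, c a ^ 2 := by exact_mod_cast this
    linarith
  · exact sub_eq_zero.mp (hrz (by rw [hreal, h, sub_self, Int.cast_zero]))

section Alpha

variable {I J Ψ : Type*} [Fintype I] [Fintype J] [Fintype Ψ] [DecidableEq I] [DecidableEq J] [DecidableEq Ψ]

/-- The image of `α` is determined once its coefficient at the distinguished image `e z₀` is `-n`
and the table of coefficients on the cyclic TI family has norm at most two. -/
theorem alpha_image {η : I → J → G → ℂ} {e : Ψ → G → ℂ}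
    (hη : ∀ a b a' b', classInner (η a b) (η a' b') = if a = a' ∧ b = b' then 1 else 0)
    (he : ∀ k l, classInner (e k) (e l) = if k = l then 1 else 0) (hηe : ∀ a b k, classInner (η a b) (e k) = 0)
    {X : G → ℂ} {c : I → J → ℤ} {a n δ : ℤ} {q : Ψ → ℤ} {z₀ : Ψ} {i : I} {j o : J}
    (hc : ∀ x y, classInner X (η x y) = c x y)
    (hz : classInner X (e z₀) = (a - n : ℤ)) (hq0 : q z₀ = 1)
    (hq : ∀ k, k ≠ z₀ → classInner X (e k) = (a * q k : ℤ))
    (hX : classInner X X = (2 + n ^ 2 : ℤ)) (hI : 3 ≤ Fintype.card I) (hjo : j ≠ o) (hδ : δ * δ = 1)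
    (hcorner : ∀ x, x ≠ i → c i j - c i o - c x j + c x o = 2 * δ) :
    a ^ 2 * (∑ k, q k ^ 2) - 2 * a * n + (∑ x, ∑ y, c x y ^ 2) ≤ 2 ∧
      (a = 0 → X = (δ : ℂ) • (η i j - η i o) - (n : ℂ) • e z₀) := by
  let f : (I × J) ⊕ Ψ → G → ℂ := Sum.elim (fun p => η p.1 p.2) e
  let g : (I × J) ⊕ Ψ → ℤ := Sum.elim (fun p => c p.1 p.2) (fun k => if k = z₀ then a - n else a * q k)
  have hf : ∀ s t, classInner (f s) (f t) = if s = t then 1 else 0 := by
    rintro (⟨x, y⟩ | k) (⟨x', y'⟩ | l)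
    · simp [f, hη, Prod.ext_iff]
    · simp [f, hηe]
    · show classInner (e k) (η x' y') = _
      rw [← classInner_comm, hηe, map_zero]
      simp
    · simp [f, he]
  have hg : ∀ s, classInner X (f s) = g s := by
    rintro (⟨x, y⟩ | k)
    · exact hc x y
    · show classInner X (e k) = ((if k = z₀ then a - n else a * q k : ℤ) : ℂ)
      by_cases hk : k = z₀
      · rw [hk, if_pos rfl]; exact hz
      · rw [if_neg hk]; exact hq k hk
  obtain ⟨hle, heq⟩ := bessel_int hf hg hX
  have hsum : ∑ s, g s ^ 2 = (∑ x, ∑ y, c x y ^ 2) + (a ^ 2 * (∑ k, q k ^ 2) - 2 * a * n + n ^ 2) := by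
    rw [Fintype.sum_sum_type]
    congr 1
    · rw [Fintype.sum_prod_type]; rfl
    · show ∑ k, (if k = z₀ then a - n else a * q k) ^ 2 = _
      rw [Finset.mul_sum, ← Finset.add_sum_erase _ _ (Finset.mem_univ z₀), if_pos rfl,
        ← Finset.add_sum_erase _ (fun k => a ^ 2 * q k ^ 2) (Finset.mem_univ z₀), hq0,
        Finset.sum_congr rfl fun k hk => show (if k = z₀ then a - n else a * q k) ^ 2 = a ^ 2 * q k ^ 2 by
          rw [if_neg (Finset.ne_of_mem_erase hk), mul_pow]]
      ring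
  refine ⟨by rw [hsum] at hle; linarith, fun ha => ?_⟩
  subst ha
  have hN : ∑ x, ∑ y, c x y ^ 2 ≤ 2 := by rw [hsum] at hle; linarith
  have hc' := grid_eq hI hjo hδ hcorner hN
  have hN2 := two_le_grid hI hjo hδ hcorner
  have hX' := heq (by rw [hsum]; linarith)
  rw [hX', Fintype.sum_sum_type]
  show (∑ p : I × J, (c p.1 p.2 : ℂ) • η p.1 p.2) +
    (∑ k, (((if k = z₀ then (0 : ℤ) - n else 0 * q k) : ℤ) : ℂ) • e k) = _
  rw [Finset.sum_eq_single z₀ (fun k _ hk => by rw [if_neg hk, zero_mul, Int.cast_zero, zero_smul])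
    (fun h => absurd (Finset.mem_univ z₀) h), if_pos rfl, Fintype.sum_prod_type,
    Finset.sum_eq_single i (fun x _ hx => Finset.sum_eq_zero fun y _ => by
      rw [hc' x y, if_neg hx, Int.cast_zero, zero_smul]) (fun h => absurd (Finset.mem_univ i) h),
    ← Finset.sum_subset (Finset.subset_univ ({j, o} : Finset J)) (fun y _ hy => by
      simp only [Finset.mem_insert, Finset.mem_singleton, not_or] at hy
      rw [hc' i y, if_pos rfl, if_neg hy.1, if_neg hy.2, Int.cast_zero, zero_smul]),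
    Finset.sum_pair hjo, hc' i j, hc' i o]
  simp only [if_true, if_neg hjo.symm]
  push_cast
  module

/-- (10.5): the image of `α`, with the two columns of the reducible pair bounding the norm. -/
theorem alpha_image_of_columns {η : I → J → G → ℂ} {e : Ψ → G → ℂ}
    (hη : ∀ a b a' b', classInner (η a b) (η a' b') = if a = a' ∧ b = b' then 1 else 0)
    (he : ∀ k l, classInner (e k) (e l) = if k = l then 1 else 0) (hηe : ∀ a b k, classInner (η a b) (e k) = 0)
    {X : G → ℂ} {c : I → J → ℤ} {a n d δ : ℤ} {q : Ψ → ℤ} {z₀ : Ψ} {i : I} {j o b b' : J}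
    (hc : ∀ x y, classInner X (η x y) = c x y)
    (hz : classInner X (e z₀) = (a - n : ℤ)) (hq0 : q z₀ = 1)
    (hq : ∀ k, k ≠ z₀ → classInner X (e k) = (a * q k : ℤ))
    (hX : classInner X X = (2 + n ^ 2 : ℤ)) (hI : 3 ≤ Fintype.card I) (hjo : j ≠ o) (hδ : δ * δ = 1)
    (hcorner : ∀ x, x ≠ i → c i j - c i o - c x j + c x o = 2 * δ)
    (hbb : b ≠ b') (hn : 2 ≤ n) (hd : n * Fintype.card I ≤ d + 1)
    (hcol : (1 + a * d) ^ 2 + (a * d) ^ 2 ≤ (∑ x, c x b) ^ 2 + (∑ x, c x b') ^ 2) :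
    X = (δ : ℂ) • (η i j - η i o) - (n : ℂ) • e z₀ := by
  obtain ⟨h, himg⟩ := alpha_image hη he hηe hc hz hq0 hq hX hI hjo hδ hcorner
  exact himg (coeff_eq_zero (by exact_mod_cast hI) hn hd (Finset.sum_nonneg fun k _ => sq_nonneg _) h
    (hcol.trans (two_columns_le c hbb)))

/-- The partial bridge: a coherent family of weight larger than `2 n` already forces the image of `α`. -/
theorem alpha_image_of_large {η : I → J → G → ℂ} {e : Ψ → G → ℂ}
    (hη : ∀ a b a' b', classInner (η a b) (η a' b') = if a = a' ∧ b = b' then 1 else 0)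
    (he : ∀ k l, classInner (e k) (e l) = if k = l then 1 else 0) (hηe : ∀ a b k, classInner (η a b) (e k) = 0)
    {X : G → ℂ} {c : I → J → ℤ} {a n δ : ℤ} {q : Ψ → ℤ} {z₀ : Ψ} {i : I} {j o : J}
    (hc : ∀ x y, classInner X (η x y) = c x y)
    (hz : classInner X (e z₀) = (a - n : ℤ)) (hq0 : q z₀ = 1)
    (hq : ∀ k, k ≠ z₀ → classInner X (e k) = (a * q k : ℤ))
    (hX : classInner X X = (2 + n ^ 2 : ℤ)) (hI : 3 ≤ Fintype.card I) (hjo : j ≠ o) (hδ : δ * δ = 1)
    (hcorner : ∀ x, x ≠ i → c i j - c i o - c x j + c x o = 2 * δ)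
    (hn : 0 ≤ n) (hQ : 2 * n < ∑ k, q k ^ 2) :
    X = (δ : ℂ) • (η i j - η i o) - (n : ℂ) • e z₀ := by
  obtain ⟨h, himg⟩ := alpha_image hη he hηe hc hz hq0 hq hX hI hjo hδ hcorner
  exact himg (coeff_eq_zero_of_large hn hQ (two_le_grid hI hjo hδ hcorner) h)

end Alpha

end CfsgLib.OddOrder.Ten
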