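/-
Peterfalvi section 10, steps (10.2a) and (10.4a): the quotient `M / M''` and the elements outside `M'`.
-/
import Cfsg.Agent.Lib.Coprime

set_option autoImplicit false

namespace CfsgLib.OddOrder.Ten

open Subgroup
open scoped commutatorElement

universe u

variable {L : Type u} [Group L] [Finite L] {K W₂ : Subgroup L} [K.Normal]

/-- If `C_K(x) = W₂ ≤ K'` for an element `x` of order prime to `|K|`, then `x` fixes no nontrivial element
of `K / K'`. -/
theorem mem_derived_of_fixed {x : L} (hsolv : Group.IsSolvable K)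
    (hcop : (orderOf x).Coprime (Nat.card K)) (hC : K ⊓ centralizer ({x} : Set L) = W₂) (hW₂ : W₂ ≤ ⁅K, K⁆)
    {k : L} (hk : k ∈ K) (hfix : x * k * x⁻¹ * k⁻¹ ∈ ⁅K, K⁆) : k ∈ ⁅K, K⁆ := by
  have hn : (⁅K, K⁆ : Subgroup L).Normal := inferInstance
  have hnorm : ∀ X : Subgroup L, X ≤ normalizer ((⁅K, K⁆ : Subgroup L) : Set L) := fun X => by
    rw [normalizer_eq_top_iff.mpr hn]; exact le_top
  have hfixA : ∀ a ∈ zpowers x, a * k * a⁻¹ * k⁻¹ ∈ ⁅K, K⁆ := by
    have key : zpowers x ≤ (centralizer {(QuotientGroup.mk k : L ⧸ ⁅K, K⁆)}).comap (QuotientGroup.mk' ⁅K, K⁆) := by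
      rw [zpowers_le, mem_comap, mem_centralizer_singleton_iff]
      have h : (QuotientGroup.mk (x * k * x⁻¹ * k⁻¹) : L ⧸ ⁅K, K⁆) = 1 := (QuotientGroup.eq_one_iff _).mpr hfix
      rw [QuotientGroup.mk_mul, QuotientGroup.mk_mul, QuotientGroup.mk_mul, QuotientGroup.mk_inv,
        QuotientGroup.mk_inv, mul_inv_eq_one, mul_inv_eq_iff_eq_mul] at h
      exact h
    intro a ha
    have h := key ha
    rw [mem_comap, mem_centralizer_singleton_iff] at h
    rw [← QuotientGroup.eq_one_iff, QuotientGroup.mk_mul, QuotientGroup.mk_mul, QuotientGroup.mk_mul,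
      QuotientGroup.mk_inv, QuotientGroup.mk_inv, mul_inv_eq_one, mul_inv_eq_iff_eq_mul]
    exact h
  obtain ⟨c, ⟨hcK, hc⟩, hkc⟩ := CfsgLib.coprime_fixed_quotient (A := zpowers x) (K := K) (N := ⁅K, K⁆)
    (by rw [normalizer_eq_top_iff.mpr (inferInstance : K.Normal)]; exact le_top)
    (by rw [Nat.card_zpowers]; exact hcop) (Or.inr hsolv) (commutator_le_left K K) (hnorm _) (hnorm _) hk hfixA
  have hcW : c ∈ W₂ := hC ▸ mem_inf.mpr ⟨hcK, mem_centralizer_singleton_iff.mpr (hc x (mem_zpowers x)).symm⟩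
  have e : k = c * (k⁻¹ * c)⁻¹ := by group
  rw [e]
  exact mul_mem (hW₂ hcW) (inv_mem hkc)

/-- Every element of the coset `K x` is conjugate to an element of `W₂ x`. -/
theorem exists_conj_coset {x : L} (hcop : (orderOf x).Coprime (Nat.card K))
    (hC : K ⊓ centralizer ({x} : Set L) = W₂) {k : L} (hk : k ∈ K) :
    ∃ g ∈ K, ∃ c ∈ W₂, g * (c * x) * g⁻¹ = k * x := by
  classical
  have hWK : W₂ ≤ K := hC ▸ inf_le_left
  have hcx : ∀ c ∈ W₂, Commute c x := fun c hc =>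
    (mem_centralizer_singleton_iff.mp ((hC ▸ hc : c ∈ K ⊓ centralizer ({x} : Set L))).2)
  -- a power fixing `x` and killing `K`
  obtain ⟨N, hN1, hN0⟩ : ∃ N : ℕ, x ^ N = x ∧ ∀ c ∈ K, c ^ N = 1 := by
    obtain ⟨m, hm⟩ := exists_pow_eq_self_of_coprime (hcop.symm : (Nat.card K).Coprime (orderOf x))
    refine ⟨Nat.card K * m, by rw [pow_mul, hm], fun c hc => ?_⟩
    rw [pow_mul, show c ^ Nat.card K = 1 from congrArg Subtype.val (pow_card_eq_one' (x := (⟨c, hc⟩ : K))), one_pow]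
  have hpow : ∀ c ∈ W₂, (c * x) ^ N = x := fun c hc => by
    rw [(hcx c hc).mul_pow, hN0 c (hWK hc), hN1, one_mul]
  have hmem : ∀ (g : K) (c : W₂), (g : L) * ((c : L) * x) * (g : L)⁻¹ * x⁻¹ ∈ K := fun g c => by
    have h : x * (g : L)⁻¹ * x⁻¹ ∈ K := (inferInstance : K.Normal).conj_mem _ (K.inv_mem g.2) x
    have e : (g : L) * ((c : L) * x) * (g : L)⁻¹ * x⁻¹ = g * c * (x * (g : L)⁻¹ * x⁻¹) := by group
    rw [e]; exact K.mul_mem (K.mul_mem g.2 (hWK c.2)) h
  let f : (K ⧸ W₂.subgroupOf K) × W₂ → K := fun p =>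
    ⟨((p.1.out : K) : L) * ((p.2 : L) * x) * ((p.1.out : K) : L)⁻¹ * x⁻¹, hmem p.1.out p.2⟩
  have hf : Function.Injective f := by
    rintro ⟨a, c⟩ ⟨b, d⟩ e
    have e1 : ((a.out : K) : L) * ((c : L) * x) * ((a.out : K) : L)⁻¹ =
        ((b.out : K) : L) * ((d : L) * x) * ((b.out : K) : L)⁻¹ := mul_right_cancel (congrArg Subtype.val e)
    have e2 := congrArg (fun z => z ^ N) e1
    simp only [conj_pow, hpow _ c.2, hpow _ d.2] at e2
    have hab : a = b := by
      rw [← QuotientGroup.out_eq' a, ← QuotientGroup.out_eq' b, QuotientGroup.eq, mem_subgroupOf]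
      refine hC.le (mem_inf.mpr ⟨((a.out : K)⁻¹ * b.out).2, mem_centralizer_singleton_iff.mpr ?_⟩)
      push_cast
      calc ((a.out : K) : L)⁻¹ * (b.out : K) * x
          = ((a.out : K) : L)⁻¹ * (((b.out : K) : L) * x * ((b.out : K) : L)⁻¹) * (b.out : K) := by group
        _ = x * (((a.out : K) : L)⁻¹ * (b.out : K)) := by rw [← e2]; group
    subst hab
    exact Prod.ext rfl (Subtype.ext (mul_right_cancel (mul_left_cancel (mul_right_cancel e1))))
  have hcard : Nat.card ((K ⧸ W₂.subgroupOf K) × W₂) = Nat.card K := by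
    rw [Nat.card_prod, ← index_eq_card, ← Nat.card_congr (subgroupOfEquivOfLe hWK).toEquiv, mul_comm]
    exact card_mul_index _
  obtain ⟨p, hp⟩ := ((Nat.bijective_iff_injective_and_card f).mpr ⟨hf, hcard⟩).2 ⟨k, hk⟩
  refine ⟨(p.1.out : K), (p.1.out : K).2, p.2, p.2.2, ?_⟩
  have : ((p.1.out : K) : L) * ((p.2 : L) * x) * ((p.1.out : K) : L)⁻¹ * x⁻¹ = k := congrArg Subtype.val hp
  rw [← this]; group

end CfsgLib.OddOrder.Ten
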