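/-
Peterfalvi section 10: the two possible images of a reducible character (10.5b) and the bridge image
of `μ₀ - ζ` (10.9), stated abstractly for orthonormal families.
-/
import Cfsg.Agent.Lib.OddOrder.S10.Bessel

set_option autoImplicit false

namespace CfsgLib.OddOrder.Ten

open Cfsg CfsgLib.CharTheory

universe u

variable {G : Type u} [Group G] [Fintype G]
variable {I J : Type*} [Fintype I] [Fintype J] [DecidableEq I] [DecidableEq J]

/-- An integer at most its square: equality only at `0` and `1`. -/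
theorem zero_or_one_of_sq_le {z : ℤ} (h : z ^ 2 ≤ z) : z = 0 ∨ z = 1 := by
  have h1 : 0 ≤ z := (sq_nonneg z).trans h
  have h2 : z ≤ 1 := by nlinarith
  omega

/-- (10.5b): a norm `|I|` class function with additive coefficient table and inner product `δ |I|` with
the difference of two columns is one of the two signed column sums. -/
theorem column_image {η : I → J → G → ℂ}
    (hη : ∀ a b a' b', classInner (η a b) (η a' b') = if a = a' ∧ b = b' then 1 else 0)
    {T : G → ℂ} {c : I → J → ℤ} {δ : ℤ} {k k' o : J} (hc : ∀ x y, classInner T (η x y) = c x y)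
    (hkk : k ≠ k') (hko : k ≠ o) (hko' : k' ≠ o) (hδ : δ * δ = 1) [Nonempty I]
    (hT : classInner T T = ((Fintype.card I : ℤ) : ℂ))
    (hdiff : δ * ((∑ x, c x k) - ∑ x, c x k') = Fintype.card I)
    (hadd : ∀ x x' y y', c x y - c x y' - c x' y + c x' y' = 0) :
    T = (δ : ℂ) • ∑ x, η x k ∨ T = -((δ : ℂ) • ∑ x, η x k') := by
  have hb := bessel_int (ι := I × J) (e := fun p => η p.1 p.2) (c := fun p => c p.1 p.2)
    (fun p q => by simp [hη, Prod.ext_iff]) (fun p => hc p.1 p.2) hT
  obtain ⟨hle, heq⟩ := hb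
  rw [Fintype.sum_prod_type] at hle heq
  -- the shifted coefficients
  set u : I → ℤ := fun x => δ * c x k with hu
  set v : I → ℤ := fun x => -(δ * c x k') with hv
  have hsum : ∑ x, (u x + v x) = (Fintype.card I : ℤ) := by
    rw [← hdiff, ← Finset.sum_sub_distrib, Finset.mul_sum]
    exact Finset.sum_congr rfl fun x _ => by simp only [hu, hv]; ring
  have hrow : ∀ x, u x ^ 2 + v x ^ 2 + c x o ^ 2 ≤ ∑ y, c x y ^ 2 := fun x => by
    have h : ∑ y ∈ ({k, k', o} : Finset J), c x y ^ 2 ≤ ∑ y, c x y ^ 2 :=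
      Finset.sum_le_sum_of_subset_of_nonneg (Finset.subset_univ _) fun y _ _ => sq_nonneg _
    rw [Finset.sum_insert (by simp [hkk, hko]), Finset.sum_pair hko'] at h
    have e1 : u x ^ 2 = c x k ^ 2 := by simp only [hu]; linear_combination (c x k) ^ 2 * hδ
    have e2 : v x ^ 2 = c x k' ^ 2 := by simp only [hv]; linear_combination (c x k') ^ 2 * hδ
    linarith
  have hsq : ∀ z : ℤ, 0 ≤ z ^ 2 - z := fun z => by
    have := Int.le_self_sq z
    linarith
  have hzero : ∑ x, ((u x ^ 2 - u x) + (v x ^ 2 - v x) + c x o ^ 2) ≤ 0 := by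
    have h : ∑ x, (u x ^ 2 + v x ^ 2 + c x o ^ 2) ≤ (Fintype.card I : ℤ) := (Finset.sum_le_sum fun x _ => hrow x).trans hle
    have e : ∑ x, ((u x ^ 2 - u x) + (v x ^ 2 - v x) + c x o ^ 2) =
        ∑ x, (u x ^ 2 + v x ^ 2 + c x o ^ 2) - ∑ x, (u x + v x) := by
      rw [← Finset.sum_sub_distrib]
      exact Finset.sum_congr rfl fun x _ => by ring
    rw [e, hsum]; linarith
  have hpart : ∀ x, (u x = 0 ∨ u x = 1) ∧ (v x = 0 ∨ v x = 1) ∧ c x o = 0 := fun x => by
    have h := le_antisymm hzero (Finset.sum_nonneg fun x _ => by nlinarith [hsq (u x), hsq (v x)])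
    have hx := (Finset.sum_eq_zero_iff_of_nonneg fun x _ => by nlinarith [hsq (u x), hsq (v x)]).mp h x (Finset.mem_univ x)
    have h3 := sq_nonneg (c x o)
    exact ⟨zero_or_one_of_sq_le (by linarith [hsq (v x)]), zero_or_one_of_sq_le (by linarith [hsq (u x)]),
      pow_eq_zero_iff (n := 2) two_ne_zero |>.mp (le_antisymm (by linarith [hsq (u x), hsq (v x)]) h3)⟩
  obtain ⟨x₀⟩ := ‹Nonempty I›
  have hconst : ∀ x y, c x y = c x₀ y := fun x y => by
    have := hadd x x₀ y o
    rw [(hpart x).2.2, (hpart x₀).2.2] at this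
    linarith
  have hw : (0 : ℤ) < Fintype.card I := by exact_mod_cast Fintype.card_pos
  have huv : u x₀ + v x₀ = 1 := by
    have h : ∑ x, (u x + v x) = (Fintype.card I : ℤ) * (u x₀ + v x₀) := by
      rw [Finset.sum_congr rfl fun x _ => show u x + v x = u x₀ + v x₀ by simp only [hu, hv, hconst x k, hconst x k']]
      simp
    rw [hsum] at h
    have : (Fintype.card I : ℤ) * (u x₀ + v x₀) = (Fintype.card I : ℤ) * 1 := by rw [mul_one]; exact h.symm
    exact mul_left_cancel₀ hw.ne' this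
  have hval : (c x₀ k = δ ∧ c x₀ k' = 0) ∨ (c x₀ k = 0 ∧ c x₀ k' = -δ) := by
    have e1 : δ * u x₀ = c x₀ k := by simp only [hu]; linear_combination c x₀ k * hδ
    have e2 : δ * v x₀ = -(c x₀ k') := by simp only [hv]; linear_combination -(c x₀ k') * hδ
    rcases (hpart x₀).1 with h | h
    · right
      have : v x₀ = 1 := by linarith
      rw [h] at e1; rw [this] at e2
      exact ⟨by linarith, by linarith⟩
    · left
      have : v x₀ = 0 := by linarith
      rw [h] at e1; rw [this] at e2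
      exact ⟨by linarith, by linarith⟩
  have hfull : ∑ x, ∑ y, c x y ^ 2 = (Fintype.card I : ℤ) := by
    refine le_antisymm hle ?_
    have h : ∀ x, (1 : ℤ) ≤ ∑ y, c x y ^ 2 := fun x => by
      have h2 : ∑ y ∈ ({k, k'} : Finset J), c x y ^ 2 ≤ ∑ y, c x y ^ 2 :=
        Finset.sum_le_sum_of_subset_of_nonneg (Finset.subset_univ _) fun y _ _ => sq_nonneg _
      rw [Finset.sum_pair hkk, hconst x k, hconst x k'] at h2
      rcases hval with ⟨h1, h0⟩ | ⟨h1, h0⟩ <;> rw [h1, h0] at h2 <;> nlinarith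
    simpa using Finset.sum_le_sum (s := Finset.univ) fun x _ => h x
  have hcol : ∀ (k₁ : J) (ε : ℤ), ε * ε = 1 → (∀ x, c x k₁ = ε) → T = (ε : ℂ) • ∑ x, η x k₁ := by
    intro k₁ ε hε hk₁
    have hothers : ∀ x y, y ≠ k₁ → c x y = 0 := fun x y hy => by
      have h2 : ∀ x, (1 : ℤ) + (if y = k₁ then 0 else c x y ^ 2) ≤ ∑ z, c x z ^ 2 := fun x => by
        have h3 : ∑ z ∈ ({k₁, y} : Finset J), c x z ^ 2 ≤ ∑ z, c x z ^ 2 :=
          Finset.sum_le_sum_of_subset_of_nonneg (Finset.subset_univ _) fun z _ _ => sq_nonneg _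
        rw [Finset.sum_pair (Ne.symm hy), hk₁, sq ε, hε] at h3
        rwa [if_neg hy]
      have h4 : ∑ x, ((1 : ℤ) + (if y = k₁ then 0 else c x y ^ 2)) ≤ (Fintype.card I : ℤ) :=
        (Finset.sum_le_sum fun x _ => h2 x).trans hle
      rw [Finset.sum_add_distrib] at h4
      simp only [Finset.sum_const, Finset.card_univ, nsmul_eq_mul, mul_one, if_neg hy] at h4
      have h5 := (Finset.sum_eq_zero_iff_of_nonneg fun x _ => sq_nonneg (c x y)).mp
        (le_antisymm (by linarith) (Finset.sum_nonneg fun x _ => sq_nonneg _)) x (Finset.mem_univ x)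
      exact pow_eq_zero_iff (n := 2) two_ne_zero |>.mp h5
    rw [heq hfull, Fintype.sum_prod_type, Finset.smul_sum]
    refine Finset.sum_congr rfl fun x _ => ?_
    rw [Finset.sum_eq_single k₁ (fun y _ hy => by simp [hothers x y hy]) (fun h => absurd (Finset.mem_univ _) h)]
    simp [hk₁]
  rcases hval with ⟨h1, -⟩ | ⟨-, h0⟩
  · exact Or.inl (hcol k δ hδ fun x => (hconst x k).trans h1)
  · refine Or.inr ((hcol k' (-δ) (by rw [neg_mul_neg]; exact hδ) fun x => (hconst x k').trans h0).trans ?_)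
    rw [Int.cast_neg, neg_smul]

omit [DecidableEq I] in
/-- (10.9): the table of `τ(μ₀ - ζ)` is the column of `η_{i0}`. -/
theorem bridge_table {c : I → J → ℤ} {t : I → ℤ} {s : ℤ} {o : J} {i₀ : I}
    (ht : ∀ x, c x o = t x) (hs : ∀ x y, y ≠ o → c x y = t x + s) (h0 : t i₀ = 1) (hs0 : s ≠ 0)
    (hJ : 3 ≤ Fintype.card J) (hn : ∑ x, ∑ y, c x y ^ 2 ≤ Fintype.card I) :
    ∀ x y, c x y = if y = o then 1 else 0 := by
  set r : ℤ := (Fintype.card J : ℤ) - 1 with hr
  have hr2 : 2 ≤ r := by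
    have : (3 : ℤ) ≤ Fintype.card J := by exact_mod_cast hJ
    omega
  have hrow : ∀ x, ∑ y, c x y ^ 2 = t x ^ 2 + r * (t x + s) ^ 2 := fun x => by
    rw [← Finset.add_sum_erase _ _ (Finset.mem_univ o), ht,
      Finset.sum_congr rfl fun y hy => show c x y ^ 2 = (t x + s) ^ 2 by rw [hs x y (Finset.ne_of_mem_erase hy)],
      Finset.sum_const, Finset.card_erase_of_mem (Finset.mem_univ o), Finset.card_univ, nsmul_eq_mul,
      Nat.cast_sub (by omega), Nat.cast_one, hr]
  have hone : ∀ x, t x ^ 2 + r * (t x + s) ^ 2 = 1 := by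
    intro x
    have h : ∑ x, (t x ^ 2 + r * (t x + s) ^ 2 - 1) ≤ 0 := by
      rw [Finset.sum_sub_distrib, ← Finset.sum_congr rfl fun x _ => hrow x]
      simpa using hn
    have hnn : ∀ x ∈ (Finset.univ : Finset I), 0 ≤ t x ^ 2 + r * (t x + s) ^ 2 - 1 := fun x _ => by
      linarith [one_le_row (t := t x) (r := r) (by linarith) hs0]
    linarith [(Finset.sum_eq_zero_iff_of_nonneg hnn).mp (le_antisymm h (Finset.sum_nonneg hnn)) x (Finset.mem_univ x)]
  have hsm : s = -1 := by
    have := (row_eq_one hr2 hs0 (hone i₀)).1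
    linarith
  intro x y
  have h := (row_eq_one hr2 hs0 (hone x)).1
  have hx1 : t x = 1 := by linarith
  by_cases hy : y = o
  · rw [hy, ht, hx1, if_pos rfl]
  · rw [hs x y hy, hx1, hsm, if_neg hy]; norm_num

end CfsgLib.OddOrder.Ten
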