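/-
Peterfalvi section 10: the hypothesis on a maximal subgroup of type III, IV or V, the characters `η_{ij}`
indexed like the `μ_{ij}`, and the image of the difference of two columns (4.8).
-/
import Cfsg.Agent.Lib.OddOrder.Found.PrimeTI
import Cfsg.Agent.Lib.OddOrder.Found.DadeTools
import Cfsg.Agent.Lib.OddOrder.S10.Bridge
import Cfsg.Agent.S1502
import Cfsg.Agent.S1506

set_option autoImplicit false
set_option linter.unusedSectionVars false
set_option linter.style.haveILetI false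

namespace CfsgLib.OddOrder.Ten

open Cfsg CfsgLib.CharTheory CfsgLib.Dade CfsgLib.OddOrder.Found
open scoped ComplexConjugate commutatorElement

universe u

variable {G : Type u} [Group G]

/-- The Dade set of a subgroup of type III, IV or V: the elements not conjugate in `M` into `W₁`. -/
def tenA₀ (M : Subgroup G) (W₁ : Subgroup M) : Set G :=
  Subtype.val '' {x : M | ∀ g : M, g * x * g⁻¹ ∉ W₁}

theorem mem_tenA₀ {M : Subgroup G} {W₁ : Subgroup M} {x : M} :
    (x : G) ∈ tenA₀ M W₁ ↔ ∀ g : M, g * x * g⁻¹ ∉ W₁ :=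
  ⟨fun ⟨_, hy, e⟩ => Subtype.val_injective e ▸ hy, fun h => ⟨x, h, rfl⟩⟩

/-- Hypothesis 10.1: a subgroup `M` of type III, IV or V, with `K = M'`. -/
structure TenData [Fintype G] (M : Subgroup G) [Fintype M] (K W₁ W₂ : Subgroup M) (H : G → Subgroup G) : Prop where
  oddG : Odd (Nat.card G)
  prime : IsPrimeTI K W₁ W₂
  self : IsSelfNormalizingCyclic (W₁.map M.subtype) (W₂.map M.subtype)
  solv : Group.IsSolvable K
  le_derived : W₂ ≤ ⁅K, K⁆
  dade : DadeHypothesis (tenA₀ M W₁) M H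

/-- The identification of the image in `G` of `W₁ ⊔ W₂` with that subgroup of `M`. -/
def tenHom {M : Subgroup G} (W₁ W₂ : Subgroup M) :
    ↥(W₁.map M.subtype ⊔ W₂.map M.subtype) →* ↥(W₁ ⊔ W₂) where
  toFun x := ⟨⟨x, (sup_le (Subgroup.map_subtype_le W₁) (Subgroup.map_subtype_le W₂)) x.2⟩, by
    have hx : (x : G) ∈ (W₁ ⊔ W₂).map M.subtype := by rw [Subgroup.map_sup]; exact x.2
    obtain ⟨y, hy, e⟩ := hx
    exact (show (⟨x, _⟩ : M) = y from Subtype.ext e.symm) ▸ hy⟩
  map_one' := rfl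
  map_mul' _ _ := rfl

theorem coe_tenHom {M : Subgroup G} (W₁ W₂ : Subgroup M) (x : ↥(W₁.map M.subtype ⊔ W₂.map M.subtype)) :
    (((tenHom W₁ W₂ x : ↥(W₁ ⊔ W₂)) : M) : G) = x := rfl

theorem tenHom_surjective {M : Subgroup G} (W₁ W₂ : Subgroup M) : Function.Surjective (tenHom W₁ W₂) := fun w =>
  ⟨⟨((w : M) : G), by rw [← Subgroup.map_sup]; exact ⟨w, w.2, rfl⟩⟩, rfl⟩

theorem mem_map_iff' {M : Subgroup G} {W : Subgroup M} {x : M} : (x : G) ∈ W.map M.subtype ↔ x ∈ W :=
  ⟨fun ⟨_, hy, e⟩ => Subtype.val_injective e ▸ hy, fun h => ⟨x, h, rfl⟩⟩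

/-- Two orthogonal unit vectors with additive difference of coefficient tables have zero tables. -/
theorem single_table {I J : Type*} [Fintype I] [Fintype J] (hI : 3 ≤ Fintype.card I) (hJ : 3 ≤ Fintype.card J)
    {c e : I → J → ℤ} (hc : ∀ p q : I × J, c p.1 p.2 ≠ 0 → c q.1 q.2 ≠ 0 → p = q)
    (he : ∀ p q : I × J, e p.1 p.2 ≠ 0 → e q.1 q.2 ≠ 0 → p = q)
    (hne : ∀ x y, c x y ≠ 0 → e x y = 0)
    (hadd : ∀ x x' y y', c x y - e x y - (c x y' - e x y') - (c x' y - e x' y) + (c x' y' - e x' y') = 0) :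
    ∀ x y, c x y = 0 := by
  classical
  intro x y
  by_contra hxy
  -- avoid the row and the column of the second support
  obtain ⟨a, ha, ha'⟩ : ∃ a, a ≠ x ∧ ∀ b, e a b = 0 := by
    by_cases h : ∃ p : I × J, e p.1 p.2 ≠ 0
    · obtain ⟨p, hp⟩ := h
      have hc : 0 < ((Finset.univ.erase x).erase p.1).card := by
        have := Finset.pred_card_le_card_erase (a := p.1) (s := Finset.univ.erase x)
        rw [Finset.card_erase_of_mem (Finset.mem_univ x), Finset.card_univ] at this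
        omega
      obtain ⟨a, ha⟩ := Finset.card_pos.mp hc
      simp only [Finset.mem_erase, Finset.mem_univ, and_true] at ha
      exact ⟨a, ha.2, fun b => by
        by_contra hb
        exact ha.1 (congrArg Prod.fst (he (a, b) p hb hp))⟩
    · push Not at h
      obtain ⟨a, ha⟩ := Fintype.exists_ne_of_one_lt_card (by omega : 1 < Fintype.card I) x
      exact ⟨a, ha, fun b => h (a, b)⟩
  obtain ⟨b, hb, hb'⟩ : ∃ b, b ≠ y ∧ e x b = 0 := by
    by_cases h : ∃ p : I × J, e p.1 p.2 ≠ 0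
    · obtain ⟨p, hp⟩ := h
      have hc : 0 < ((Finset.univ.erase y).erase p.2).card := by
        have := Finset.pred_card_le_card_erase (a := p.2) (s := Finset.univ.erase y)
        rw [Finset.card_erase_of_mem (Finset.mem_univ y), Finset.card_univ] at this
        omega
      obtain ⟨b, hb⟩ := Finset.card_pos.mp hc
      simp only [Finset.mem_erase, Finset.mem_univ, and_true] at hb
      exact ⟨b, hb.2, by
        by_contra hb2
        exact hb.1 (congrArg Prod.snd (he (x, b) p hb2 hp))⟩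
    · push Not at h
      obtain ⟨b, hb⟩ := Fintype.exists_ne_of_one_lt_card (by omega : 1 < Fintype.card J) y
      exact ⟨b, hb, h (x, b)⟩
  have z1 : c x b = 0 := by
    by_contra h
    exact hb (congrArg Prod.snd (hc (x, b) (x, y) h hxy))
  have z2 : c a y = 0 := by
    by_contra h
    exact ha (congrArg Prod.fst (hc (a, y) (x, y) h hxy))
  have z3 : c a b = 0 := by
    by_contra h
    exact ha (congrArg Prod.fst (hc (a, b) (x, y) h hxy))
  have := hadd x a y b
  rw [hne x y hxy, z1, z2, z3, ha' y, ha' b, hb'] at this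
  omega

variable [Fintype G] {M : Subgroup G} [Fintype M] {K W₁ W₂ : Subgroup M} {H : G → Subgroup G}

namespace TenData

variable (d : TenData M K W₁ W₂ H)
include d

theorem oddM : Odd (Nat.card M) := d.oddG.of_dvd_nat (Subgroup.card_subgroup_dvd_card M)

theorem oddW : Odd (Nat.card ↥(W₁.map M.subtype ⊔ W₂.map M.subtype)) :=
  d.oddG.of_dvd_nat (Subgroup.card_subgroup_dvd_card _)

/-- The family `χ_ω` of `W` in `G`. -/
noncomputable def fam : WLin (W₁.map M.subtype) (W₂.map M.subtype) → (G → ℂ) :=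
  (Cfsg.Agent.S1502.result _ _ d.self d.oddW).choose

theorem isFam : IsCyclicTIFamily (W₁.map M.subtype) (W₂.map M.subtype) d.fam :=
  (Cfsg.Agent.S1502.result _ _ d.self d.oddW).choose_spec

/-- The linear character `ω_{ab}` of the image of `W`. -/
noncomputable def omegaG (a : W₁ →* ℂˣ) (b : W₂ →* ℂˣ) : WLin (W₁.map M.subtype) (W₂.map M.subtype) :=
  (d.prime.row a * d.prime.col b).comp (tenHom W₁ W₂)

theorem omegaG_injective {a a' : W₁ →* ℂˣ} {b b' : W₂ →* ℂˣ} (e : d.omegaG a b = d.omegaG a' b') :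
    a = a' ∧ b = b' := d.prime.row_col_injective ((MonoidHom.cancel_right (tenHom_surjective W₁ W₂)).mp e)

theorem omegaG_inv (a : W₁ →* ℂˣ) (b : W₂ →* ℂˣ) : d.omegaG a⁻¹ b⁻¹ = (d.omegaG a b)⁻¹ := by
  refine MonoidHom.ext fun x => ?_
  simp only [omegaG, d.prime.row_inv, d.prime.col_inv, MonoidHom.comp_apply, MonoidHom.mul_apply,
    MonoidHom.inv_apply, mul_inv]

theorem omegaG_mul (a a' : W₁ →* ℂˣ) (b b' : W₂ →* ℂˣ) :
    d.omegaG (a * a') (b * b') = d.omegaG a b * d.omegaG a' b' := by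
  refine MonoidHom.ext fun x => ?_
  simp only [omegaG, d.prime.row_mul, d.prime.col_mul, MonoidHom.comp_apply, MonoidHom.mul_apply]
  exact mul_mul_mul_comm _ _ _ _

theorem omegaG_one : d.omegaG 1 1 = 1 := by
  refine MonoidHom.ext fun x => ?_
  simp [omegaG, d.prime.row_one, d.prime.col_one]

/-- The character `η_{ab}`. -/
noncomputable def eta (a : W₁ →* ℂˣ) (b : W₂ →* ℂˣ) : G → ℂ := d.fam (d.omegaG a b)

theorem eta_signed (a : W₁ →* ℂˣ) (b : W₂ →* ℂˣ) : IsSignedIrr (d.eta a b) := d.isFam.irr_or_neg _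

theorem eta_gen (a : W₁ →* ℂˣ) (b : W₂ →* ℂˣ) : IsGeneralizedCharacter G (d.eta a b) :=
  cycFamily_signed d.isFam _

theorem eta_one_one : d.eta 1 1 = fun _ => 1 := by rw [eta, d.omegaG_one, d.isFam.map_one]

theorem eta_orth [DecidableEq (W₁ →* ℂˣ)] [DecidableEq (W₂ →* ℂˣ)] (a : W₁ →* ℂˣ) (b : W₂ →* ℂˣ)
    (a' : W₁ →* ℂˣ) (b' : W₂ →* ℂˣ) :
    classInner (d.eta a b) (d.eta a' b') = if a = a' ∧ b = b' then 1 else 0 := by
  rw [eta, eta, d.isFam.orthonormal]
  by_cases h : a = a' ∧ b = b'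
  · rw [if_pos h, if_pos (by rw [h.1, h.2])]
  · rw [if_neg h, if_neg fun e => h (d.omegaG_injective e)]

theorem eta_conj (a : W₁ →* ℂˣ) (b : W₂ →* ℂˣ) : conjFun (d.eta a b) = d.eta a⁻¹ b⁻¹ := by
  rw [eta, eta, cycFamily_conj d.self d.oddW d.isFam, d.omegaG_inv]

/-- The elements of `V = W \ (W₁ ∪ W₂)`. -/
def InV (_d : TenData M K W₁ W₂ H) (v : M) : Prop := v ∈ W₁ ⊔ W₂ ∧ v ∉ W₁ ∧ v ∉ W₂

theorem eta_apply (a : W₁ →* ℂˣ) (b : W₂ →* ℂˣ) {v : M} (hv : d.InV v) :
    d.eta a b (v : G) = ((d.prime.row a * d.prime.col b) ⟨v, hv.1⟩ : ℂ) := by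
  have hv' : (v : G) ∈ W₁.map M.subtype ⊔ W₂.map M.subtype := by
    rw [← Subgroup.map_sup]; exact ⟨v, hv.1, rfl⟩
  exact d.isFam.eq_on (d.omegaG a b) ⟨v, hv'⟩ (fun h => hv.2.1 (mem_map_iff'.mp h))
    fun h => hv.2.2 (mem_map_iff'.mp h)

theorem inV_of_mem {w : ↥(W₁.map M.subtype ⊔ W₂.map M.subtype)} (h1 : (w : G) ∉ W₁.map M.subtype)
    (h2 : (w : G) ∉ W₂.map M.subtype) : d.InV ((tenHom W₁ W₂ w : ↥(W₁ ⊔ W₂)) : M) :=
  ⟨(tenHom W₁ W₂ w).2, fun h => h1 (by rw [← coe_tenHom]; exact ⟨_, h, rfl⟩),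
    fun h => h2 (by rw [← coe_tenHom]; exact ⟨_, h, rfl⟩)⟩

/-- S1506: the coefficient table of a class function vanishing on `V` is additive. -/
theorem eta_additive {f : G → ℂ} (hf : IsClassFunction G f) (hV : ∀ v : M, d.InV v → f (v : G) = 0)
    (a a' : W₁ →* ℂˣ) (b b' : W₂ →* ℂˣ) :
    classInner f (d.eta a b) + classInner f (d.eta a' b') =
      classInner f (d.eta a b') + classInner f (d.eta a' b) := by
  have e : ∀ (a : W₁ →* ℂˣ) (b : W₂ →* ℂˣ), d.eta a b = d.fam (d.omegaG a 1 * d.omegaG 1 b) := fun a b => by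
    rw [eta, ← d.omegaG_mul, show a * 1 = a from MonoidHom.ext fun x => mul_one _,
      show 1 * b = b from MonoidHom.ext fun x => one_mul _]
  simp only [e]
  refine Cfsg.Agent.S1506.result _ _ d.self d.fam d.isFam f hf
    (fun w h1 h2 => hV _ (d.inV_of_mem h1 h2)) _ _ _ _ (fun w hw => ?_) fun w hw => ?_
  · have hw' : ((tenHom W₁ W₂ w : ↥(W₁ ⊔ W₂)) : M) ∈ W₂ := mem_map_iff'.mp hw
    constructor <;> simp [omegaG, d.prime.col_one, d.prime.row_apply₂ _ hw']
  · have hw' : ((tenHom W₁ W₂ w : ↥(W₁ ⊔ W₂)) : M) ∈ W₁ := mem_map_iff'.mp hw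
    constructor <;> simp [omegaG, d.prime.row_one, d.prime.col_apply₁ _ hw']

/-- S1503: a signed irreducible orthogonal to every `η` vanishes on `V`. -/
theorem eq_zero_of_orth_eta {θ : G → ℂ} (hθ : IsSignedIrr θ) (h : ∀ a b, classInner θ (d.eta a b) = 0)
    {v : M} (hv : d.InV v) : θ (v : G) = 0 := by
  have hv' : (v : G) ∈ W₁.map M.subtype ⊔ W₂.map M.subtype := by
    rw [← Subgroup.map_sup]; exact ⟨v, hv.1, rfl⟩
  have hall : ∀ ω : WLin (W₁.map M.subtype) (W₂.map M.subtype), classInner θ (d.fam ω) = 0 := fun ω => by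
    obtain ⟨ω', rfl⟩ : ∃ ω' : WLin W₁ W₂, ω'.comp (tenHom W₁ W₂) = ω := by
      have hinj : Function.Injective (tenHom W₁ W₂) := fun x y e =>
        Subtype.ext (congrArg (fun z : ↥(W₁ ⊔ W₂) => ((z : M) : G)) e)
      refine ⟨ω.comp (MulEquiv.ofBijective (tenHom W₁ W₂) ⟨hinj, tenHom_surjective W₁ W₂⟩).symm.toMonoidHom, ?_⟩
      refine MonoidHom.ext fun x => ?_
      show ω ((MulEquiv.ofBijective (tenHom W₁ W₂) ⟨hinj, tenHom_surjective W₁ W₂⟩).symm (tenHom W₁ W₂ x)) = ω x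
      congr 1
      exact (MulEquiv.ofBijective (tenHom W₁ W₂) ⟨hinj, tenHom_surjective W₁ W₂⟩).symm_apply_apply x
    obtain ⟨a, b, rfl⟩ := d.prime.exists_row_col ω'
    exact h a b
  have key := fun ψ (hψ : IsIrrCharacter G ψ) (hψ' : ∀ ω, classInner ψ (d.fam ω) = 0) =>
    Cfsg.Agent.S1503.result _ _ d.self d.fam d.isFam ψ hψ hψ' ⟨(v : G), hv'⟩
      (fun h => hv.2.1 (mem_map_iff'.mp h)) fun h => hv.2.2 (mem_map_iff'.mp h)
  rcases hθ with hi | hi
  · exact key θ hi hall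
  · simpa using key (-θ) hi fun ω => by rw [classInner_neg_left, hall, neg_zero]

theorem mem_tenA₀_of_mem_kernel {x : M} (hx : x ∈ K) (h1 : x ≠ 1) : (x : G) ∈ tenA₀ M W₁ := by
  haveI := d.prime.normal
  rw [mem_tenA₀]
  intro g hg
  have : g * x * g⁻¹ ∈ K ⊓ W₁ := ⟨d.prime.normal.conj_mem x hx g, hg⟩
  rw [d.prime.inf_eq_bot, Subgroup.mem_bot] at this
  exact h1 (by simpa using this)

theorem mem_tenA₀_of_inV {v : M} (hv : d.InV v) : (v : G) ∈ tenA₀ M W₁ := by
  rw [mem_tenA₀]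
  intro g hg
  have hgen : g * v * g⁻¹ * ((d.prime.proj (g * v * g⁻¹) : W₁) : M)⁻¹ = 1 := by
    rw [d.prime.proj_of_mem₁ hg]; exact mul_inv_cancel _
  -- `v` is the product of its two parts; a conjugate in `W₁` has the same projection
  have hp : d.prime.proj (g * v * g⁻¹) = d.prime.proj v := by
    rw [map_mul, map_mul, map_inv, d.prime.comm₁, inv_mul_cancel_left]
  have hv1 : (g * v * g⁻¹ : M) = ((d.prime.proj v : W₁) : M) := by
    rw [← hp]; exact (mul_inv_eq_one.mp hgen)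
  set a : M := ((d.prime.proj v : W₁) : M) with ha
  have haW : a ∈ W₁ := SetLike.coe_mem _
  have hcW : a⁻¹ * v ∈ W₂ := by
    refine d.prime.mem₂_of_mem_kernel ((W₁ ⊔ W₂).mul_mem (Subgroup.mem_sup_left (W₁.inv_mem haW)) hv.1) ?_
    rw [← d.prime.proj_eq_one_iff, map_mul, map_inv, ha, d.prime.proj_coe, inv_mul_cancel]
  set c : M := a⁻¹ * v with hc
  have hac : a * c = c * a := d.prime.comm a haW c hcW
  have hvac : v = a * c := by rw [hc]; group
  obtain ⟨m, hm⟩ : ∃ m, (Nat.card W₂) ∣ m ∧ a ^ m = a := by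
    have hco : (Nat.card W₂).Coprime (orderOf a) :=
      ((d.prime.coprime.coprime_dvd_right (Subgroup.card_dvd_of_le d.prime.le_kernel)).coprime_dvd_left
        (W₁.orderOf_dvd_natCard haW)).symm
    obtain ⟨m, hm⟩ := exists_pow_eq_self_of_coprime hco
    exact ⟨Nat.card W₂ * m, dvd_mul_right _ _, by rw [pow_mul, hm]⟩
  have hcm : c ^ m = 1 := by
    obtain ⟨t, rfl⟩ := hm.1
    rw [pow_mul, show c ^ Nat.card W₂ = 1 from congrArg Subtype.val (pow_card_eq_one' (x := (⟨c, hcW⟩ : W₂))),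
      one_pow]
  have e := congrArg (fun z : M => z ^ m) hv1
  simp only [conj_pow] at e
  rw [hvac, (show Commute a c from hac).mul_pow, hcm, mul_one, hm.2] at e
  rw [hvac] at hv1
  have : g * c * g⁻¹ = 1 := by
    calc g * c * g⁻¹ = (g * a * g⁻¹)⁻¹ * (g * (a * c) * g⁻¹) := by group
      _ = 1 := by rw [hv1, e, inv_mul_cancel]
  have hc1 : c = 1 := by simpa using this
  exact hv.2.1 (by rw [hvac, hc1, mul_one]; exact haW)

theorem map_sup_le : W₁.map M.subtype ⊔ W₂.map M.subtype ≤ M :=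
  sup_le (Subgroup.map_subtype_le W₁) (Subgroup.map_subtype_le W₂)

theorem H_eq_bot {v : M} (hv : d.InV v) : H (v : G) = ⊥ :=
  dade_H_eq_bot_of_cyclicTI d.dade d.self d.map_sup_le (by rw [← Subgroup.map_sup]; exact ⟨v, hv.1, rfl⟩)
    (fun h => hv.2.1 (mem_map_iff'.mp h)) (fun h => hv.2.2 (mem_map_iff'.mp h)) (d.mem_tenA₀_of_inV hv)

/-- The Dade map of `M`. -/
noncomputable def tau (_d : TenData M K W₁ W₂ H) : (M → ℂ) → (G → ℂ) := dadeIsometry (tenA₀ M W₁) M H

theorem tau_inV {α : M → ℂ} (hα : IsClassFunction M α) {v : M} (hv : d.InV v) : d.tau α (v : G) = α v :=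
  dade_apply d.dade hα (d.mem_tenA₀_of_inV hv) (u := 1) (Subgroup.one_mem _) (x := 1) (by simp)

/-- The functions on which the Dade map is used: class functions vanishing on the conjugates of `W₁`. -/
def Supported (_d : TenData M K W₁ W₂ H) (α : M → ℂ) : Prop :=
  IsClassFunction M α ∧ ∀ a ∈ W₁, α a = 0

theorem supported_vanish {α : M → ℂ} (hα : d.Supported α) : ∀ x : M, (x : G) ∉ tenA₀ M W₁ → α x = 0 := by
  intro x hx
  rw [mem_tenA₀] at hx
  push Not at hx
  obtain ⟨g, hg⟩ := hx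
  rw [← hα.1 x g]
  exact hα.2 _ hg

theorem tau_isClassFunction {α : M → ℂ} (hα : d.Supported α) : IsClassFunction G (d.tau α) :=
  isClassFunction_dade d.dade hα.1

theorem tau_gen {α : M → ℂ} (hα : d.Supported α) (hg : IsGeneralizedCharacter M α) :
    IsGeneralizedCharacter G (d.tau α) :=
  isGenChar_dade d.dade hg (d.supported_vanish hα)

theorem tau_inner {α β : M → ℂ} (hα : d.Supported α) (hβ : d.Supported β) :
    classInner (d.tau α) (d.tau β) = classInner α β :=
  classInner_dade_dade d.dade hα.1 (d.supported_vanish hα) hβ.1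

theorem card_hom₁' [Fintype (W₁ →* ℂˣ)] : Fintype.card (W₁ →* ℂˣ) = Nat.card W₁ := d.prime.card_hom₁

theorem card_hom₂' [Fintype (W₂ →* ℂˣ)] : Fintype.card (W₂ →* ℂˣ) = Nat.card W₂ := by
  have := sum_hom_abelian d.prime.comm₂ 1
  simp at this
  exact_mod_cast this

theorem three_le_hom₁ [Fintype (W₁ →* ℂˣ)] : 3 ≤ Fintype.card (W₁ →* ℂˣ) := d.card_hom₁' ▸ d.prime.three_le₁

theorem three_le_hom₂ [Fintype (W₂ →* ℂˣ)] : 3 ≤ Fintype.card (W₂ →* ℂˣ) := d.card_hom₂' ▸ d.prime.three_le₂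

theorem delta_col_inv (b : W₂ →* ℂˣ) : d.prime.delta (d.prime.col b⁻¹) = d.prime.delta (d.prime.col b) := by
  rw [d.prime.col_inv, (d.prime.mu_conj _).2]

theorem mu_supported_sub {a : W₁ →* ℂˣ} {b c : W₂ →* ℂˣ} (hdeg : d.prime.colChar b 1 = d.prime.colChar c 1) :
    d.Supported (d.prime.mu (d.prime.row a * d.prime.col b) - d.prime.mu (d.prime.row a * d.prime.col c)) := by
  refine ⟨isClassFunction_sub (d.prime.mu_isClassFunction _) (d.prime.mu_isClassFunction _), fun x hx => ?_⟩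
  by_cases h1 : x = 1
  · subst h1
    rw [Pi.sub_apply]
    have e1 := d.prime.mu_restrict a b 1
    have e2 := d.prime.mu_restrict a c 1
    simp only [Subgroup.coe_one] at e1 e2
    rw [e1, e2, hdeg, sub_self]
  · have hw : ((⟨x, Subgroup.mem_sup_left hx⟩ : ↥(W₁ ⊔ W₂)) : M) ∉ W₂ := d.prime.notMem₂ hx h1
    rw [Pi.sub_apply, d.prime.mu_apply _ hw, d.prime.mu_apply _ hw, d.prime.row_mul_col_apply₁ a b hx,
      d.prime.row_mul_col_apply₁ a c hx, d.prime.delta_row_mul_col, d.prime.delta_row_mul_col,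
      d.prime.delta_eq_of_degree hdeg, sub_self]

/-- **(4.8)** The image of the difference of two exceptional characters of equal degree in one row. -/
theorem tau_mu_sub {a : W₁ →* ℂˣ} {b c : W₂ →* ℂˣ} (hbc : b ≠ c)
    (hdeg : d.prime.colChar b 1 = d.prime.colChar c 1) :
    d.tau (d.prime.mu (d.prime.row a * d.prime.col b) - d.prime.mu (d.prime.row a * d.prime.col c)) =
      d.prime.delta (d.prime.col b) • (d.eta a b - d.eta a c) := by
  classical
  haveI := Fintype.ofFinite (W₁ →* ℂˣ)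
  haveI := Fintype.ofFinite (W₂ →* ℂˣ)
  set α : M → ℂ := d.prime.mu (d.prime.row a * d.prime.col b) - d.prime.mu (d.prime.row a * d.prime.col c) with hα
  have hs : d.Supported α := d.mu_supported_sub hdeg
  have hg : IsGeneralizedCharacter M α := isGenChar_sub (isGenChar_of_char (isCharacter_of_irr (d.prime.isIrr_mu _)))
    (isGenChar_of_char (isCharacter_of_irr (d.prime.isIrr_mu _)))
  set X := d.tau α with hX
  have hXg : IsGeneralizedCharacter G X := d.tau_gen hs hg
  obtain ⟨δ, hδ, hδC⟩ : ∃ δ : ℤ, δ * δ = 1 ∧ d.prime.delta (d.prime.col b) = δ := by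
    rcases d.prime.delta_eq_or (d.prime.col b) with h | h
    · exact ⟨1, by norm_num, by simp [h]⟩
    · exact ⟨-1, by norm_num, by simp [h]⟩
  choose k hk using fun p : (W₁ →* ℂˣ) × (W₂ →* ℂˣ) => classInner_genChar_int hXg (d.eta_gen p.1 p.2)
  have hne : d.prime.row a * d.prime.col b ≠ d.prime.row a * d.prime.col c := fun e =>
    hbc (d.prime.row_col_injective e).2
  have hnorm : classInner X X = ((2 : ℤ) : ℂ) := by
    rw [hX, d.tau_inner hs hs, hα]
    simp only [classInner_sub_left, classInner_sub_right, classInner_irr_self (d.prime.isIrr_mu _),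
      classInner_irr_ne (d.prime.isIrr_mu _) (d.prime.isIrr_mu _) fun e => hne (d.prime.mu_injective e),
      classInner_irr_ne (d.prime.isIrr_mu _) (d.prime.isIrr_mu _) fun e => hne (d.prime.mu_injective e).symm]
    norm_num
  have hzero : ∀ v : M, d.InV v → (X - (δ : ℂ) • (d.eta a b - d.eta a c)) (v : G) = 0 := fun v hv => by
    rw [Pi.sub_apply, hX, d.tau_inV hs.1 hv, Pi.smul_apply, Pi.sub_apply, d.eta_apply _ _ hv, d.eta_apply _ _ hv,
      hα, Pi.sub_apply, d.prime.mu_apply _ (w := ⟨v, hv.1⟩) hv.2.2, d.prime.mu_apply _ (w := ⟨v, hv.1⟩) hv.2.2,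
      d.prime.delta_row_mul_col, d.prime.delta_row_mul_col, ← d.prime.delta_eq_of_degree hdeg, hδC, smul_eq_mul]
    ring
  have hcorner : ∀ x, x ≠ a → k (a, b) - k (a, c) - k (x, b) + k (x, c) = 2 * δ := by
    intro x hx
    have := d.eta_additive (isClassFunction_sub (isGenChar_iff_coeff_int.mp hXg).1
      (isClassFunction_smul _ (isClassFunction_sub (isGenChar_iff_coeff_int.mp (d.eta_gen a b)).1
        (isGenChar_iff_coeff_int.mp (d.eta_gen a c)).1))) hzero a x b c
    simp only [classInner_sub_left, classInner_smul_left, d.eta_orth, hk (a, b), hk (a, c), hk (x, b), hk (x, c),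
      hbc, hbc.symm, Ne.symm hx, and_true, and_false, if_true, if_false] at this
    have h : ((k (a, b) - k (a, c) - k (x, b) + k (x, c) : ℤ) : ℂ) = ((2 * δ : ℤ) : ℂ) := by
      push_cast
      linear_combination this
    exact_mod_cast h
  obtain ⟨hle, heq⟩ := bessel_int (e := fun p : (W₁ →* ℂˣ) × (W₂ →* ℂˣ) => d.eta p.1 p.2) (c := k)
    (fun p q => by simp [d.eta_orth, Prod.ext_iff]) hk hnorm
  rw [Fintype.sum_prod_type] at hle heq
  have hgrid := grid_eq (c := fun x y => k (x, y)) d.three_le_hom₁ hbc hδ hcorner hle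
  have h2 := two_le_grid (c := fun x y => k (x, y)) d.three_le_hom₁ hbc hδ hcorner
  rw [heq (le_antisymm hle h2), Fintype.sum_prod_type, Finset.sum_eq_single a
    (fun x _ hx => Finset.sum_eq_zero fun y _ => by rw [hgrid x y, if_neg hx, Int.cast_zero, zero_smul])
    (fun h => absurd (Finset.mem_univ a) h),
    ← Finset.sum_subset (Finset.subset_univ ({b, c} : Finset (W₂ →* ℂˣ))) (fun y _ hy => by
      simp only [Finset.mem_insert, Finset.mem_singleton, not_or] at hy
      rw [hgrid a y, if_pos rfl, if_neg hy.1, if_neg hy.2, Int.cast_zero, zero_smul]),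
    Finset.sum_pair hbc, hgrid a b, hgrid a c, hδC]
  simp only [if_true, if_neg hbc.symm]
  push_cast
  module

/-- **(4.9)** The image of the difference of two column sums of equal degree. -/
theorem tau_muSum_sub [Fintype (W₁ →* ℂˣ)] {b c : W₂ →* ℂˣ} (hbc : b ≠ c)
    (hdeg : d.prime.colChar b 1 = d.prime.colChar c 1) :
    d.tau (d.prime.muSum b - d.prime.muSum c) =
      d.prime.delta (d.prime.col b) • ((∑ a, d.eta a b) - ∑ a, d.eta a c) := by
  rw [IsPrimeTI.muSum, IsPrimeTI.muSum, ← Finset.sum_sub_distrib, tau, dade_sum, ← Finset.sum_sub_distrib,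
    Finset.smul_sum]
  exact Finset.sum_congr rfl fun a _ => d.tau_mu_sub hbc hdeg

end TenData

end CfsgLib.OddOrder.Ten
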