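/-
Peterfalvi (10.2)-(10.6): the linear induced character `ζ`, and the values of the Dade map on
`α_{ij}` and on `μ₀ - ζ` under coherence.
-/
import Cfsg.Agent.Lib.OddOrder.S10.Setup
import Cfsg.Agent.Lib.CharTheory.CoherenceDescend
import Cfsg.Agent.Lib.CharTheory.CoherenceUnion
import Cfsg.Agent.Lib.CharTheory.TIKernel
import Cfsg.Agent.Lib.CharTheory.Partition
import Cfsg.Agent.Lib.CharTheory.More

set_option autoImplicit false
set_option linter.unusedSectionVars false
set_option linter.style.haveILetI false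

namespace CfsgLib.OddOrder.Ten

open Cfsg CfsgLib.CharTheory CfsgLib.Dade CfsgLib.OddOrder.Found
open scoped ComplexConjugate commutatorElement

universe u

variable {G : Type u} [Group G] [Fintype G] {M : Subgroup G} [Fintype M] {K W₁ W₂ : Subgroup M}
  {H : G → Subgroup G}

/-- A function on the characters of `M` extending the Dade map isometrically (coherence). -/
structure TenExt (d : TenData M K W₁ W₂ H) (τ₁ : (M → ℂ) → (G → ℂ)) : Prop where
  iso : IsLinearIsometryOn (zspan (inducedIrrAbove K (⊥ : Subgroup M))) τ₁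
  agree : ∀ α ∈ zspanOn (inducedIrrAbove K (⊥ : Subgroup M)) {1}ᶜ, τ₁ α = d.tau α

/-- A member `ζ` of `S` induced from a nontrivial linear character. -/
structure IsTenZeta (_d : TenData M K W₁ W₂ H) (ζ : M → ℂ) : Prop where
  mem : ζ ∈ inducedIrrAbove K (⊥ : Subgroup M)
  irr : IsIrrCharacter M ζ
  deg : ζ 1 = (Nat.card W₁ : ℂ)
  ne_mu : ∀ (a : W₁ →* ℂˣ) (b : W₂ →* ℂˣ), ζ ≠ _d.prime.mu (_d.prime.row a * _d.prime.col b)
  zero_off : ∀ x : M, x ∉ K → ζ x = 0

namespace TenData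

variable (d : TenData M K W₁ W₂ H)
include d

theorem tau_sub' (α β : M → ℂ) : d.tau (α - β) = d.tau α - d.tau β := dade_sub α β

theorem tau_smul' (c : ℂ) (α : M → ℂ) : d.tau (c • α) = c • d.tau α := dade_smul c α

theorem tau_sum' {ι : Type*} (s : Finset ι) (f : ι → M → ℂ) : d.tau (∑ i ∈ s, f i) = ∑ i ∈ s, d.tau (f i) :=
  dade_sum s f

theorem mem_induced_of_ne {θ : K → ℂ} (hθ : IsIrrCharacter K θ) (h1 : θ ≠ fun _ => 1) :
    indFun K θ ∈ inducedIrrAbove K (⊥ : Subgroup M) :=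
  ⟨θ, hθ, h1, fun a ha => by rw [Subgroup.mem_bot] at ha; rw [show a = 1 from Subtype.ext ha], rfl⟩

theorem muSum_mem [Fintype (W₁ →* ℂˣ)] {b : W₂ →* ℂˣ} (hb : b ≠ 1) :
    d.prime.muSum b ∈ inducedIrrAbove K (⊥ : Subgroup M) := by
  rw [← d.prime.indFun_colChar]
  exact d.mem_induced_of_ne (d.prime.isIrr_colChar b) (d.prime.colChar_ne_one hb)

theorem colChar_deg_ne_one {b : W₂ →* ℂˣ} (hb : b ≠ 1) : d.prime.colChar b 1 ≠ 1 := fun h1 => by
  obtain ⟨φ, hφ⟩ := exists_hom_of_degree_one (isCharacter_of_irr (d.prime.isIrr_colChar b)) h1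
  refine hb (d.prime.eq_one_of_kernel fun k hk => ?_)
  have hk' : k ∈ commutator K := by
    have := d.le_derived hk
    rw [← Subgroup.map_subtype_commutator] at this
    obtain ⟨y, hy, e⟩ := this
    exact Subtype.val_injective e ▸ hy
  have : φ k = 1 := Abelianization.commutator_subset_ker φ hk'
  rw [hφ]
  simp [this]

theorem exists_zeta : ∃ ζ, IsTenZeta d ζ := by
  haveI := d.prime.normal
  haveI : Nontrivial K := by
    rw [Subgroup.nontrivial_iff_ne_bot]
    exact fun e => d.prime.ne_bot₂ (eq_bot_iff.mpr (e ▸ d.prime.le_kernel))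
  haveI := d.solv
  have hlt : commutator K ≠ ⊤ := fun e => by
    have := Group.IsSolvable.commutator_lt_top_of_nontrivial (G := K)
    exact this.ne e
  haveI : Finite (K →* ℂˣ) :=
    Nat.finite_of_card_ne_zero (by rw [Partition.natCard_hom]; exact Subgroup.index_ne_zero_of_finite)
  haveI : Nontrivial (K →* ℂˣ) := by
    rw [← Finite.one_lt_card_iff_nontrivial, Partition.natCard_hom]
    exact Subgroup.one_lt_index_of_ne_top hlt
  obtain ⟨φ, hφ⟩ := exists_ne (1 : K →* ℂˣ)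
  set θ : K → ℂ := fun k => (φ k : ℂ)
  have hθ : IsIrrCharacter K θ := isIrrCharacter_linear φ
  have h1 : θ ≠ fun _ => 1 := fun e => hφ (MonoidHom.ext fun k => Units.ext (congrFun e k))
  have hne : ∀ b, θ ≠ d.prime.colChar b := fun b e => by
    by_cases hb : b = 1
    · exact h1 (by rw [e, hb, d.prime.colChar_one])
    · exact d.colChar_deg_ne_one hb (by rw [← e]; simp [θ])
  refine ⟨indFun K θ, d.mem_induced_of_ne hθ h1, d.prime.isIrr_indFun_of_ne hθ hne, ?_,
    fun a b => d.prime.indFun_ne_mu hθ hne _, fun x hx => indFun_normal_apply_not_mem K θ hx⟩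
  have hi := indFun_apply_one K θ
  rw [hi, d.prime.index_eq]
  simp [θ]

theorem span_zero_off {f : M → ℂ} (hf : f ∈ zspan (inducedIrrAbove K (⊥ : Subgroup M))) :
    IsGeneralizedCharacter M f ∧ ∀ x : M, x ∉ K → f x = 0 := by
  haveI := d.prime.normal
  exact span_induced_props M K hf

theorem supported_of_zspanOn {f : M → ℂ} (hf : f ∈ zspanOn (inducedIrrAbove K (⊥ : Subgroup M)) {1}ᶜ) :
    d.Supported f := by
  obtain ⟨hg, hz⟩ := d.span_zero_off hf.1
  refine ⟨(isGenChar_iff_coeff_int.mp hg).1, fun a ha => ?_⟩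
  by_cases h1 : a = 1
  · exact hf.2 a (by simp [h1])
  · exact hz a fun hk => h1 (Subgroup.mem_bot.mp (d.prime.inf_eq_bot ▸ Subgroup.mem_inf.mpr ⟨hk, ha⟩))

theorem inV_notMem_kernel {v : M} (hv : d.InV v) : v ∉ K := fun hk =>
  hv.2.2 (d.prime.mem₂_of_mem_kernel hv.1 hk)

theorem tau_zero_inV {f : M → ℂ} (hf : f ∈ zspanOn (inducedIrrAbove K (⊥ : Subgroup M)) {1}ᶜ) {v : M}
    (hv : d.InV v) : d.tau f (v : G) = 0 := by
  rw [d.tau_inV (d.supported_of_zspanOn hf).1 hv, (d.span_zero_off hf.1).2 v (d.inV_notMem_kernel hv)]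

theorem comb_mem {χ φ : M → ℂ} (hχ : χ ∈ inducedIrrAbove K (⊥ : Subgroup M))
    (hφ : φ ∈ inducedIrrAbove K (⊥ : Subgroup M)) (k : ℤ) (h1 : χ 1 = k * φ 1) :
    χ - (k : ℂ) • φ ∈ zspanOn (inducedIrrAbove K (⊥ : Subgroup M)) {1}ᶜ := by
  refine ⟨?_, fun x hx => ?_⟩
  · rw [Int.cast_smul_eq_zsmul]
    exact Submodule.sub_mem _ (Submodule.subset_span hχ) (Submodule.smul_mem _ k (Submodule.subset_span hφ))
  · rw [Set.mem_compl_iff, Set.mem_singleton_iff, not_not] at hx
    subst hx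
    simp [h1]

theorem ext_comb {τ₁ : (M → ℂ) → (G → ℂ)} (hT : TenExt d τ₁) {χ φ : M → ℂ}
    (hχ : χ ∈ inducedIrrAbove K (⊥ : Subgroup M)) (hφ : φ ∈ inducedIrrAbove K (⊥ : Subgroup M)) (k : ℤ)
    (h1 : χ 1 = k * φ 1) : d.tau (χ - (k : ℂ) • φ) = τ₁ χ - (k : ℂ) • τ₁ φ := by
  have hmem := d.comb_mem hχ hφ k h1
  rw [← hT.agree _ hmem]
  obtain ⟨ha, hs, -, -⟩ := hT.iso
  have hφ' : φ ∈ zspan (inducedIrrAbove K (⊥ : Subgroup M)) := Submodule.subset_span hφ
  rw [sub_eq_add_neg, ← neg_smul, ← Int.cast_neg, Int.cast_smul_eq_zsmul,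
    ha χ (Submodule.subset_span hχ) _ (Submodule.smul_mem _ (-k) hφ'), hs φ hφ' (-k),
    sub_eq_add_neg, ← neg_smul (k : ℂ), ← Int.cast_neg, Int.cast_smul_eq_zsmul]

theorem ext_inner {τ₁ : (M → ℂ) → (G → ℂ)} (hT : TenExt d τ₁) {χ φ : M → ℂ}
    (hχ : χ ∈ inducedIrrAbove K (⊥ : Subgroup M)) (hφ : φ ∈ inducedIrrAbove K (⊥ : Subgroup M)) :
    classInner (τ₁ χ) (τ₁ φ) = classInner χ φ :=
  hT.iso.2.2.1 χ (Submodule.subset_span hχ) φ (Submodule.subset_span hφ)

theorem ext_gen {τ₁ : (M → ℂ) → (G → ℂ)} (hT : TenExt d τ₁) {χ : M → ℂ}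
    (hχ : χ ∈ inducedIrrAbove K (⊥ : Subgroup M)) : IsGeneralizedCharacter G (τ₁ χ) :=
  hT.iso.2.2.2 χ (Submodule.subset_span hχ)

theorem ext_signed {τ₁ : (M → ℂ) → (G → ℂ)} (hT : TenExt d τ₁) {χ : M → ℂ}
    (hχ : χ ∈ inducedIrrAbove K (⊥ : Subgroup M)) (hirr : IsIrrCharacter M χ) : IsSignedIrr (τ₁ χ) :=
  irr_or_neg_of_norm_one (d.ext_gen hT hχ) (by rw [d.ext_inner hT hχ hχ, classInner_irr_self hirr])

theorem induced_conj_ne' {χ : M → ℂ} (hχ : χ ∈ inducedIrrAbove K (⊥ : Subgroup M)) : conjFun χ ≠ χ := by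
  obtain ⟨θ, h1, h2, -, rfl⟩ := hχ
  exact d.prime.indFun_conj_ne d.oddM h1 h2

theorem conj_apply_one {χ : M → ℂ} (hχ : IsIrrCharacter M χ) : conjFun χ 1 = χ 1 := by
  obtain ⟨k, -, hk⟩ := irr_degree_pos hχ
  show conj (χ 1) = χ 1
  rw [hk, map_natCast]

/-- **(10.5a)** Coherent images of irreducible members are orthogonal to every `η`. -/
theorem ext_orth_eta {τ₁ : (M → ℂ) → (G → ℂ)} (hT : TenExt d τ₁) {χ : M → ℂ}
    (hχ : χ ∈ inducedIrrAbove K (⊥ : Subgroup M)) (hirr : IsIrrCharacter M χ)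
    (a : W₁ →* ℂˣ) (b : W₂ →* ℂˣ) : classInner (τ₁ χ) (d.eta a b) = 0 := by
  classical
  haveI := Fintype.ofFinite (W₁ →* ℂˣ)
  haveI := Fintype.ofFinite (W₂ →* ℂˣ)
  have hχ' : conjFun χ ∈ inducedIrrAbove K (⊥ : Subgroup M) := inducedIrrAbove_conj K ⊥ hχ
  have hirr' : IsIrrCharacter M (conjFun χ) := isIrrCharacter_conjChar hirr
  have hs := d.ext_signed hT hχ hirr
  have hs' := d.ext_signed hT hχ' hirr'
  have horth : classInner (τ₁ χ) (τ₁ (conjFun χ)) = 0 := by
    rw [d.ext_inner hT hχ hχ', classInner_irr_ne hirr hirr' (d.induced_conj_ne' hχ).symm]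
  have h1 : χ 1 = ((1 : ℤ) : ℂ) * conjFun χ 1 := by rw [d.conj_apply_one hirr, Int.cast_one, one_mul]
  have hV : ∀ v : M, d.InV v → (τ₁ χ - τ₁ (conjFun χ)) (v : G) = 0 := fun v hv => by
    have e := d.ext_comb hT hχ hχ' 1 h1
    have hz := d.tau_zero_inV (d.comb_mem hχ hχ' 1 h1) hv
    rw [e] at hz
    simpa using hz
  choose c hc using fun x y => classInner_genChar_int (d.ext_gen hT hχ) (d.eta_gen x y)
  choose e he using fun x y => classInner_genChar_int (d.ext_gen hT hχ') (d.eta_gen x y)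
  have uniq : ∀ {f : G → ℂ}, IsSignedIrr f → ∀ p q : (W₁ →* ℂˣ) × (W₂ →* ℂˣ),
      classInner f (d.eta p.1 p.2) ≠ 0 → classInner f (d.eta q.1 q.2) ≠ 0 → p = q := by
    intro f hf p q hp hq
    obtain ⟨ε, -, rfl⟩ := (signed_cases hf (d.eta_signed p.1 p.2)).resolve_left hp
    rw [classInner_smul_left, d.eta_orth] at hq
    by_contra hne
    rw [if_neg fun h => hne (Prod.ext h.1 h.2), mul_zero] at hq
    exact hq rfl
  have key := single_table d.three_le_hom₁ d.three_le_hom₂ (c := c) (e := e)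
    (fun p q hp hq => uniq hs p q (by rw [hc]; exact_mod_cast hp) (by rw [hc]; exact_mod_cast hq))
    (fun p q hp hq => uniq hs' p q (by rw [he]; exact_mod_cast hp) (by rw [he]; exact_mod_cast hq))
    (fun x y hxy => by
      by_contra h
      obtain ⟨ε, -, h1⟩ := (signed_cases hs (d.eta_signed x y)).resolve_left (by rw [hc]; exact_mod_cast hxy)
      obtain ⟨ε', -, h2⟩ := (signed_cases hs' (d.eta_signed x y)).resolve_left (by rw [he]; exact_mod_cast h)
      rw [h1, h2, classInner_smul_left, classInner_smul_right, d.eta_orth, if_pos ⟨rfl, rfl⟩] at horth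
      rcases mul_eq_zero.mp horth with e0 | e0
      · exact hxy (Int.cast_eq_zero.mp (by rw [← hc, h1, classInner_smul_left, e0, zero_mul]))
      · rw [mul_one, map_eq_zero] at e0
        exact h (Int.cast_eq_zero.mp (by rw [← he, h2, classInner_smul_left, e0, zero_mul])))
    (fun x x' y y' => by
      have := d.eta_additive (isClassFunction_sub (isGenChar_iff_coeff_int.mp (d.ext_gen hT hχ)).1
        (isGenChar_iff_coeff_int.mp (d.ext_gen hT hχ')).1) hV x x' y y'
      simp only [classInner_sub_left, hc, he] at this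
      have h : ((c x y - e x y - (c x y' - e x y') - (c x' y - e x' y) + (c x' y' - e x' y') : ℤ) : ℂ) =
          ((0 : ℤ) : ℂ) := by push_cast; linear_combination this
      exact_mod_cast h)
  rw [hc, key, Int.cast_zero]

theorem ext_zero_inV {τ₁ : (M → ℂ) → (G → ℂ)} (hT : TenExt d τ₁) {χ : M → ℂ}
    (hχ : χ ∈ inducedIrrAbove K (⊥ : Subgroup M)) (hirr : IsIrrCharacter M χ) {v : M} (hv : d.InV v) :
    τ₁ χ (v : G) = 0 :=
  d.eq_zero_of_orth_eta (d.ext_signed hT hχ hirr) (d.ext_orth_eta hT hχ hirr) hv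

theorem inv_column_ne {b : W₂ →* ℂˣ} (hb : b ≠ 1) : b ≠ b⁻¹ := (d.prime.inv_ne_self₂ hb).symm

theorem colChar_inv_deg (b : W₂ →* ℂˣ) : d.prime.colChar b⁻¹ 1 = d.prime.colChar b 1 := by
  haveI := Fintype.ofFinite K
  obtain ⟨k, -, hk⟩ := irr_degree_pos (d.prime.isIrr_colChar b)
  rw [← d.prime.colChar_conj]
  show conj (d.prime.colChar b 1) = _
  rw [hk, map_natCast]

theorem muSum_apply_one [Fintype (W₁ →* ℂˣ)] (b : W₂ →* ℂˣ) :
    d.prime.muSum b 1 = (Nat.card W₁ : ℂ) * d.prime.colChar b 1 := by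
  rw [← d.prime.indFun_colChar, indFun_apply_one, d.prime.index_eq]

theorem delta_int (b : W₂ →* ℂˣ) : ∃ δ : ℤ, δ * δ = 1 ∧ d.prime.delta (d.prime.col b) = δ := by
  rcases d.prime.delta_eq_or (d.prime.col b) with h | h
  · exact ⟨1, by norm_num, by simp [h]⟩
  · exact ⟨-1, by norm_num, by simp [h]⟩

/-- **(10.5b)** The two possible images of a column sum. -/
theorem ext_muSum {τ₁ : (M → ℂ) → (G → ℂ)} (hT : TenExt d τ₁) [Fintype (W₁ →* ℂˣ)] {ζ : M → ℂ}
    (hζ : IsTenZeta d ζ) {b : W₂ →* ℂˣ} (hb : b ≠ 1) :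
    τ₁ (d.prime.muSum b) = d.prime.delta (d.prime.col b) • ∑ a, d.eta a b ∨
      τ₁ (d.prime.muSum b) = -(d.prime.delta (d.prime.col b) • ∑ a, d.eta a b⁻¹) := by
  classical
  haveI := Fintype.ofFinite (W₂ →* ℂˣ)
  have hbi : b⁻¹ ≠ 1 := fun h => hb (MonoidHom.ext fun x => inv_eq_one.mp (DFunLike.congr_fun h x))
  have hbb := d.inv_column_ne hb
  haveI := Fintype.ofFinite K
  obtain ⟨δ, hδ, hδC⟩ := d.delta_int b
  have hm := d.muSum_mem hb
  have hm' := d.muSum_mem hbi
  set T := τ₁ (d.prime.muSum b) with hTdef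
  choose c hc using fun x y => classInner_genChar_int (d.ext_gen hT hm) (d.eta_gen x y)
  have hnorm : classInner T T = ((Fintype.card (W₁ →* ℂˣ) : ℤ) : ℂ) := by
    rw [hTdef, d.ext_inner hT hm hm, d.prime.classInner_muSum, if_pos rfl, d.card_hom₁', Int.cast_natCast]
  have h1 : d.prime.muSum b 1 = ((1 : ℤ) : ℂ) * d.prime.muSum b⁻¹ 1 := by
    rw [Int.cast_one, one_mul, d.muSum_apply_one, d.muSum_apply_one, d.colChar_inv_deg]
  have hdiff : δ * ((∑ x, c x b) - ∑ x, c x b⁻¹) = Fintype.card (W₁ →* ℂˣ) := by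
    have e : classInner T (d.tau (d.prime.muSum b - d.prime.muSum b⁻¹)) =
        ((Fintype.card (W₁ →* ℂˣ) : ℤ) : ℂ) := by
      have e1 := d.ext_comb hT hm hm' 1 h1
      rw [Int.cast_one, one_smul, one_smul] at e1
      rw [e1, classInner_sub_right, hTdef, d.ext_inner hT hm hm, d.ext_inner hT hm hm', d.prime.classInner_muSum,
        d.prime.classInner_muSum, if_pos rfl, if_neg hbb, sub_zero, d.card_hom₁', Int.cast_natCast]
    rw [d.tau_muSum_sub hbb (d.colChar_inv_deg b).symm, classInner_smul_right, classInner_sub_right,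
      classInner_sum_right, classInner_sum_right, hδC, map_intCast] at e
    simp only [hTdef, hc] at e
    exact_mod_cast e
  have hV : ∀ v : M, d.InV v → T (v : G) = 0 := fun v hv => by
    obtain ⟨k, -, hk⟩ := irr_degree_pos (d.prime.isIrr_colChar b)
    have h1' : d.prime.muSum b 1 = ((k : ℤ) : ℂ) * ζ 1 := by
      rw [d.muSum_apply_one, hk, hζ.deg, Int.cast_natCast, mul_comm]
    have hz := d.tau_zero_inV (d.comb_mem hm hζ.mem k h1') hv
    rw [d.ext_comb hT hm hζ.mem k h1', Pi.sub_apply, Pi.smul_apply, d.ext_zero_inV hT hζ.mem hζ.irr hv,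
      smul_zero, sub_zero] at hz
    exact hz
  rw [hδC]
  refine column_image (η := fun x y => d.eta x y) (o := 1) (fun a b a' b' => d.eta_orth a b a' b') hc hbb hb hbi hδ
    hnorm hdiff fun x x' y y' => ?_
  have := d.eta_additive (isGenChar_iff_coeff_int.mp (d.ext_gen hT hm)).1 hV x x' y y'
  simp only [hc] at this
  have h : ((c x y - c x y' - c x' y + c x' y' : ℤ) : ℂ) = ((0 : ℤ) : ℂ) := by
    push_cast; linear_combination this
  exact_mod_cast h

/-- The function `α_{ab}` of section 10. -/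
noncomputable def tenAlpha (a : W₁ →* ℂˣ) (b : W₂ →* ℂˣ) (δ n : ℤ) (ζ : M → ℂ) : M → ℂ :=
  d.prime.mu (d.prime.row a * d.prime.col b) - (δ : ℂ) • d.prime.mu (d.prime.row a * d.prime.col 1) - (n : ℂ) • ζ

/-- The parameters of a nontrivial column: its sign, degree and `n`. -/
theorem exists_params {b : W₂ →* ℂˣ} (hb : b ≠ 1) : ∃ (δ n : ℤ) (e : ℕ), δ * δ = 1 ∧
    d.prime.delta (d.prime.col b) = δ ∧ d.prime.colChar b 1 = e ∧ (e : ℤ) = δ + n * Nat.card W₁ ∧ 2 ≤ n := by
  haveI := Fintype.ofFinite K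
  obtain ⟨δ, hδ, hδC⟩ := d.delta_int b
  obtain ⟨n, hn⟩ := d.prime.degree_congr (d.prime.col b)
  obtain ⟨e, he0, he⟩ := irr_degree_pos (d.prime.isIrr_colChar b)
  have hmu : d.prime.mu (d.prime.col b) 1 = (e : ℂ) := he
  have heq : (e : ℤ) = δ + n * Nat.card W₁ := by
    have : ((e : ℤ) : ℂ) = ((δ + n * Nat.card W₁ : ℤ) : ℂ) := by
      push_cast
      rw [hmu, hδC] at hn
      linear_combination hn
    exact_mod_cast this
  refine ⟨δ, n, e, hδ, hδC, he, heq, ?_⟩
  have he1 : e ≠ 1 := fun h => d.colChar_deg_ne_one hb (by rw [he, h, Nat.cast_one])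
  have hodd : Odd e := by
    refine (d.oddM.of_dvd_nat ?_)
    have hirr := d.prime.isIrr_mu (d.prime.col b)
    obtain ⟨h1, -⟩ := charDegree_spec' hirr
    rw [hmu] at h1
    rw [Nat.cast_injective h1]
    exact (charDegree_dvd_index_kernel hirr).trans (Subgroup.index_dvd_card _)
  have hw := d.prime.three_le₁
  have hwo := d.prime.odd₁
  have hs : δ = 1 ∨ δ = -1 := Int.eq_one_or_neg_one_of_mul_eq_one hδ |>.imp id id
  obtain ⟨k, hk⟩ := hodd
  have hn0 : 1 ≤ n := by
    by_contra h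
    have : n * Nat.card W₁ ≤ 0 := mul_nonpos_of_nonpos_of_nonneg (by omega) (by positivity)
    rcases hs with rfl | rfl <;> omega
  by_contra h
  have : n = 1 := by omega
  subst this
  obtain ⟨l, hl⟩ := hwo
  rcases hs with rfl | rfl <;> omega

theorem alpha_gen {ζ : M → ℂ} (hζ : IsTenZeta d ζ) (a : W₁ →* ℂˣ) (b : W₂ →* ℂˣ) (δ n : ℤ) :
    IsGeneralizedCharacter M (d.tenAlpha a b δ n ζ) :=
  isGenChar_sub (isGenChar_sub (isGenChar_of_char (isCharacter_of_irr (d.prime.isIrr_mu _)))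
    (isGenChar_intSmul δ (isGenChar_of_char (isCharacter_of_irr (d.prime.isIrr_mu _)))))
    (isGenChar_intSmul n (isGenChar_of_char (isCharacter_of_irr hζ.irr)))

theorem mu_apply_one (a : W₁ →* ℂˣ) (b : W₂ →* ℂˣ) :
    d.prime.mu (d.prime.row a * d.prime.col b) 1 = d.prime.colChar b 1 := by
  have := d.prime.mu_restrict a b 1
  simpa using this

theorem alpha_supported {ζ : M → ℂ} (hζ : IsTenZeta d ζ) (a : W₁ →* ℂˣ) {b : W₂ →* ℂˣ} {δ n : ℤ} {e : ℕ}
    (hδ : d.prime.delta (d.prime.col b) = δ) (he : d.prime.colChar b 1 = e)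
    (hen : (e : ℤ) = δ + n * Nat.card W₁) : d.Supported (d.tenAlpha a b δ n ζ) := by
  refine ⟨(isGenChar_iff_coeff_int.mp (d.alpha_gen hζ a b δ n)).1, fun x hx => ?_⟩
  simp only [tenAlpha, Pi.sub_apply, Pi.smul_apply, smul_eq_mul]
  by_cases h1 : x = 1
  · subst h1
    rw [d.mu_apply_one, d.mu_apply_one, he, d.prime.colChar_one, hζ.deg]
    have : ((e : ℤ) : ℂ) = ((δ + n * Nat.card W₁ : ℤ) : ℂ) := by rw [hen]
    push_cast at this
    linear_combination this
  · have hw : ((⟨x, Subgroup.mem_sup_left hx⟩ : ↥(W₁ ⊔ W₂)) : M) ∉ W₂ := d.prime.notMem₂ hx h1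
    rw [d.prime.mu_apply _ hw, d.prime.mu_apply _ hw, d.prime.row_mul_col_apply₁ a b hx,
      d.prime.row_mul_col_apply₁ a 1 hx, d.prime.delta_row_mul_col, d.prime.delta_row_mul_col, hδ,
      d.prime.col_one, d.prime.mu_one.2,
      hζ.zero_off x fun hk => h1 (Subgroup.mem_bot.mp (d.prime.inf_eq_bot ▸ Subgroup.mem_inf.mpr ⟨hk, hx⟩))]
    ring

theorem mu_inner_zeta {ζ : M → ℂ} (hζ : IsTenZeta d ζ) (a : W₁ →* ℂˣ) (b : W₂ →* ℂˣ) :
    classInner (d.prime.mu (d.prime.row a * d.prime.col b)) ζ = 0 :=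
  classInner_irr_ne (d.prime.isIrr_mu _) hζ.irr (hζ.ne_mu a b).symm

theorem alpha_inner_zeta {ζ : M → ℂ} (hζ : IsTenZeta d ζ) (a : W₁ →* ℂˣ) (b : W₂ →* ℂˣ) (δ n : ℤ) :
    classInner (d.tenAlpha a b δ n ζ) ζ = -(n : ℂ) := by
  simp only [tenAlpha, classInner_sub_left, classInner_smul_left, d.mu_inner_zeta hζ, classInner_irr_self hζ.irr]
  ring

/-- **(10.5)** The image of `α_{ab}` and of the column sum. -/
theorem ten_five {τ₁ : (M → ℂ) → (G → ℂ)} (hT : TenExt d τ₁) [Fintype (W₁ →* ℂˣ)] {ζ : M → ℂ}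
    (hζ : IsTenZeta d ζ) {b : W₂ →* ℂˣ} (hb : b ≠ 1) {δ n : ℤ} {e : ℕ} (hδ1 : δ * δ = 1)
    (hδ : d.prime.delta (d.prime.col b) = δ) (he : d.prime.colChar b 1 = e)
    (hen : (e : ℤ) = δ + n * Nat.card W₁) (hn : 2 ≤ n) :
    (∀ a, d.tau (d.tenAlpha a b δ n ζ) = (δ : ℂ) • (d.eta a b - d.eta a 1) - (n : ℂ) • τ₁ ζ) ∧
      τ₁ (d.prime.muSum b) = (δ : ℂ) • ∑ a, d.eta a b := by
  classical
  haveI := Fintype.ofFinite (W₂ →* ℂˣ)
  have hbi : b⁻¹ ≠ 1 := fun h => hb (MonoidHom.ext fun x => inv_eq_one.mp (DFunLike.congr_fun h x))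
  have hbb := d.inv_column_ne hb
  have hδi : d.prime.delta (d.prime.col b⁻¹) = δ := by rw [d.delta_col_inv, hδ]
  have hψ := d.ext_signed hT hζ.mem hζ.irr
  have hcol_inner : ∀ a x y, classInner (d.tenAlpha a b δ n ζ) (d.prime.mu (d.prime.row x * d.prime.col y)) =
      (if x = a ∧ y = b then 1 else 0) - (δ : ℂ) * (if x = a ∧ y = 1 then 1 else 0) := by
    intro a x y
    have hi : ∀ z, classInner (d.prime.mu (d.prime.row a * d.prime.col z))
        (d.prime.mu (d.prime.row x * d.prime.col y)) = if x = a ∧ y = z then (1 : ℂ) else 0 := fun z => by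
      rw [classInner_irr (d.prime.isIrr_mu _) (d.prime.isIrr_mu _)]
      by_cases h : x = a ∧ y = z
      · rw [if_pos h, if_pos (by rw [h.1, h.2])]
      · rw [if_neg h, if_neg fun e => h ?_]
        exact ⟨(d.prime.row_col_injective (d.prime.mu_injective e)).1.symm,
          (d.prime.row_col_injective (d.prime.mu_injective e)).2.symm⟩
    have hz : classInner ζ (d.prime.mu (d.prime.row x * d.prime.col y)) = 0 := by
      rw [← classInner_comm, d.mu_inner_zeta hζ, map_zero]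
    simp only [tenAlpha, classInner_sub_left, classInner_smul_left, hi, hz]
    ring
  -- the inner product of the image of `α` with the image of a column
  have hpair : ∀ a y, y ≠ 1 → ∀ k : ℕ, d.prime.colChar y 1 = k →
      classInner (d.tau (d.tenAlpha a b δ n ζ)) (τ₁ (d.prime.muSum y)) =
        (if y = b then 1 else 0) + (k : ℂ) * (classInner (d.tau (d.tenAlpha a b δ n ζ)) (τ₁ ζ) + n) := by
    intro a y hy k hk
    have h1 : d.prime.muSum y 1 = ((k : ℤ) : ℂ) * ζ 1 := by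
      rw [d.muSum_apply_one, hk, hζ.deg, Int.cast_natCast, mul_comm]
    have hmem := d.comb_mem (d.muSum_mem hy) hζ.mem k h1
    have hi := d.tau_inner (d.alpha_supported hζ a hδ he hen) (d.supported_of_zspanOn hmem)
    rw [d.ext_comb hT (d.muSum_mem hy) hζ.mem k h1] at hi
    have hsum : classInner (d.tenAlpha a b δ n ζ) (d.prime.muSum y) = if y = b then 1 else 0 := by
      rw [IsPrimeTI.muSum, classInner_sum_right]
      simp only [hcol_inner, hy, and_false, if_false, mul_zero, sub_zero]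
      by_cases hyb : y = b
      · simp [hyb]
      · simp [hyb]
    simp only [classInner_sub_right, classInner_smul_right, hsum, d.alpha_inner_zeta hζ,
      map_natCast, Int.cast_natCast] at hi
    linear_combination hi
  have himg : ∀ a, d.tau (d.tenAlpha a b δ n ζ) = (δ : ℂ) • (d.eta a b - d.eta a 1) - (n : ℂ) • τ₁ ζ := by
    intro a
    have hs := d.alpha_supported hζ a hδ he hen
    set X := d.tau (d.tenAlpha a b δ n ζ) with hX
    have hXg : IsGeneralizedCharacter G X := d.tau_gen hs (d.alpha_gen hζ a b δ n)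
    choose c hc using fun x y => classInner_genChar_int hXg (d.eta_gen x y)
    obtain ⟨m, hm⟩ := classInner_genChar_int hXg (d.ext_gen hT hζ.mem)
    have hnorm : classInner X X = ((2 + n ^ 2 : ℤ) : ℂ) := by
      rw [hX, d.tau_inner hs hs]
      conv_lhs => arg 2; rw [tenAlpha]
      simp only [classInner_sub_right, classInner_smul_right, hcol_inner, d.alpha_inner_zeta hζ, map_intCast,
        hb, Ne.symm hb, and_false, and_self, if_true, if_false]
      have h2 : (δ : ℂ) * δ = 1 := by exact_mod_cast hδ1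
      push_cast
      linear_combination h2
    have hcorner : ∀ x, x ≠ a → c a b - c a 1 - c x b + c x 1 = 2 * δ := by
      intro x hx
      have hzero : ∀ v : M, d.InV v → (X - (δ : ℂ) • (d.eta a b - d.eta a 1)) (v : G) = 0 := fun v hv => by
        rw [Pi.sub_apply, hX, d.tau_inV hs.1 hv, Pi.smul_apply, Pi.sub_apply, d.eta_apply _ _ hv,
          d.eta_apply _ _ hv, tenAlpha, Pi.sub_apply, Pi.sub_apply, Pi.smul_apply, Pi.smul_apply,
          d.prime.mu_apply _ (w := ⟨v, hv.1⟩) hv.2.2, d.prime.mu_apply _ (w := ⟨v, hv.1⟩) hv.2.2,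
          d.prime.delta_row_mul_col, d.prime.delta_row_mul_col, hδ, d.prime.col_one, d.prime.mu_one.2,
          hζ.zero_off v (d.inV_notMem_kernel hv)]
        simp only [smul_eq_mul]
        ring
      have := d.eta_additive (isClassFunction_sub (isGenChar_iff_coeff_int.mp hXg).1
        (isClassFunction_smul _ (isClassFunction_sub (isGenChar_iff_coeff_int.mp (d.eta_gen a b)).1
          (isGenChar_iff_coeff_int.mp (d.eta_gen a 1)).1))) hzero a x b 1
      simp only [classInner_sub_left, classInner_smul_left, d.eta_orth, hc, hb, Ne.symm hb, Ne.symm hx,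
        and_true, and_false, if_true, if_false] at this
      have h : ((c a b - c a 1 - c x b + c x 1 : ℤ) : ℂ) = ((2 * δ : ℤ) : ℂ) := by
        push_cast; linear_combination this
      exact_mod_cast h
    -- the columns carrying the images of the pair of column sums
    have hsq : ∀ y, y ≠ 1 → d.prime.colChar y 1 = e → d.prime.delta (d.prime.col y) = δ →
        ∃ y', (y' = y ∨ y' = y⁻¹) ∧ (∃ ε : ℤ, ε * ε = 1 ∧ τ₁ (d.prime.muSum y) = (ε : ℂ) • ∑ x, d.eta x y') ∧
          (∑ x, c x y') ^ 2 = ((if y = b then 1 else 0) + (m + n) * e) ^ 2 := by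
      intro y hy hye hyδ
      have hp := hpair a y hy e hye
      rcases d.ext_muSum hT hζ hy with h | h
      all_goals
        rw [hyδ] at h
        rw [← hX, h, hm] at hp
        simp only [classInner_neg_right, classInner_smul_right, classInner_sum_right, hc, map_intCast] at hp
      · refine ⟨y, Or.inl rfl, ⟨δ, hδ1, h⟩, ?_⟩
        have : δ * (∑ x, c x y) = (if y = b then 1 else 0) + (e : ℤ) * (m + n) := by
          split_ifs at hp ⊢ <;> exact_mod_cast hp
        rw [mul_comm (m + n), ← this, mul_pow, show δ ^ 2 = 1 by rw [sq, hδ1], one_mul]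
      · refine ⟨y⁻¹, Or.inr rfl, ⟨-δ, by rw [neg_mul_neg, hδ1], by rw [h, Int.cast_neg, neg_smul]⟩, ?_⟩
        have : -(δ * (∑ x, c x y⁻¹)) = (if y = b then 1 else 0) + (e : ℤ) * (m + n) := by
          split_ifs at hp ⊢ <;> exact_mod_cast hp
        rw [mul_comm (m + n), ← this, neg_sq, mul_pow, show δ ^ 2 = 1 by rw [sq, hδ1], one_mul]
    obtain ⟨y₁, hy₁, ⟨ε₁, hε₁, hT₁⟩, hs₁⟩ := hsq b hb he hδ
    obtain ⟨y₂, hy₂, ⟨ε₂, hε₂, hT₂⟩, hs₂⟩ := hsq b⁻¹ hbi (by rw [d.colChar_inv_deg, he]) hδi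
    rw [if_pos rfl] at hs₁
    rw [if_neg hbb.symm, zero_add] at hs₂
    have hne : y₁ ≠ y₂ := fun e12 => by
      have h0 := d.ext_inner hT (d.muSum_mem hb) (d.muSum_mem hbi)
      rw [hT₁, hT₂, e12, classInner_smul_left, classInner_smul_right, classInner_sum_left,
        d.prime.classInner_muSum, if_neg hbb] at h0
      simp only [classInner_sum_right, d.eta_orth, and_true, Finset.sum_ite_eq, Finset.mem_univ, if_true,
        Finset.sum_const, Finset.card_univ, nsmul_eq_mul, mul_one, map_intCast] at h0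
      have : (ε₁ : ℂ) * (ε₂ * (Fintype.card (W₁ →* ℂˣ) : ℂ)) = 0 := h0
      have h1 : ε₁ ≠ 0 := fun e0 => by rw [e0] at hε₁; exact absurd hε₁ (by norm_num)
      have h2 : ε₂ ≠ 0 := fun e0 => by rw [e0] at hε₂; exact absurd hε₂ (by norm_num)
      simp [h1, h2] at this
    refine alpha_image_of_columns (η := fun x y => d.eta x y) (e := fun _ : Unit => τ₁ ζ) (a := m + n)
      (d := (e : ℤ)) (q := fun _ => 1) (z₀ := ()) (i := a) (j := b) (o := 1) (b := y₁) (b' := y₂)
      (fun p q p' q' => d.eta_orth p q p' q')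
      (fun k l => by rw [classInner_self_signed hψ, if_pos (Subsingleton.elim k l)])
      (fun p q _ => by rw [← classInner_comm, d.ext_orth_eta hT hζ.mem hζ.irr, map_zero]) hc
      (by rw [hm]; push_cast; ring) rfl (fun k hk => absurd (Subsingleton.elim k ()) hk) hnorm d.three_le_hom₁ hb
      hδ1 hcorner hne hn ?_ (le_of_eq ?_)
    · rw [d.card_hom₁']
      have hs' : -1 ≤ δ := by nlinarith
      linarith
    · rw [hs₁, hs₂]
  refine ⟨himg, ?_⟩
  rcases d.ext_muSum hT hζ hb with h | h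
  · rw [h, hδ]
  · exfalso
    obtain ⟨a⟩ : Nonempty (W₁ →* ℂˣ) := ⟨1⟩
    have hp := hpair a b hb e he
    rw [h, himg a, hδ] at hp
    have hzero : ∀ x y, classInner (τ₁ ζ) (d.eta x y) = 0 := d.ext_orth_eta hT hζ.mem hζ.irr
    have hzero' : ∀ x y, classInner (d.eta x y) (τ₁ ζ) = 0 := fun x y => by
      rw [← classInner_comm, hzero, map_zero]
    simp only [classInner_sub_left, classInner_smul_left, classInner_neg_right, classInner_smul_right,
      classInner_sum_right, d.eta_orth, hzero, hzero', classInner_self_signed hψ, hbb, hbi.symm, and_false,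
      if_true, if_false, Finset.sum_const_zero, mul_zero, neg_zero, sub_zero, zero_sub, mul_one] at hp
    exact one_ne_zero (α := ℂ) (by linear_combination -hp)

/-- **(10.6)** The image of `μ₀ - ζ`. -/
theorem ten_six {τ₁ : (M → ℂ) → (G → ℂ)} (hT : TenExt d τ₁) [Fintype (W₁ →* ℂˣ)] {ζ : M → ℂ}
    (hζ : IsTenZeta d ζ) : d.tau (d.prime.muSum 1 - ζ) = (∑ a, d.eta a 1) - τ₁ ζ := by
  classical
  obtain ⟨b, hb⟩ : ∃ b : W₂ →* ℂˣ, b ≠ 1 := by
    haveI := Fintype.ofFinite (W₂ →* ℂˣ)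
    exact Fintype.exists_ne_of_one_lt_card (by have := d.three_le_hom₂; omega) 1
  obtain ⟨δ, n, e, hδ1, hδ, he, hen, hn⟩ := d.exists_params hb
  obtain ⟨himg, hcol⟩ := d.ten_five hT hζ hb hδ1 hδ he hen hn
  have hmem := d.muSum_mem hb
  have h1 : d.prime.muSum b 1 = ((e : ℤ) : ℂ) * ζ 1 := by
    rw [d.muSum_apply_one, he, hζ.deg, Int.cast_natCast, mul_comm]
  have hsum : ∑ a, d.tenAlpha a b δ n ζ =
      (d.prime.muSum b - ((e : ℤ) : ℂ) • ζ) - (δ : ℂ) • (d.prime.muSum 1 - ζ) := by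
    have hcast : ((e : ℤ) : ℂ) = δ + n * (Nat.card W₁ : ℂ) := by exact_mod_cast congrArg (Int.cast (R := ℂ)) hen
    simp only [tenAlpha, Finset.sum_sub_distrib, ← Finset.smul_sum, Finset.sum_const, Finset.card_univ,
      d.card_hom₁', IsPrimeTI.muSum, hcast]
    module
  have key := congrArg d.tau hsum
  rw [d.tau_sum', d.tau_sub' (d.prime.muSum b - _), d.tau_smul', d.ext_comb hT hmem hζ.mem e h1, hcol,
    Finset.sum_congr rfl fun a _ => himg a, Finset.sum_sub_distrib, ← Finset.smul_sum, Finset.sum_sub_distrib,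
    Finset.sum_const, Finset.card_univ, d.card_hom₁'] at key
  have hcast : ((e : ℤ) : ℂ) = δ + n * (Nat.card W₁ : ℂ) := by exact_mod_cast congrArg (Int.cast (R := ℂ)) hen
  rw [hcast] at key
  have hd : (δ : ℂ) * δ = 1 := by exact_mod_cast hδ1
  funext g
  have kg := congrFun key g
  simp only [Pi.sub_apply, Pi.smul_apply, smul_eq_mul, nsmul_eq_mul, Pi.mul_apply, Pi.natCast_apply] at kg
  simp only [Pi.sub_apply]
  linear_combination (δ : ℂ) * kg +
    (-(d.tau (d.prime.muSum 1 - ζ) g) + (∑ a, d.eta a 1) g - τ₁ ζ g) * hd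

end TenData

end CfsgLib.OddOrder.Ten
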