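/-
Peterfalvi section 10: the coherence system of `S = S(⊥)` and the inner product of an image with `1`.
-/
import Cfsg.Agent.Lib.OddOrder.S10.Values
import Cfsg.Agent.Lib.OddOrder.Found.Subcoherent
import Cfsg.Agent.S1500

set_option autoImplicit false
set_option linter.unusedSectionVars false
set_option linter.style.haveILetI false

namespace CfsgLib.OddOrder.Ten

open Cfsg CfsgLib.CharTheory CfsgLib.Dade CfsgLib.OddOrder.Found
open scoped ComplexConjugate commutatorElement

universe u

variable {G : Type u} [Group G] [Fintype G] {M : Subgroup G} [Fintype M] {K W₁ W₂ : Subgroup M}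
  {H : G → Subgroup G}

namespace TenData

variable (d : TenData M K W₁ W₂ H)
include d

/-- The image of a supported function has the inner product of that function with `1`. -/
theorem tau_one_inner {α : M → ℂ} (hα : d.Supported α) :
    classInner (d.tau α) (fun _ : G => (1 : ℂ)) = classInner α (fun _ : M => (1 : ℂ)) := by
  refine (Cfsg.Agent.S1500.result (tenA₀ M W₁) M H d.dade α hα.1 (d.supported_vanish hα)).2 _ _
    (fun _ _ => rfl) fun a _ => ?_
  rw [finsum_mem_eq_finite_toFinset_sum _ (Set.toFinite _), Finset.sum_const, nsmul_eq_mul, mul_one,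
    ← Set.ncard_eq_toFinset_card _, ← Nat.card_coe_set_eq]
  exact (inv_mul_cancel₀ (Nat.cast_ne_zero.mpr Nat.card_pos.ne')).symm

theorem isPrimeDade : IsPrimeDade M K K (W₁.map M.subtype) (W₂.map M.subtype) (tenA₀ M W₁) H where
  le₁ := Subgroup.map_subtype_le W₁
  le₂ := Subgroup.map_subtype_le W₂
  ti := by
    rw [Subgroup.subgroupOf, Subgroup.subgroupOf, Subgroup.comap_map_eq_self_of_injective M.subtype_injective,
      Subgroup.comap_map_eq_self_of_injective M.subtype_injective]
    exact d.prime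
  selfNormG := d.self
  normalH := d.prime.normal
  W2_le := by
    rw [Subgroup.subgroupOf, Subgroup.comap_map_eq_self_of_injective M.subtype_injective]
    exact d.prime.le_kernel
  H_le := le_rfl
  centralA := fun k hk hk1 _ _ _ _ => d.mem_tenA₀_of_mem_kernel hk hk1
  memV := fun v hv h1 h2 => by
    have hvM : v ∈ M := d.map_sup_le hv
    have hV : d.InV ⟨v, hvM⟩ := ⟨by
      rw [← Subgroup.map_sup] at hv
      exact (mem_map_iff' (x := (⟨v, hvM⟩ : M))).mp hv,
      fun h => h1 (mem_map_iff'.mpr h), fun h => h2 (mem_map_iff'.mpr h)⟩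
    exact d.mem_tenA₀_of_inV hV
  dade := d.dade

/-- The coherence system of `S`, with `R φ` orthogonal to every `η` for irreducible `φ`. -/
theorem exists_system : ∃ R : (M → ℂ) → Finset (G → ℂ),
    IsCoherenceSystem (inducedIrrAbove K (⊥ : Subgroup M)) d.tau R ∧
      ∀ φ ∈ inducedIrrAbove K (⊥ : Subgroup M), IsIrrCharacter M φ → ∀ α ∈ R φ,
        ∀ (a : W₁ →* ℂˣ) (b : W₂ →* ℂˣ), classInner α (d.eta a b) = 0 := by
  classical
  haveI := Fintype.ofFinite ((W₁.map M.subtype).subgroupOf M →* ℂˣ)
  haveI := d.prime.normal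
  obtain ⟨ζ, hζ⟩ := d.exists_zeta
  obtain ⟨RS, hsys, -, horth⟩ := d.isPrimeDade.exists_system d.oddM d.isFam
    (d.isPrimeDade.inducedIrrAbove_subset_indSet rfl ⊥) ⟨ζ, hζ.mem⟩ fun φ hφ => inducedIrrAbove_conj K ⊥ hφ
  exact ⟨RS, hsys, fun φ hφ hi α hα a b => horth φ hφ hi α hα _⟩

end TenData

end CfsgLib.OddOrder.Ten
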