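/-
Peterfalvi (10.10), the reduction: with a nilpotent kernel a non-coherent `S` leaves a `p`-group with a
chief factor `K / K'` and `w₁ ∤ p - 1`.
-/
import Cfsg.Agent.Lib.OddOrder.S10.System
import Cfsg.Agent.Lib.OddOrder.S10.FrobQuotient
import Cfsg.Agent.S1521

set_option autoImplicit false
set_option linter.unusedSectionVars false
set_option linter.style.haveILetI false

namespace CfsgLib.OddOrder.Ten

open Cfsg CfsgLib.CharTheory CfsgLib.OddOrder.Found
open scoped commutatorElement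

universe u

variable {G : Type u} [Group G] [Fintype G] {M : Subgroup G} [Fintype M] {K W₁ W₂ : Subgroup M}
  {H : G → Subgroup G}

namespace TenData

variable (d : TenData M K W₁ W₂ H)
include d

theorem kernel_ne_bot : K ≠ ⊥ := fun e =>
  d.prime.ne_bot₂ (eq_bot_iff.mpr (d.prime.le_kernel.trans e.le))

theorem derived_lt : ⁅K, K⁆ < K := by
  haveI := d.prime.normal
  haveI := d.solv
  refine lt_of_le_of_ne (Subgroup.commutator_le_left K K) fun h => ?_
  haveI : Nontrivial K := (Subgroup.nontrivial_iff_ne_bot K).mpr d.kernel_ne_bot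
  refine (Group.IsSolvable.commutator_lt_top_of_nontrivial K).ne (Subgroup.map_injective K.subtype_injective ?_)
  rw [commutator_def, Subgroup.map_commutator, ← MonoidHom.range_eq_map, Subgroup.range_subtype, h]

theorem kernel_lt_top : K < ⊤ := lt_top_iff_ne_top.mpr fun e => d.prime.ne_bot₁ (by
  have h := d.prime.inf_eq_bot
  rwa [e, top_inf_eq] at h)

/-- `M / M''` is a Frobenius group with kernel `M' / M''`. -/
theorem frob_quotient {k : M} (hk : k ∈ K) (hk' : k ∉ ⁅K, K⁆) {x : M}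
    (hx : x * k * x⁻¹ * k⁻¹ ∈ ⁅K, K⁆) : x ∈ K := by
  haveI := d.prime.normal
  by_contra hxK
  have hp : d.prime.proj x ≠ 1 := fun e => hxK (d.prime.proj_eq_one_iff.mp e)
  set a : M := (d.prime.proj x : M) with ha
  have haW : a ∈ W₁ := (d.prime.proj x).2
  have ha1 : a ≠ 1 := fun e => hp (Subtype.ext e)
  set c : M := x * a⁻¹ with hc
  have hcK : c ∈ K := d.prime.mul_proj_inv_mem x
  have hy : a * k * a⁻¹ ∈ K := d.prime.normal.conj_mem k hk a
  have h1 : c * (a * k * a⁻¹) * c⁻¹ * (a * k * a⁻¹)⁻¹ ∈ ⁅K, K⁆ := Subgroup.commutator_mem_commutator hcK hy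
  have h2 : a * k * a⁻¹ * k⁻¹ ∈ ⁅K, K⁆ := by
    have e : a * k * a⁻¹ * k⁻¹ =
        (c * (a * k * a⁻¹) * c⁻¹ * (a * k * a⁻¹)⁻¹)⁻¹ * (x * k * x⁻¹ * k⁻¹) := by
      rw [hc]; group
    rw [e]
    exact Subgroup.mul_mem _ (Subgroup.inv_mem _ h1) hx
  refine hk' (mem_derived_of_fixed d.solv ?_ (d.prime.centralizer_eq a haW ha1) d.le_derived hk h2)
  exact d.prime.coprime.coprime_dvd_left (Subgroup.orderOf_dvd_natCard _ haW)

/-- **(10.10), first step.** A non-coherent `S` with nilpotent kernel leaves a `p`-group. -/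
theorem pgroup_of_not_coherent (hnil : Group.IsNilpotent K)
    (hnc : ¬ IsCoherent (inducedIrrAbove K (⊥ : Subgroup M)) {1}ᶜ d.tau) :
    ∃ p m : ℕ, p.Prime ∧ Nat.card K = p ^ m ∧ ⁅K, K⁆ ≠ ⊥ ∧ ¬ Nat.card W₁ ∣ p - 1 ∧
      ∀ N : Subgroup M, N.Normal → ⁅K, K⁆ ≤ N → N ≤ K → N = ⁅K, K⁆ ∨ N = K := by
  haveI := d.prime.normal
  obtain ⟨R, hR, -⟩ := d.exists_system
  haveI : ((⊥ : Subgroup M).subgroupOf K).Normal := by rw [Subgroup.bot_subgroupOf]; infer_instance
  have hq : Group.IsNilpotent (↥K ⧸ (⊥ : Subgroup M).subgroupOf K) := Group.nilpotent_quotient_of_nilpotent _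
  have key := fun h => hnc (Cfsg.Agent.S1521.result K d.solv d.tau R hR d.oddM ⊥ bot_le hq ⁅K, K⁆
    (sup_bot_eq _).symm d.derived_lt d.kernel_lt_top (fun k hk hk' x hx => d.frob_quotient hk hk' hx) h)
  obtain ⟨p, m, hp, hm⟩ : ∃ p m : ℕ, p.Prime ∧ (⊥ : Subgroup M).relIndex K = p ^ m :=
    by_contra fun h => key (Or.inr (Or.inr (Or.inl h)))
  refine ⟨p, m, hp, by rw [← hm, Subgroup.relIndex_bot_left],
    fun h => key (Or.inr (Or.inr (Or.inr (Or.inl h.le)))), fun h => key ?_, fun N hN h1 h2 => ?_⟩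
  · exact Or.inr (Or.inr (Or.inr (Or.inr ⟨p, m, hp, hm, d.prime.index_eq ▸ h⟩)))
  · refine by_contra fun hne => ?_
    rw [not_or] at hne
    exact key (Or.inl ⟨N, hN, lt_of_le_of_ne h1 fun e => hne.1 e.symm, lt_of_le_of_ne h2 hne.2⟩)

end TenData

end CfsgLib.OddOrder.Ten
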