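/-
Peterfalvi (10.10), the case of a kernel of order `p ^ 3` with `w₁ ∣ p + 1`: `S` is coherent.
-/
import Cfsg.Agent.Lib.OddOrder.S10.System
import Cfsg.Agent.Lib.OddOrder.S10.Reduce
import Cfsg.Agent.Lib.OddOrder.S10.TypeV.Bridge
import Cfsg.Agent.Lib.Fusion.EssentialSmall.Cube
import Cfsg.Agent.Lib.CharTheory.AbelianInertia
import Cfsg.Agent.S1517

set_option autoImplicit false
set_option linter.unusedSectionVars false
set_option linter.style.haveILetI false

namespace CfsgLib.OddOrder.Ten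

open Cfsg CfsgLib.CharTheory CfsgLib.Dade CfsgLib.OddOrder.Found CfsgLib.OddOrder.TypeV
open scoped ComplexConjugate commutatorElement

universe u

/-- The derived subgroup of a nonabelian group of order `p ^ 3` has index `p ^ 2`. -/
theorem index_commutator_cube {E : Type*} [Group E] [Finite E] {p : ℕ} (hp : p.Prime)
    (hcard : Nat.card E = p ^ 3) (hnab : ¬ ∀ a b : E, a * b = b * a) : (commutator E).index = p ^ 2 := by
  haveI := Fact.mk hp
  obtain ⟨⟨-, hc⟩, -, he⟩ := Cfsg.EssentialSmall.extraspecial_cube hcard hnab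
  have h := (commutator E).card_mul_index
  rw [hcard, he, hc] at h
  rw [he]
  exact Nat.eq_of_mul_eq_mul_left hp.pos (h.trans (by ring))

/-- A nonabelian group of order `p ^ 3` has at most `p - 1` nonlinear irreducible characters. -/
theorem nonlinear_of_cube {E : Type u} [Group E] [Fintype E] {p : ℕ} (hp : p.Prime) (hcard : Nat.card E = p ^ 3)
    (hnab : ¬ ∀ a b : E, a * b = b * a) (s : Finset (IrrCharacter E))
    (hs : ∀ θ ∈ s, (θ : E → ℂ) 1 ≠ 1) :
    s.card ≤ p - 1 ∧ ∀ θ ∈ s, ∀ e : ℕ, (θ : E → ℂ) 1 = e → e = p := by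
  classical
  set C := commutator E
  have hidx := index_commutator_cube hp hcard hnab
  choose deg hdeg0 hdeg using fun θ : IrrCharacter E => irr_degree_pos θ.2
  have htot : ∑ θ : IrrCharacter E, deg θ ^ 2 = p ^ 3 := by
    have h := sum_irr_apply_mul_degree (G := E) 1
    rw [if_pos rfl, hcard, Finset.sum_congr rfl fun (θ : IrrCharacter E) _ =>
      show (θ : E → ℂ) 1 * (θ : E → ℂ) 1 = ((deg θ ^ 2 : ℕ) : ℂ) by
      rw [hdeg θ]; push_cast; ring, ← Nat.cast_sum] at h
    exact_mod_cast h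
  set L : Finset (IrrCharacter E) :=
    Finset.univ.filter fun θ : IrrCharacter E => ∀ n ∈ C, (θ : E → ℂ) n = (θ : E → ℂ) 1
  have hlin : ∑ θ ∈ L, deg θ ^ 2 = p ^ 2 := by
    have h := TypeV.sum_trivial_apply C 1
    rw [if_pos C.one_mem, hidx, Finset.sum_congr rfl fun (θ : IrrCharacter E) _ =>
      show (θ : E → ℂ) 1 * (θ : E → ℂ) 1 = ((deg θ ^ 2 : ℕ) : ℂ) by
      rw [hdeg θ]; push_cast; ring, ← Nat.cast_sum] at h
    exact_mod_cast h
  have hdisj : Disjoint s L := Finset.disjoint_left.mpr fun θ hθ hL => hs θ hθ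
    (irr_degree_one_of_kernel_commutator C
      (fun x y => Subgroup.commutator_mem_commutator (Subgroup.mem_top x) (Subgroup.mem_top y))
      θ.2 (Finset.mem_filter.mp hL).2)
  have hsum : (∑ θ ∈ s, deg θ ^ 2) + p ^ 2 ≤ p ^ 3 := by
    rw [← htot, ← hlin, ← Finset.sum_union hdisj]
    exact Finset.sum_le_univ_sum_of_nonneg fun _ => Nat.zero_le _
  have hge : ∀ θ ∈ s, p ≤ deg θ ∧ ∃ k, deg θ = p ^ k := by
    intro θ hθ
    have hdvd : deg θ ∣ Nat.card E := by
      obtain ⟨r, ρ, hρ, hr⟩ := id θ.2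
      have h := degree_dvd_index_center ρ
      have hk := hdeg θ
      rw [← hr, ρ.char_one, Nat.cast_inj] at hk
      rw [← hk]
      exact h.trans (Subgroup.index_dvd_card _)
    obtain ⟨k, -, hk⟩ := (Nat.dvd_prime_pow hp).mp (hcard ▸ hdvd)
    refine ⟨?_, k, hk⟩
    rcases Nat.eq_zero_or_pos k with rfl | h
    · exact absurd (by rw [hdeg θ, hk, pow_zero, Nat.cast_one]) (hs θ hθ)
    · exact hk ▸ Nat.le_self_pow h.ne' p
  have hcard' : s.card * p ^ 2 ≤ ∑ θ ∈ s, deg θ ^ 2 := by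
    rw [← smul_eq_mul, ← Finset.sum_const]
    exact Finset.sum_le_sum fun θ hθ => Nat.pow_le_pow_left (hge θ hθ).1 2
  refine ⟨?_, fun θ hθ e he => ?_⟩
  · have h1 : (s.card + 1) * p ^ 2 ≤ p * p ^ 2 := by
      rw [add_mul, one_mul]
      calc s.card * p ^ 2 + p ^ 2 ≤ p ^ 3 := by omega
        _ = p * p ^ 2 := by ring
    have := Nat.le_of_mul_le_mul_right h1 (pow_pos hp.pos 2)
    omega
  · obtain ⟨h1, k, hk⟩ := hge θ hθ
    have he' : e = deg θ := by rw [hdeg θ, Nat.cast_inj] at he; exact he.symm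
    have h2 : deg θ ^ 2 < p ^ 3 := by
      have := Finset.single_le_sum (f := fun θ => deg θ ^ 2) (fun _ _ => Nat.zero_le _) hθ
      have := pow_pos hp.pos 2
      omega
    rw [hk, ← pow_mul, Nat.pow_lt_pow_iff_right hp.one_lt] at h2
    rcases Nat.eq_zero_or_pos k with rfl | h
    · rw [hk, pow_zero] at h1
      exact absurd hp.one_lt (by omega)
    · rw [he', hk, show k = 1 by omega, pow_one]

variable {G : Type u} [Group G] [Fintype G] {M : Subgroup G} [Fintype M] {K W₁ W₂ : Subgroup M}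
  {H : G → Subgroup G}

namespace TenData

variable (d : TenData M K W₁ W₂ H)
include d

/-- The members of `S(K')` are irreducible of degree `w₁`. -/
theorem isTenZeta_derived {φ : M → ℂ} (hφ : φ ∈ inducedIrrAbove K ⁅K, K⁆) : IsTenZeta d φ := by
  haveI := d.prime.normal
  haveI := Fintype.ofFinite K
  obtain ⟨θ, hθ, h1, h2, rfl⟩ := hφ
  have hne : ∀ b, θ ≠ d.prime.colChar b := fun b e => h1 <| by
    have hb : b = 1 := d.prime.eq_one_of_kernel fun k hk => by rw [← e]; exact h2 k (d.le_derived hk)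
    rw [e, hb, d.prime.colChar_one]
  have hlin : θ 1 = 1 := irr_degree_one_of_kernel_commutator ((⁅K, K⁆ : Subgroup M).subgroupOf K)
    (fun x y => Subgroup.commutator_mem_commutator x.2 y.2) hθ (fun n hn => h2 n hn)
  exact ⟨d.mem_induced_of_ne hθ h1, d.prime.isIrr_indFun_of_ne hθ hne,
    by rw [indFun_apply_one, hlin, mul_one, d.prime.index_eq],
    fun a b => d.prime.indFun_ne_mu hθ hne _, fun x hx => indFun_normal_apply_not_mem K θ hx⟩

/-- The linear family as a piece. -/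
theorem exists_derived_piece : ∃ (τ₁ : (M → ℂ) → (G → ℂ)) (ζ : M → ℂ),
    IsPiece d (inducedIrrAbove_finite K ⁅K, K⁆).toFinset τ₁ (fun _ => 1) ζ := by
  classical
  haveI := d.prime.normal
  haveI := Fintype.ofFinite ((W₁.map M.subtype).subgroupOf M →* ℂˣ)
  obtain ⟨θ, h1, h2, h3, -⟩ := exists_linear_above K ⁅K, K⁆ d.solv d.derived_lt
  obtain ⟨R, hR, -, horth⟩ := d.isPrimeDade.exists_system d.oddM d.isFam
    (d.isPrimeDade.inducedIrrAbove_subset_indSet rfl ⁅K, K⁆) ⟨_, θ, h1, h2, h3, rfl⟩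
    fun φ hφ => inducedIrrAbove_conj K _ hφ
  obtain ⟨-, τ₁, hiso, hagree⟩ := Cfsg.Agent.S1517.result _ d.tau R hR fun φ hφ ψ hψ => by
    rw [(d.isTenZeta_derived hφ).deg, (d.isTenZeta_derived hψ).deg]
  refine ⟨τ₁, indFun K θ, ?_⟩
  constructor
  · intro φ hφ
    rw [Set.Finite.coe_toFinset] at hφ
    exact (d.isTenZeta_derived hφ).mem
  · exact fun φ hφ => (d.isTenZeta_derived ((Set.Finite.mem_toFinset _).mp hφ)).irr
  · intro φ hφ
    rw [(d.isTenZeta_derived ((Set.Finite.mem_toFinset _).mp hφ)).deg, mul_one]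
  · rwa [Set.Finite.coe_toFinset]
  · rwa [Set.Finite.coe_toFinset]
  · intro φ hφ a b
    have hφ := (Set.Finite.mem_toFinset _).mp hφ
    obtain ⟨B, hB, hsum, -, -⟩ := exists_image_subset hR subset_rfl hiso hagree hφ (inducedIrrAbove_conj K _ hφ)
    rw [hsum, classInner_sum_left]
    exact Finset.sum_eq_zero fun α hα => horth φ hφ (d.isTenZeta_derived hφ).irr α (hB hα) _
  · exact d.isTenZeta_derived ⟨θ, h1, h2, h3, rfl⟩
  · exact (Set.Finite.mem_toFinset _).mpr ⟨θ, h1, h2, h3, rfl⟩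

/-- **(10.10)**, kernel of order `p ^ 3` with `w₁ ∣ p + 1`. -/
theorem coherent_cube {p : ℕ} (hp : p.Prime) (hcard : Nat.card K = p ^ 3) (hK : ⁅K, K⁆ ≠ ⊥)
    (hdvd : Nat.card W₁ ∣ p + 1) : IsCoherent (inducedIrrAbove K (⊥ : Subgroup M)) {1}ᶜ d.tau := by
  classical
  haveI := d.prime.normal
  haveI := Fintype.ofFinite K
  haveI := Fintype.ofFinite (W₁ →* ℂˣ)
  haveI := Fintype.ofFinite (W₂ →* ℂˣ)
  set D := ⁅K, K⁆ with hD
  have hDK : D ≤ K := Subgroup.commutator_le_left K K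
  have hnab : ¬ ∀ a b : K, a * b = b * a := fun h => hK (Subgroup.commutator_eq_bot_iff_le_centralizer.mpr
    fun x hx => Subgroup.mem_centralizer_iff.mpr fun y hy => congrArg Subtype.val (h ⟨y, hy⟩ ⟨x, hx⟩))
  have hw := d.prime.three_le₁
  have hwo := Nat.odd_iff.mp d.prime.odd₁
  have hpo : p % 2 = 1 := Nat.odd_iff.mp ((d.oddM.of_dvd_nat (K.card_subgroup_dvd_card)).of_dvd_nat
    (hcard ▸ dvd_pow_self p three_ne_zero))
  have h2w : 2 * Nat.card W₁ ≤ p + 1 := by
    obtain ⟨t, ht⟩ := hdvd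
    rcases (show t = 0 ∨ t = 1 ∨ 2 ≤ t by omega) with rfl | rfl | h
    · omega
    · omega
    · rw [ht, mul_comm (Nat.card W₁)]; exact Nat.mul_le_mul_right _ h
  have hcomm : (D.subgroupOf K) = commutator K := by
    rw [hD, ← Subgroup.map_subtype_commutator, Subgroup.subgroupOf,
      Subgroup.comap_map_eq_self_of_injective K.subtype_injective]
  have hDidx : D.index = p ^ 2 * Nat.card W₁ := by
    rw [← Subgroup.relIndex_mul_index hDK, d.prime.index_eq, Subgroup.relIndex, hcomm,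
      index_commutator_cube hp hcard hnab]
  obtain ⟨τ₁, ζ, P⟩ := d.exists_derived_piece
  set F := (inducedIrrAbove_finite K D).toFinset with hF
  have hQ : F.card * Nat.card W₁ + 1 = p ^ 2 := by
    have hlay : layerFin K D K = F := by
      ext φ
      rw [mem_layerFin_top, hF, Set.Finite.mem_toFinset]
    have h := layer_sum_sq K D K hDK le_rfl (fun φ hφ => P.irr φ (hlay ▸ hφ)) (fun _ => Nat.card W₁)
      (fun φ hφ => by rw [P.deg φ (hlay ▸ hφ), mul_one])
    rw [hlay, Finset.sum_const, smul_eq_mul, hDidx, d.prime.index_eq] at h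
    refine Nat.eq_of_mul_eq_mul_right (m := Nat.card W₁) (by omega) ?_
    rw [← h]; ring
  have hQ3 : 3 ≤ ∑ _φ ∈ F, 1 ^ 2 := by
    simp only [one_pow, Finset.sum_const, smul_eq_mul, mul_one]
    by_contra h
    have : F.card * Nat.card W₁ ≤ 2 * Nat.card W₁ := Nat.mul_le_mul_right _ (by omega)
    nlinarith
  set s : Finset (IrrCharacter K) := Finset.univ.filter fun θ : IrrCharacter K => (θ : K → ℂ) 1 ≠ 1 with hs
  obtain ⟨hle, hdeg⟩ := nonlinear_of_cube hp hcard hnab s fun θ hθ => (Finset.mem_filter.mp hθ).2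
  have hW₂ : Nat.card W₂ = p := by
    have h1 : W₂ ≤ D := d.le_derived
    have h2 : Nat.card D = p := by
      have h := D.card_mul_index
      rw [hDidx, ← K.card_mul_index, hcard, d.prime.index_eq] at h
      refine Nat.eq_of_mul_eq_mul_right (m := p ^ 2 * Nat.card W₁) (Nat.mul_pos (pow_pos hp.pos 2) Nat.card_pos) (h.trans ?_)
      ring
    exact ((Nat.dvd_prime hp).mp (h2 ▸ Subgroup.card_dvd_of_le h1)).resolve_left
      fun h => d.prime.ne_bot₂ (Subgroup.card_eq_one.mp h)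
  let col : {b : W₂ →* ℂˣ // b ≠ 1} → IrrCharacter K := fun b => ⟨d.prime.colChar b.1, d.prime.isIrr_colChar b.1⟩
  have hcols : Finset.univ.image col = s := by
    refine Finset.eq_of_subset_of_card_le (fun θ hθ => ?_) ?_
    · obtain ⟨b, -, rfl⟩ := Finset.mem_image.mp hθ
      exact Finset.mem_filter.mpr ⟨Finset.mem_univ _, d.colChar_deg_ne_one b.2⟩
    · rw [Finset.card_image_of_injective _ fun b c e =>
        Subtype.ext (d.prime.colChar_injective (congrArg Subtype.val e)), Finset.card_univ,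
        Fintype.card_subtype_compl, Fintype.card_subtype_eq, d.card_hom₂', hW₂]
      exact hle
  have hcoh := bridge_large P hQ3 fun b hb δ n e hcol => by
    have he : e = p := hdeg ⟨d.prime.colChar b, d.prime.isIrr_colChar b⟩
      (Finset.mem_filter.mpr ⟨Finset.mem_univ _, d.colChar_deg_ne_one hb⟩) e hcol.deg
    simp only [one_pow, Finset.sum_const, smul_eq_mul, mul_one]
    have h1 := hcol.eq
    have hδ : δ = 1 ∨ δ = -1 := Int.eq_one_or_neg_one_of_mul_eq_one hcol.sq |>.imp id id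
    have hQz : (F.card : ℤ) * Nat.card W₁ + 1 = (p : ℤ) ^ 2 := by exact_mod_cast hQ
    have hwz : (3 : ℤ) ≤ Nat.card W₁ := by exact_mod_cast hw
    have hpz : (5 : ℤ) ≤ p := by exact_mod_cast (show 5 ≤ p by omega)
    rw [he] at h1
    by_contra hlt
    have : (F.card : ℤ) * Nat.card W₁ ≤ 2 * n * Nat.card W₁ := by nlinarith
    rcases hδ with rfl | rfl <;> nlinarith
  have hS : (↑F ∪ ↑(muCols d) : Set (M → ℂ)) = inducedIrrAbove K (⊥ : Subgroup M) := by
    refine Set.Subset.antisymm (Set.union_subset P.sub ?_) fun φ hφ => ?_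
    · intro φ hφ
      obtain ⟨b, hb, rfl⟩ := mem_muCols.mp hφ
      exact d.muSum_mem hb
    obtain ⟨θ, hθ, h1, -, rfl⟩ := hφ
    by_cases hlin : θ 1 = 1
    · refine Or.inl ((Set.Finite.mem_toFinset _).mpr ⟨θ, hθ, h1, fun a ha => ?_, rfl⟩)
      obtain ⟨f, hf⟩ := exists_hom_of_degree_one (isCharacter_of_irr hθ) hlin
      have ha' : a ∈ commutator K := hcomm ▸ Subgroup.mem_subgroupOf.mpr ha
      rw [hf]
      simp [show f a = 1 from Abelianization.commutator_subset_ker f ha']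
    · have hm : (⟨θ, hθ⟩ : IrrCharacter K) ∈ s := Finset.mem_filter.mpr ⟨Finset.mem_univ _, hlin⟩
      rw [← hcols] at hm
      obtain ⟨b, -, hb⟩ := Finset.mem_image.mp hm
      refine Or.inr (mem_muCols.mpr ⟨b.1, b.2, ?_⟩)
      rw [← show d.prime.colChar b.1 = θ from congrArg Subtype.val hb, d.prime.indFun_colChar]
  exact hS ▸ hcoh

end TenData

end CfsgLib.OddOrder.Ten
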