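/-
Peterfalvi (10.8)(v): `|M' : W₂| ≥ (2 w₁ - 1)²`.
-/
import Cfsg.Agent.Lib.OddOrder.S10.Values
import Cfsg.Agent.Lib.OddOrder.S10.FrobQuotient
import Cfsg.Agent.Lib.CharTheory.DegreeSection
import Cfsg.Agent.Lib.Suzuki.SubgroupBasics

set_option autoImplicit false
set_option linter.unusedSectionVars false
set_option linter.style.haveILetI false

namespace CfsgLib.OddOrder.Ten

open Cfsg Subgroup CfsgLib.CharTheory CfsgLib.OddOrder.Found
open scoped commutatorElement

universe u

variable {G : Type u} [Group G] [Fintype G] {M : Subgroup G} [Fintype M] {K W₁ W₂ : Subgroup M}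
  {H : G → Subgroup G}

namespace TenData

variable (d : TenData M K W₁ W₂ H)
include d

theorem orderOf_coprime {x : M} (hx : x ∈ W₁) : (orderOf x).Coprime (Nat.card K) :=
  d.prime.coprime.coprime_dvd_left (W₁.orderOf_dvd_natCard hx)

/-- A `W₁`-invariant subgroup between `W₂` and `K` has `W₁` acting freely off `W₂`. -/
theorem card_layer {D : Subgroup M} (hWD : W₂ ≤ D) (hDK : D ≤ K) (hD : D.Normal) :
    Nat.card W₁ ∣ Nat.card D - Nat.card W₂ := by
  letI : MulAction W₁ M := MulAction.compHom M ((MulAut.conj : M →* MulAut M).comp W₁.subtype)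
  have hsmul : ∀ (a : W₁) (x : M), a • x = (a : M) * x * (a : M)⁻¹ := fun a x => rfl
  have h := Suzuki.free_card_dvd (G := W₁) ((D : Set M) \ (W₂ : Set M)) ?_ ?_
  · have hsub : (W₂ : Set M) ⊆ (D : Set M) := hWD
    rw [Set.ncard_sdiff hsub, ← Nat.card_coe_set_eq, ← Nat.card_coe_set_eq] at h
    simpa only [SetLike.coe_sort_coe] using h
  · rintro a x ⟨hx, hx2⟩
    rw [hsmul]
    refine ⟨hD.conj_mem x hx a, fun h => hx2 ?_⟩
    have hc := d.prime.comm a a.2 _ h
    have e : x = (a : M) * x * (a : M)⁻¹ := by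
      calc x = (a : M)⁻¹ * ((a : M) * x * (a : M)⁻¹ * a) := by group
        _ = (a : M) * x * (a : M)⁻¹ := by rw [← hc]; group
    rwa [SetLike.mem_coe, e]
  · intro a x hx hfix
    rw [hsmul] at hfix
    by_contra ha
    have ha' : (a : M) ≠ 1 := fun h => ha (Subtype.ext h)
    refine hx.2 ?_
    rw [SetLike.mem_coe, ← d.prime.centralizer_eq a a.2 ha']
    exact mem_inf.mpr ⟨hDK hx.1, mem_centralizer_singleton_iff.mpr (mul_inv_eq_iff_eq_mul.mp hfix).symm⟩

/-- `|M' : W₂| ≥ (2 w₁ - 1)²`. -/
theorem index_bound : Nat.card W₂ * (2 * Nat.card W₁ - 1) ^ 2 ≤ Nat.card K := by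
  classical
  haveI := d.prime.normal
  haveI := Fintype.ofFinite K
  have hw := d.prime.three_le₁
  have hwo := d.prime.odd₁
  have hKodd : Odd (Nat.card K) := d.oddM.of_dvd_nat (card_subgroup_dvd_card K)
  by_cases hcent : ∀ y ∈ W₂, ∀ k ∈ K, y * k = k * y
  · obtain ⟨b, hb⟩ : ∃ b : W₂ →* ℂˣ, b ≠ 1 := by
      haveI := Fintype.ofFinite (W₂ →* ℂˣ)
      exact Fintype.exists_ne_of_one_lt_card (by have := d.three_le_hom₂; omega) 1
    obtain ⟨δ, n, e, hδ1, -, he, hen, hn⟩ := d.exists_params hb
    have h := irr_degree_sq_le_of_section (d.prime.isIrr_colChar b) he (⊤ : Subgroup K) (W₂.subgroupOf K) le_top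
      fun x hx y _ => by
        have : x * y * x⁻¹ * y⁻¹ = 1 := Subtype.ext (by
          push_cast
          rw [hcent (x : M) hx (y : M) y.2, mul_inv_cancel_right, mul_inv_cancel])
        rw [this]
    rw [index_top, one_pow, one_mul, relIndex_top_right] at h
    have hle : 2 * Nat.card W₁ - 1 ≤ e := by
      have hs : -1 ≤ δ := by nlinarith
      have : 2 * (Nat.card W₁ : ℤ) ≤ n * Nat.card W₁ := mul_le_mul_of_nonneg_right hn (by positivity)
      omega
    have hidx : Nat.card W₂ * (W₂.subgroupOf K).index = Nat.card K := by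
      rw [← Nat.card_congr (subgroupOfEquivOfLe d.prime.le_kernel).toEquiv, card_mul_index]
    calc Nat.card W₂ * (2 * Nat.card W₁ - 1) ^ 2 ≤ Nat.card W₂ * e ^ 2 :=
          Nat.mul_le_mul_left _ (Nat.pow_le_pow_left hle 2)
      _ ≤ Nat.card W₂ * (W₂.subgroupOf K).index := Nat.mul_le_mul_left _ h
      _ = Nat.card K := hidx
  set D : Subgroup M := ⁅K, K⁆ with hD
  have hDn : D.Normal := inferInstanceAs (⁅K, K⁆ : Subgroup M).Normal
  have hDK : D ≤ K := commutator_le_left K K
  -- the derived subgroup is larger than `W₂`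
  have hne : D ≠ W₂ := by
    intro e
    refine hcent fun y hy k hk => ?_
    obtain ⟨a, ha, ha1⟩ := (bot_or_exists_ne_one W₁).resolve_left d.prime.ne_bot₁
    have hWn : W₂.Normal := e ▸ hDn
    have hc : ∀ j : M, Commute y (j * a * j⁻¹ * a⁻¹) := fun j => by
      have h1 : Commute (j⁻¹ * y * j) a :=
        (d.prime.comm a ha _ (by simpa using hWn.conj_mem y hy j⁻¹)).symm
      have h2 : Commute y (j * a * j⁻¹) := by
        have := (h1.map (MulAut.conj j).toMonoidHom)
        simpa [mul_assoc] using this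
      exact h2.mul_right ((show Commute y a from (d.prime.comm a ha y hy).symm).inv_right)
    -- every coset of `D` in `K` contains a commutator with `a`
    let f : (K ⧸ D.subgroupOf K) → (K ⧸ D.subgroupOf K) := fun q =>
      QuotientGroup.mk ⟨(q.out : M) * a * (q.out : M)⁻¹ * a⁻¹, by
        have h : a * (q.out : M)⁻¹ * a⁻¹ ∈ K := d.prime.normal.conj_mem _ (K.inv_mem q.out.2) a
        simpa [mul_assoc] using K.mul_mem q.out.2 h⟩
    have hf : Function.Injective f := by
      intro p q epq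
      rw [QuotientGroup.eq, mem_subgroupOf] at epq
      push_cast at epq
      rw [← QuotientGroup.out_eq' p, ← QuotientGroup.out_eq' q, QuotientGroup.eq, mem_subgroupOf]
      set s : M := ((p.out : K) : M)
      set t : M := ((q.out : K) : M)
      refine mem_derived_of_fixed (W₂ := W₂) (x := a) d.solv (d.orderOf_coprime ha)
        (d.prime.centralizer_eq a ha ha1) d.le_derived (K.mul_mem (K.inv_mem p.out.2) q.out.2) ?_
      push_cast
      have h3 : (QuotientGroup.mk s : M ⧸ D) * QuotientGroup.mk a * (QuotientGroup.mk s)⁻¹ * (QuotientGroup.mk a)⁻¹ =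
          QuotientGroup.mk t * QuotientGroup.mk a * (QuotientGroup.mk t)⁻¹ * (QuotientGroup.mk a)⁻¹ := by
        rw [← QuotientGroup.mk_inv, ← QuotientGroup.mk_inv, ← QuotientGroup.mk_inv, ← QuotientGroup.mk_mul,
          ← QuotientGroup.mk_mul, ← QuotientGroup.mk_mul, ← QuotientGroup.mk_mul, ← QuotientGroup.mk_mul,
          ← QuotientGroup.mk_mul, QuotientGroup.eq]
        exact epq
      rw [← QuotientGroup.eq_one_iff]
      simp only [QuotientGroup.mk_mul, QuotientGroup.mk_inv]
      have h4 := mul_right_cancel h3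
      have h5 : (QuotientGroup.mk s)⁻¹ * (QuotientGroup.mk t) * (QuotientGroup.mk a : M ⧸ D) =
          QuotientGroup.mk a * ((QuotientGroup.mk s)⁻¹ * QuotientGroup.mk t) := by
        calc _ = (QuotientGroup.mk s)⁻¹ * ((QuotientGroup.mk t) * QuotientGroup.mk a * (QuotientGroup.mk t)⁻¹) *
              (QuotientGroup.mk t : M ⧸ D) := by group
          _ = (QuotientGroup.mk s)⁻¹ * ((QuotientGroup.mk s) * QuotientGroup.mk a * (QuotientGroup.mk s)⁻¹) *
              (QuotientGroup.mk t : M ⧸ D) := by rw [h4]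
          _ = _ := by group
      show (QuotientGroup.mk a : M ⧸ D) * ((QuotientGroup.mk s)⁻¹ * QuotientGroup.mk t) * (QuotientGroup.mk a)⁻¹ *
        ((QuotientGroup.mk s)⁻¹ * QuotientGroup.mk t)⁻¹ = 1
      rw [← h5, mul_inv_cancel_right, mul_inv_cancel]
    obtain ⟨q, hq⟩ := (Finite.injective_iff_surjective.mp hf) (QuotientGroup.mk ⟨k, hk⟩)
    rw [QuotientGroup.eq, mem_subgroupOf] at hq
    push_cast at hq
    replace hq := (SetLike.ext_iff.mp e _).mp hq
    set s : M := ((q.out : K) : M)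
    have hs : Commute y ((s * a * s⁻¹ * a⁻¹)⁻¹ * k) := by
      obtain ⟨-, hcW⟩ := mem_inf.mp ((d.prime.centralizer_eq a ha ha1).ge hq)
      haveI := d.prime.cyclic₂
      letI := IsCyclic.commGroup (α := W₂)
      exact congrArg Subtype.val (mul_comm (⟨y, hy⟩ : W₂) ⟨_, hq⟩)
    have := (hc s).mul_right hs
    rw [mul_inv_cancel_left] at this
    exact this
  have hlt : W₂ < D := lt_of_le_of_ne d.le_derived (Ne.symm hne)
  -- the two layers
  have hl1 : (2 * Nat.card W₁ + 1) * Nat.card W₂ ≤ Nat.card D := by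
    have hdvd := d.card_layer d.le_derived hDK hDn
    have hlt' : Nat.card W₂ < Nat.card D := by
      refine lt_of_le_of_ne (card_le_of_le hlt.le) fun h => hne (eq_of_le_of_card_ge hlt.le h.ge).symm
    obtain ⟨i, hi⟩ := card_dvd_of_le hlt.le
    have hco : (Nat.card W₁).Coprime (Nat.card W₂) := d.prime.coprime.coprime_dvd_right (card_dvd_of_le d.prime.le_kernel)
    have hdvd' : Nat.card W₁ ∣ i - 1 := by
      rw [hi, show Nat.card W₂ * i - Nat.card W₂ = Nat.card W₂ * (i - 1) by rw [Nat.mul_sub, mul_one]] at hdvd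
      exact hco.dvd_of_dvd_mul_left hdvd
    have hiodd : Odd i := (hKodd.of_dvd_nat (card_dvd_of_le hDK)).of_dvd_nat ⟨Nat.card W₂, by rw [hi, mul_comm]⟩
    have hi2 : 2 ≤ i := by
      by_contra h
      rcases i with _ | _ | i
      · have := Nat.card_pos (α := D); omega
      · omega
      · omega
    rw [hi, mul_comm _ i]
    refine Nat.mul_le_mul_right _ ?_
    obtain ⟨j, hj⟩ := hdvd'
    obtain ⟨l, hl⟩ := hiodd
    obtain ⟨m, hm⟩ := hwo
    rcases j with _ | _ | j
    · omega
    · omega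
    · nlinarith [Nat.mul_le_mul_left (Nat.card W₁) (show 2 ≤ j + 1 + 1 by omega), (show i = Nat.card W₁ * (j + 1 + 1) + 1 by omega)]
  have hl2 : (2 * Nat.card W₁ + 1) * Nat.card D ≤ Nat.card K := by
    have hdvd := d.card_layer d.prime.le_kernel le_rfl d.prime.normal
    have hdvd2 := d.card_layer d.le_derived hDK hDn
    obtain ⟨i, hi⟩ := card_dvd_of_le hDK
    have h1 : Nat.card W₂ ≤ Nat.card D := card_le_of_le hlt.le
    have h2 : Nat.card D ≤ Nat.card K := card_le_of_le hDK
    have hsub : Nat.card W₁ ∣ Nat.card K - Nat.card D := by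
      have := Nat.dvd_sub hdvd hdvd2
      rwa [show Nat.card K - Nat.card W₂ - (Nat.card D - Nat.card W₂) = Nat.card K - Nat.card D by omega] at this
    have hco : (Nat.card W₁).Coprime (Nat.card D) := d.prime.coprime.coprime_dvd_right (card_dvd_of_le hDK)
    have hdvd' : Nat.card W₁ ∣ i - 1 := by
      rw [hi, show Nat.card D * i - Nat.card D = Nat.card D * (i - 1) by rw [Nat.mul_sub, mul_one]] at hsub
      exact hco.dvd_of_dvd_mul_left hsub
    have hiodd : Odd i := hKodd.of_dvd_nat ⟨Nat.card D, by rw [hi, mul_comm]⟩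
    have hKD : D ≠ K := by
      intro e
      haveI := d.solv
      haveI : Nontrivial K := by
        rw [nontrivial_iff_ne_bot]
        exact fun e => d.prime.ne_bot₂ (eq_bot_iff.mpr (e ▸ d.prime.le_kernel))
      have hlt := Group.IsSolvable.commutator_lt_top_of_nontrivial (G := K)
      refine hlt.ne (map_injective K.subtype_injective ?_)
      rw [map_subtype_commutator, ← MonoidHom.range_eq_map, range_subtype]
      exact e
    have hi2 : 2 ≤ i := by
      by_contra h
      interval_cases i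
      · have := Nat.card_pos (α := K); omega
      · exact hKD (eq_of_le_of_card_ge hDK (by omega))
    rw [hi, mul_comm _ i]
    refine Nat.mul_le_mul_right _ ?_
    obtain ⟨j, hj⟩ := hdvd'
    obtain ⟨l, hl⟩ := hiodd
    obtain ⟨m, hm⟩ := hwo
    rcases j with _ | _ | j
    · omega
    · omega
    · nlinarith [Nat.mul_le_mul_left (Nat.card W₁) (show 2 ≤ j + 1 + 1 by omega), (show i = Nat.card W₁ * (j + 1 + 1) + 1 by omega)]
  calc Nat.card W₂ * (2 * Nat.card W₁ - 1) ^ 2
      ≤ Nat.card W₂ * ((2 * Nat.card W₁ + 1) * (2 * Nat.card W₁ + 1)) := by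
        rw [sq]; exact Nat.mul_le_mul_left _ (Nat.mul_le_mul (by omega) (by omega))
    _ = (2 * Nat.card W₁ + 1) * ((2 * Nat.card W₁ + 1) * Nat.card W₂) := by ring
    _ ≤ (2 * Nat.card W₁ + 1) * Nat.card D := Nat.mul_le_mul_left _ hl1
    _ ≤ Nat.card K := hl2

end TenData

end CfsgLib.OddOrder.Ten
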