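/-
Peterfalvi section 10, step (10.8)(iii): elements of a complement acting regularly on a normal subgroup
fill whole cosets with their conjugates, so few elements of `T'` are singular for the kernel.
-/
import Mathlib

set_option autoImplicit false

namespace CfsgLib.OddOrder.Ten

variable {H : Type*} [Group H] [Finite H]

/-- If `b` centralises no nonidentity element of the normal subgroup `N`, every element of `N b` is a
conjugate of `b` by an element of `N`. -/
theorem exists_conj_of_regular {N : Subgroup H} [N.Normal] {b : H}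
    (hreg : ∀ n ∈ N, n * b = b * n → n = 1) {m : H} (hm : m ∈ N) : ∃ n ∈ N, n * b * n⁻¹ = m * b := by
  have hmem : ∀ n : N, (n : H) * b * (n : H)⁻¹ * b⁻¹ ∈ N := fun n => by
    have h : b * (n : H)⁻¹ * b⁻¹ ∈ N := (inferInstance : N.Normal).conj_mem _ (N.inv_mem n.2) b
    have e : (n : H) * b * (n : H)⁻¹ * b⁻¹ = n * (b * (n : H)⁻¹ * b⁻¹) := by group
    rw [e]; exact N.mul_mem n.2 h
  let f : N → N := fun n => ⟨(n : H) * b * (n : H)⁻¹ * b⁻¹, hmem n⟩
  have hf : Function.Injective f := by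
    intro n n' e
    have e1 : (n : H) * b * (n : H)⁻¹ = (n' : H) * b * (n' : H)⁻¹ := by
      have := congrArg Subtype.val e
      exact mul_right_cancel this
    have h1 := hreg ((n' : H)⁻¹ * n) (N.mul_mem (N.inv_mem n'.2) n.2) (by
      calc (n' : H)⁻¹ * n * b = (n' : H)⁻¹ * ((n : H) * b * (n : H)⁻¹) * n := by group
        _ = (n' : H)⁻¹ * ((n' : H) * b * (n' : H)⁻¹) * n := by rw [e1]
        _ = b * ((n' : H)⁻¹ * n) := by group)
    exact Subtype.ext (inv_mul_eq_one.mp h1).symm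
  obtain ⟨n, hn⟩ := (Finite.injective_iff_surjective.mp hf) ⟨m, hm⟩
  refine ⟨n, n.2, ?_⟩
  have : (n : H) * b * (n : H)⁻¹ * b⁻¹ = m := congrArg Subtype.val hn
  calc (n : H) * b * (n : H)⁻¹ = (n : H) * b * (n : H)⁻¹ * b⁻¹ * b := by group
    _ = m * b := by rw [this]

/-- The cosets of regular complement elements consist of elements with the same order. -/
theorem card_le_of_regular {N B : Subgroup H} [N.Normal] (hNB : N ⊓ B = ⊥) (R : Set H) (hR : R ⊆ B)
    (hreg : ∀ b ∈ R, ∀ n ∈ N, n * b = b * n → n = 1) (P : ℕ → Prop) (hP : ∀ b ∈ R, P (orderOf b)) :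
    Nat.card N * Nat.card R ≤ Nat.card {x : H | P (orderOf x)} := by
  rw [← Nat.card_prod]
  refine Nat.card_le_card_of_injective
    (fun p : N × R => (⟨(p.1 : H) * (p.2 : H), ?_⟩ : {x : H | P (orderOf x)})) ?_
  · obtain ⟨n, -, hn⟩ := exists_conj_of_regular (hreg _ p.2.2) p.1.2
    show P (orderOf ((p.1 : H) * (p.2 : H)))
    rw [← hn, ← MulAut.conj_apply, MulEquiv.orderOf_eq]
    exact hP _ p.2.2
  · rintro ⟨n, b⟩ ⟨n', b'⟩ e
    have e : (n : H) * b = (n' : H) * b' := congrArg Subtype.val e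
    have h : (n' : H)⁻¹ * n = (b' : H) * (b : H)⁻¹ := by
      rw [eq_mul_inv_iff_mul_eq, mul_assoc, e]; group
    have h1 : (n' : H)⁻¹ * n = 1 := by
      have hm : (n' : H)⁻¹ * n ∈ N ⊓ B := Subgroup.mem_inf.mpr
        ⟨N.mul_mem (N.inv_mem n'.2) n.2, h ▸ B.mul_mem (hR b'.2) (B.inv_mem (hR b.2))⟩
      rwa [hNB, Subgroup.mem_bot] at hm
    have hn : (n : H) = n' := (inv_mul_eq_one.mp h1).symm
    rw [h1] at h
    exact Prod.ext (Subtype.ext hn) (Subtype.ext (mul_inv_eq_one.mp h.symm).symm)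

/-- The powers of an element generating a regular cyclic subgroup are regular. -/
theorem card_regular_powers {N : Subgroup H} {u : H}
    (hreg : ∀ b ∈ Subgroup.zpowers u, b ≠ 1 → ∀ n ∈ N, n * b = b * n → n = 1) :
    orderOf u - 1 ≤ Nat.card {b : H | b ∈ Subgroup.zpowers u ∧ ∀ n ∈ N, n * b = b * n → n = 1} := by
  classical
  have h1 : Nat.card {b : H | b ∈ Subgroup.zpowers u ∧ b ≠ 1} ≤
      Nat.card {b : H | b ∈ Subgroup.zpowers u ∧ ∀ n ∈ N, n * b = b * n → n = 1} :=
    Nat.card_mono (Set.toFinite _) fun b hb => ⟨hb.1, hreg b hb.1 hb.2⟩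
  refine le_trans ?_ h1
  have e : {b : H | b ∈ Subgroup.zpowers u ∧ b ≠ 1} = (Subgroup.zpowers u : Set H) \ {1} := by
    ext b; simp
  rw [e, Nat.card_coe_set_eq, Set.ncard_sdiff_singleton_of_mem (Subgroup.one_mem _), ← Nat.card_coe_set_eq]
  rw [SetLike.coe_sort_coe, Nat.card_zpowers]

end CfsgLib.OddOrder.Ten
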