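/-
Peterfalvi section 10, step (10.8)(iv): the counting inequality.
-/
import Mathlib

set_option autoImplicit false

namespace CfsgLib.OddOrder.Ten

/-- The conjugates of an `L`-invariant set cover at most `|X| · |G : L|` elements. -/
theorem card_conjugates_le {G : Type*} [Group G] [Finite G] (L : Subgroup G) (X : Set G)
    (hX : ∀ x ∈ L, ∀ y ∈ X, x * y * x⁻¹ ∈ X) :
    Nat.card {g : G | ∃ y ∈ X, ∃ x : G, x * y * x⁻¹ = g} * Nat.card L ≤ Nat.card G * Nat.card X := by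
  classical
  have h : Nat.card {g : G | ∃ y ∈ X, ∃ x : G, x * y * x⁻¹ = g} ≤ Nat.card ((G ⧸ L) × X) := by
    refine Nat.card_le_card_of_surjective
      (fun p : (G ⧸ L) × X => (⟨p.1.out * (p.2 : G) * p.1.out⁻¹, p.2, p.2.2, p.1.out, rfl⟩ :
        {g : G | ∃ y ∈ X, ∃ x : G, x * y * x⁻¹ = g})) ?_
    rintro ⟨g, y, hy, x, rfl⟩
    obtain ⟨l, hl⟩ := QuotientGroup.mk_out_eq_mul L x
    refine ⟨(QuotientGroup.mk x, ⟨(l : G)⁻¹ * y * l, ?_⟩), Subtype.ext ?_⟩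
    · simpa using hX (l : G)⁻¹ (L.inv_mem l.2) y hy
    · show (QuotientGroup.mk x : G ⧸ L).out * ((l : G)⁻¹ * y * l) * (QuotientGroup.mk x : G ⧸ L).out⁻¹ = _
      rw [hl]; group
  rw [Nat.card_prod] at h
  calc Nat.card {g : G | ∃ y ∈ X, ∃ x : G, x * y * x⁻¹ = g} * Nat.card L
      ≤ Nat.card (G ⧸ L) * Nat.card X * Nat.card L := Nat.mul_le_mul_right _ h
    _ = Nat.card G * Nat.card X := by rw [Subgroup.card_eq_card_quotient_mul_card_subgroup L]; ring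

/-- A function of mean square one, of modulus at least one off three sets, bounds their densities. -/
theorem mass_bound {G : Type*} [Fintype G] [Nonempty G] (f : G → ℂ) (S V Y : Set G) {α : ℝ}
    (hf : ∑ g, ‖f g‖ ^ 2 = (Fintype.card G : ℝ))
    (hS : α * (Fintype.card G : ℝ) ≤ ∑ᶠ g ∈ S, ‖f g‖ ^ 2)
    (hout : ∀ g, g ∉ S → g ∉ V → g ∉ Y → 1 ≤ ‖f g‖) :
    α * (Fintype.card G : ℝ) ≤ (Nat.card S : ℝ) + Nat.card V + Nat.card Y := by
  classical
  set T : Finset G := Finset.univ.filter fun g => g ∉ S ∧ g ∉ V ∧ g ∉ Y with hT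
  have hsum : (∑ᶠ g ∈ S, ‖f g‖ ^ 2) + T.card ≤ ∑ g, ‖f g‖ ^ 2 := by
    rw [finsum_mem_eq_sum_of_inter_support_eq (t := S.toFinset) _ (by simp)]
    have h1 : (T.card : ℝ) ≤ ∑ g ∈ T, ‖f g‖ ^ 2 := by
      have : ∀ g ∈ T, (1 : ℝ) ≤ ‖f g‖ ^ 2 := fun g hg => by
        simp only [hT, Finset.mem_filter, Finset.mem_univ, true_and] at hg
        exact one_le_pow₀ (hout g hg.1 hg.2.1 hg.2.2)
      simpa using Finset.sum_le_sum this
    have hd : Disjoint S.toFinset T := Finset.disjoint_left.mpr fun g hg hg' => by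
      simp only [hT, Finset.mem_filter, Finset.mem_univ, true_and] at hg'
      exact hg'.1 (Set.mem_toFinset.mp hg)
    calc _ ≤ ∑ g ∈ S.toFinset, ‖f g‖ ^ 2 + ∑ g ∈ T, ‖f g‖ ^ 2 := by linarith
      _ = ∑ g ∈ S.toFinset ∪ T, ‖f g‖ ^ 2 := (Finset.sum_union hd).symm
      _ ≤ _ := Finset.sum_le_sum_of_subset_of_nonneg (Finset.subset_univ _) fun g _ _ => sq_nonneg _
  have hcover : (Fintype.card G : ℝ) ≤ T.card + (Nat.card S : ℝ) + Nat.card V + Nat.card Y := by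
    have h : (Finset.univ : Finset G) ⊆ T ∪ (S.toFinset ∪ (V.toFinset ∪ Y.toFinset)) := fun g _ => by
      simp only [hT, Finset.mem_union, Finset.mem_filter, Finset.mem_univ, true_and, Set.mem_toFinset]
      tauto
    have h2 := (Finset.card_le_card h).trans ((Finset.card_union_le _ _).trans
      (Nat.add_le_add_left ((Finset.card_union_le _ _).trans (Nat.add_le_add_left (Finset.card_union_le _ _) _)) _))
    rw [Finset.card_univ, Set.toFinset_card, Set.toFinset_card, Set.toFinset_card] at h2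
    simp only [← Nat.card_eq_fintype_card] at h2 ⊢
    exact_mod_cast (by omega : Nat.card G ≤ T.card + Nat.card S + Nat.card V + Nat.card Y)
  linarith

/-- The arithmetic of (10.8)(iv): the regular fraction is at most `1 / w₁ + w₁ w₂ / m`, `m = |M'|`. -/
theorem regular_fraction_le {w₁ w₂ m ρ sS sV sY : ℝ} (hw1 : 0 < w₁) (hw2 : 0 < w₂)
    (h : 1 - w₁ / m ≤ sS + sV + sY) (hS : sS ≤ 1 / w₁)
    (hV : sV ≤ 1 - 1 / w₁ - 1 / w₂ + 1 / (w₁ * w₂)) (hY : sY ≤ (1 - ρ) / w₂) :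
    ρ ≤ 1 / w₁ + w₁ * w₂ / m := by
  have h2 : ρ / w₂ ≤ 1 / (w₁ * w₂) + w₁ / m := by
    have : (1 - ρ) / w₂ = 1 / w₂ - ρ / w₂ := sub_div _ _ _
    linarith
  calc ρ = ρ / w₂ * w₂ := (div_mul_cancel₀ ρ hw2.ne').symm
    _ ≤ (1 / (w₁ * w₂) + w₁ / m) * w₂ := mul_le_mul_of_nonneg_right h2 hw2.le
    _ = 1 / w₁ + w₁ * w₂ / m := by field_simp

end CfsgLib.OddOrder.Ten
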