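/-
Peterfalvi section 10, step (10.8)(i): the sum of the integers `η_{i0}(x)` is odd.
-/
import Mathlib

set_option autoImplicit false

namespace CfsgLib.OddOrder.Ten

/-- Over a group of odd order an inversion invariant integer function, odd at `1`, has odd sum. -/
theorem odd_sum_of_inv_invariant {A : Type*} [Group A] [Fintype A] [DecidableEq A] (hA : Odd (Nat.card A))
    (f : A → ℤ) (hf : ∀ a, f a⁻¹ = f a) (h1 : Odd (f 1)) : Odd (∑ a, f a) := by
  rw [← Finset.add_sum_erase _ _ (Finset.mem_univ (1 : A))]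
  refine h1.add_even ?_
  rw [even_iff_two_dvd]
  refine (ZMod.intCast_zmod_eq_zero_iff_dvd _ 2).mp ?_
  rw [Int.cast_sum]
  refine Finset.sum_involution (fun a _ => a⁻¹) (fun a _ => ?_) (fun a ha _ e => ?_)
    (fun a ha => by simpa using ha) (fun a _ => inv_inv a)
  · rw [hf]
    exact CharTwo.add_self_eq_zero _
  · have hne : a ≠ 1 := (Finset.mem_erase.mp ha).1
    have h2 : a ^ 2 = 1 := by rw [pow_two]; nth_rw 1 [← e]; exact inv_mul_cancel a
    exact hA.not_two_dvd_nat (orderOf_eq_prime h2 hne ▸ orderOf_dvd_natCard a)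

end CfsgLib.OddOrder.Ten
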