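/-
Peterfalvi (10.7) and the counting part of (10.8): the mean of `τ₁ ζ` over the Dade cosets is `ζ`, and
the resulting inequality on the regular fraction.
-/
import Cfsg.Agent.Lib.OddOrder.S10.Values
import Cfsg.Agent.Lib.OddOrder.S10.Count
import Cfsg.Agent.Lib.OddOrder.S10.Parity
import Cfsg.Agent.S1500
import Cfsg.Agent.S1508
import Cfsg.Agent.S1525

set_option autoImplicit false
set_option linter.unusedSectionVars false
set_option linter.style.haveILetI false

namespace CfsgLib.OddOrder.Ten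

open Cfsg CfsgLib.CharTheory CfsgLib.Dade CfsgLib.OddOrder.Found
open scoped ComplexConjugate commutatorElement

universe u

variable {G : Type u} [Group G] [Fintype G] {M : Subgroup G} [Fintype M] {K W₁ W₂ : Subgroup M}
  {H : G → Subgroup G}

/-- The set `A = K#`. -/
def tenA (M : Subgroup G) (K : Subgroup M) : Set G := Subtype.val '' {x : M | x ∈ K ∧ x ≠ 1}

theorem mem_tenA {x : M} : (x : G) ∈ tenA M K ↔ x ∈ K ∧ x ≠ 1 :=
  ⟨fun ⟨_, hy, e⟩ => Subtype.val_injective e ▸ hy, fun h => ⟨x, h, rfl⟩⟩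

/-- The mean of a function of `G` over the cosets `x H x`. -/
noncomputable def tenMean (H : G → Subgroup G) (ψ : G → ℂ) (x : G) : ℂ :=
  (Nat.card (H x) : ℂ)⁻¹ * ∑ᶠ u ∈ (H x : Set G), ψ (x * u)

theorem tenMean_conj {A : Set G} (hD : DadeHypothesis A M H) {ψ : G → ℂ} (hψ : IsClassFunction G ψ) {a x : G}
    (ha : a ∈ A) (hx : x ∈ M) : tenMean H ψ (x * a * x⁻¹) = tenMean H ψ a := by
  unfold tenMean
  rw [card_H_conj hD ha hx]
  congr 1
  refine (finsum_mem_eq_of_bijOn (fun u => x * u * x⁻¹) ⟨fun u hu => ?_, fun u _ v _ e => ?_, fun v hv => ?_⟩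
    fun u _ => ?_).symm
  · exact conj_mem_H_of_mem hD ha hx hu
  · exact mul_left_cancel (mul_right_cancel e)
  · refine ⟨x⁻¹ * v * x, ?_, by group⟩
    have h := conj_mem_H_of_mem hD (hD.conj_mem x hx a ha) (M.inv_mem hx) hv
    have e : x⁻¹ * (x * a * x⁻¹) * x⁻¹⁻¹ = a := by group
    rw [e, inv_inv] at h
    exact h
  · rw [show x * a * x⁻¹ * (x * u * x⁻¹) = x * (a * u) * x⁻¹ by group, hψ]

namespace TenData

variable (d : TenData M K W₁ W₂ H)
include d

theorem tenA_subset : tenA M K ⊆ tenA₀ M W₁ := by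
  rintro _ ⟨x, ⟨hx, h1⟩, rfl⟩
  exact d.mem_tenA₀_of_mem_kernel hx h1

theorem tenA_inv : ∀ x ∈ M, ∀ a ∈ tenA M K, x * a * x⁻¹ ∈ tenA M K := by
  rintro x hx _ ⟨a, ⟨ha, h1⟩, rfl⟩
  refine ⟨(⟨x, hx⟩ : M) * a * (⟨x, hx⟩ : M)⁻¹, ⟨d.prime.normal.conj_mem a ha _, fun e => h1 ?_⟩, rfl⟩
  simpa using e

theorem dadeA : DadeHypothesis (tenA M K) M H := dadeHypothesis_subset d.dade d.tenA_subset d.tenA_inv

/-- **(10.7)** The mean of `τ₁ ζ` is `ζ` on `A`. -/
theorem ten_seven {τ₁ : (M → ℂ) → (G → ℂ)} (hT : TenExt d τ₁) {ζ : M → ℂ} (hζ : IsTenZeta d ζ) {x : M}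
    (hx : x ∈ K) (hx1 : x ≠ 1) : tenMean H (τ₁ ζ) (x : G) = ζ x := by
  classical
  haveI := d.prime.normal
  haveI := Fintype.ofFinite K
  haveI := Fintype.ofFinite (W₁ →* ℂˣ)
  have hψc : IsClassFunction G (τ₁ ζ) := (isGenChar_iff_coeff_int.mp (d.ext_gen hT hζ.mem)).1
  have hζc : IsClassFunction M ζ := isClassFunction_irr hζ.irr
  set f : M → ℂ := fun y => if y ∈ K ∧ y ≠ 1 then tenMean H (τ₁ ζ) (y : G) - ζ y else 0 with hf
  have hfc : IsClassFunction M f := fun y g => by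
    simp only [hf]
    have hiff : g * y * g⁻¹ ∈ K ∧ g * y * g⁻¹ ≠ 1 ↔ y ∈ K ∧ y ≠ 1 := by
      refine and_congr ⟨fun h => ?_, fun h => d.prime.normal.conj_mem y h g⟩ (by simp)
      have := d.prime.normal.conj_mem _ h g⁻¹
      simpa [mul_assoc] using this
    by_cases hy : y ∈ K ∧ y ≠ 1
    · rw [if_pos (hiff.mpr hy), if_pos hy, hζc y g]
      push_cast
      rw [tenMean_conj d.dade hψc (d.mem_tenA₀_of_mem_kernel hy.1 hy.2) g.2]
    · rw [if_neg hy, if_neg fun h => hy (hiff.mp h)]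
  have hf1 : f 1 = 0 := if_neg fun h => h.2 rfl
  have hfs : d.Supported f := ⟨hfc, fun a ha => if_neg fun h => h.2 (Subgroup.mem_bot.mp
    (d.prime.inf_eq_bot ▸ Subgroup.mem_inf.mpr ⟨h.1, ha⟩))⟩
  have hoff : ∀ y : M, y ∉ K → f y = 0 := fun y hy => if_neg fun h => hy h.1
  -- `f` is a combination of the functions `Ind θ - θ(1) ζ`
  set r : K → ℂ := fun k => f k with hr
  have hrc : IsClassFunction K r := fun k l => hfc (k : M) l
  set c : IrrCharacter K → ℂ := fun θ => classInner r θ with hc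
  have hrsum := eq_sum_irr hrc
  have hw : (Nat.card W₁ : ℂ) ≠ 0 := Nat.cast_ne_zero.mpr Nat.card_pos.ne'
  have hind : indFun K r = (Nat.card W₁ : ℂ) • f := by
    funext y
    by_cases hy : y ∈ K
    · have h := indFun_normal_apply K r ⟨y, hy⟩
      simp only [hr, hfc y, Finset.sum_const, Finset.card_univ, nsmul_eq_mul] at h
      rw [h, ← Nat.card_eq_fintype_card, ← Subgroup.card_mul_index K, d.prime.index_eq, Nat.cast_mul,
        Pi.smul_apply, smul_eq_mul, ← mul_assoc, ← mul_assoc, inv_mul_cancel₀ (Nat.cast_ne_zero.mpr Nat.card_pos.ne'),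
        one_mul]
    · rw [indFun_normal_apply_not_mem K r hy, Pi.smul_apply, hoff y hy, smul_zero]
  have hdec : (Nat.card W₁ : ℂ) • f = ∑ θ : IrrCharacter K, c θ • (indFun K (θ : K → ℂ) - (θ : K → ℂ) 1 • ζ) := by
    rw [← hind]
    conv_lhs => rw [hrsum]
    rw [indFun_sum]
    simp only [indFun_smul, smul_sub, smul_smul, Finset.sum_sub_distrib, ← Finset.sum_smul]
    have h0 : ∑ θ : IrrCharacter K, c θ * (θ : K → ℂ) 1 = 0 := by
      have := congrFun hrsum 1
      simp only [Finset.sum_apply, Pi.smul_apply, smul_eq_mul, hr] at this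
      rw [show ((1 : K) : M) = 1 from rfl, hf1] at this
      exact this.symm
    rw [h0, zero_smul, sub_zero]
  have hterm : ∀ θ : IrrCharacter K, d.Supported (indFun K (θ : K → ℂ) - (θ : K → ℂ) 1 • ζ) ∧
      classInner (d.tau (indFun K (θ : K → ℂ) - (θ : K → ℂ) 1 • ζ)) (τ₁ ζ) =
        classInner (indFun K (θ : K → ℂ) - (θ : K → ℂ) 1 • ζ) ζ := by
    intro θ
    obtain ⟨k, -, hk⟩ := irr_degree_pos θ.2
    by_cases hθ1 : (θ : K → ℂ) = fun _ => 1
    · have e : indFun K (θ : K → ℂ) - (θ : K → ℂ) 1 • ζ = d.prime.muSum 1 - ζ := by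
        rw [hθ1, one_smul, ← d.prime.colChar_one, d.prime.indFun_colChar]
      rw [e]
      refine ⟨⟨isClassFunction_sub (isClassFunction_sum _ _ fun a _ => d.prime.mu_isClassFunction _) hζc,
        fun a ha => ?_⟩, ?_⟩
      · by_cases h1 : a = 1
        · subst h1
          rw [Pi.sub_apply, d.muSum_apply_one, d.prime.colChar_one, hζ.deg, mul_one, sub_self]
        · rw [Pi.sub_apply, hζ.zero_off a fun hk => h1 (Subgroup.mem_bot.mp
            (d.prime.inf_eq_bot ▸ Subgroup.mem_inf.mpr ⟨hk, ha⟩)), sub_zero, ← d.prime.indFun_colChar,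
            indFun_normal_apply_not_mem K _ fun hk => h1 (Subgroup.mem_bot.mp
            (d.prime.inf_eq_bot ▸ Subgroup.mem_inf.mpr ⟨hk, ha⟩))]
      · rw [d.ten_six hT hζ, classInner_sub_left, classInner_sum_left, classInner_sub_left, IsPrimeTI.muSum,
          classInner_sum_left]
        have hz : ∀ x y, classInner (d.eta x y) (τ₁ ζ) = 0 := fun x y => by
          rw [← classInner_comm, d.ext_orth_eta hT hζ.mem hζ.irr, map_zero]
        simp only [hz, d.mu_inner_zeta hζ, classInner_self_signed (d.ext_signed hT hζ.mem hζ.irr),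
          classInner_irr_self hζ.irr]
    · have hmem := d.mem_induced_of_ne θ.2 hθ1
      have h1 : indFun K (θ : K → ℂ) 1 = ((k : ℤ) : ℂ) * ζ 1 := by
        rw [indFun_apply_one, d.prime.index_eq, hk, hζ.deg, Int.cast_natCast, mul_comm]
      have hz := d.comb_mem hmem hζ.mem k h1
      rw [hk]
      rw [Int.cast_natCast] at hz
      refine ⟨d.supported_of_zspanOn hz, ?_⟩
      rw [← hT.agree _ hz]
      exact hT.iso.2.2.1 _ hz.1 ζ (Submodule.subset_span hζ.mem)
  have hkey : classInner (d.tau f) (τ₁ ζ) = classInner f ζ := by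
    have h1 := congrArg (fun g => classInner (d.tau g) (τ₁ ζ)) hdec
    have h2 := congrArg (fun g => classInner g ζ) hdec
    simp only [d.tau_smul', d.tau_sum', classInner_smul_left, classInner_sum_left, fun θ => (hterm θ).2] at h1 h2
    exact mul_left_cancel₀ hw (h1.trans h2.symm)
  have hadj : classInner (d.tau f) (τ₁ ζ) = classInner f (fun y : M => tenMean H (τ₁ ζ) (y : G)) :=
    (Cfsg.Agent.S1500.result (tenA₀ M W₁) M H d.dade f hfc (d.supported_vanish hfs)).2 (τ₁ ζ)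
      (fun y => tenMean H (τ₁ ζ) (y : G)) hψc fun a _ => rfl
  have hff : classInner f f = 0 := by
    have e : classInner f f = classInner f ((fun y : M => tenMean H (τ₁ ζ) (y : G)) - ζ) := by
      simp only [classInner, Pi.sub_apply]
      congr 1
      refine Finset.sum_congr rfl fun y _ => ?_
      simp only [hf]
      split <;> simp
    rw [e, classInner_sub_right, ← hadj, hkey, sub_self]
  obtain ⟨t, -, ht, htz⟩ := classInner_self_nonneg_real f
  have hf0 : f = 0 := htz (by rw [hff] at ht; exact_mod_cast ht.symm)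
  have := congrFun hf0 x
  simp only [hf, if_pos (And.intro hx hx1), Pi.zero_apply] at this
  exact sub_eq_zero.mp this

/-- The square norms of `ζ` on `A`. -/
theorem sum_zeta_sq {ζ : M → ℂ} (hζ : IsTenZeta d ζ) :
    ∑ᶠ a ∈ {a : M | (a : G) ∈ tenA M K}, ‖ζ a‖ ^ 2 = (Nat.card M : ℝ) - (Nat.card W₁ : ℝ) ^ 2 := by
  classical
  rw [finsum_mem_eq_sum_of_inter_support_eq (t := Finset.univ.filter fun a : M => a ∈ K ∧ a ≠ 1)]
  · have h := sum_norm_sq_irr hζ.irr
    rw [← Finset.sum_filter_add_sum_filter_not Finset.univ (fun a : M => a ∈ K ∧ a ≠ 1)] at h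
    rw [Finset.sum_eq_single_of_mem (s := Finset.univ.filter fun a : M => ¬(a ∈ K ∧ a ≠ 1)) (1 : M) (by simp)
      (fun b hb hne => by
        simp only [Finset.mem_filter, Finset.mem_univ, true_and, not_and] at hb
        rw [hζ.zero_off b fun hk => hb hk hne, norm_zero]; norm_num), hζ.deg, Complex.norm_natCast] at h
    linarith
  · ext a
    simp [mem_tenA]

/-- The density of the Dade support of `A`. -/
theorem card_dadeSupp_A : Nat.card (dadeSupp (tenA M K) H) * Nat.card M = Nat.card G * (Nat.card K - 1) := by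
  classical
  set f : M → ℂ := fun y => if y ∈ K ∧ y ≠ 1 then 1 else 0 with hf
  haveI := d.prime.normal
  have hfc : IsClassFunction M f := fun y g => by
    simp only [hf]
    refine if_congr (and_congr ⟨fun h => ?_, fun h => d.prime.normal.conj_mem y h g⟩ (by simp)) rfl rfl
    have := d.prime.normal.conj_mem _ h g⁻¹
    simpa [mul_assoc] using this
  have hfA : ∀ x : M, (x : G) ∉ tenA M K → f x = 0 := fun x hx => if_neg fun h => hx (mem_tenA.mpr h)
  have hval : dadeIsometry (tenA M K) M H f = fun g => if g ∈ dadeSupp (tenA M K) H then 1 else 0 := by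
    funext g
    by_cases hg : g ∈ dadeSupp (tenA M K) H
    · obtain ⟨a, ha, x, u, hu, hx⟩ := (dade_exists_iff_mem_supp d.dadeA g).mpr hg
      rw [dade_apply d.dadeA hfc ha hu hx, if_pos hg]
      simp only [hf, if_pos (mem_tenA.mp ha)]
    · rw [dade_eq_zero_of_notMem d.dadeA f hg, if_neg hg]
  have h := classInner_dade_dade d.dadeA hfc hfA hfc
  rw [hval] at h
  simp only [classInner, apply_ite (starRingEnd ℂ), map_one, map_zero, mul_ite, mul_one, mul_zero,
    Finset.sum_ite, Finset.sum_const_zero, add_zero, Finset.filter_filter, and_self, hf] at h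
  simp only [Finset.sum_const, nsmul_eq_mul, mul_one] at h
  have e1 : (Finset.univ.filter fun g => g ∈ dadeSupp (tenA M K) H).card = Nat.card (dadeSupp (tenA M K) H) := by
    rw [Nat.card_eq_fintype_card, ← Set.toFinset_card]
    congr 1
    ext g; simp
  have e2 : (Finset.univ.filter fun a : M => a ∈ K ∧ a ≠ 1).card = Nat.card K - 1 := by
    have e : (Finset.univ.filter fun a : M => a ∈ K ∧ a ≠ 1) = (K : Set M).toFinset.erase 1 := by
      ext a; simp [and_comm]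
    rw [e, Finset.card_erase_of_mem (by simp), Set.toFinset_card, ← Nat.card_eq_fintype_card, SetLike.coe_sort_coe]
  rw [e1, e2, inv_mul_eq_iff_eq_mul₀ (Nat.cast_ne_zero.mpr Nat.card_pos.ne'), ← mul_assoc,
    ← div_eq_mul_inv, div_mul_eq_mul_div, eq_div_iff (Nat.cast_ne_zero.mpr Nat.card_pos.ne')] at h
  exact_mod_cast h

/-- The conjugates of `V` in `G`. -/
def vClass (d : TenData M K W₁ W₂ H) : Set G := {g | ∃ y ∈ (Subtype.val '' {v : M | d.InV v}), ∃ x : G, x * y * x⁻¹ = g}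

/-- The size of the set of conjugates of `V`. -/
theorem card_vClass : Nat.card d.vClass * (Nat.card W₁ * Nat.card W₂) ≤
    Nat.card G * ((Nat.card W₁ - 1) * (Nat.card W₂ - 1)) := by
  classical
  obtain ⟨e, he⟩ := exists_prod_equiv d.prime.inf₁₂ d.prime.comm
  have hWG : Nat.card ((W₁ ⊔ W₂).map M.subtype) = Nat.card W₁ * Nat.card W₂ := by
    rw [Subgroup.card_map_of_injective M.subtype_injective, ← Nat.card_congr e.toEquiv, Nat.card_prod]
  have h := card_conjugates_le ((W₁ ⊔ W₂).map M.subtype) (Subtype.val '' {v : M | d.InV v}) ?_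
  · rw [hWG] at h
    refine le_trans h (Nat.mul_le_mul_left _ ?_)
    have hc : Nat.card ({a : W₁ | a ≠ 1} ×ˢ {b : W₂ | b ≠ 1} : Set (W₁ × W₂)) =
        (Nat.card W₁ - 1) * (Nat.card W₂ - 1) := by
      have h1 : ∀ (X : Subgroup M), {a : X | a ≠ 1}.ncard = Nat.card X - 1 := fun X => by
        rw [show {a : X | a ≠ 1} = Set.univ \ {1} by ext; simp, Set.ncard_sdiff_singleton_of_mem (Set.mem_univ _),
          Set.ncard_univ]
      rw [Nat.card_coe_set_eq, Set.ncard_prod, h1, h1]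
    rw [← hc]
    refine Nat.card_le_card_of_surjective (fun p => ⟨(((e p.1 : ↥(W₁ ⊔ W₂)) : M) : G), ⟨_, ?_, rfl⟩⟩) ?_
    · obtain ⟨⟨a, b⟩, ha, hb⟩ := p
      have ha' : (a : M) ≠ 1 := fun h => ha (Subtype.ext h)
      have hb' : (b : M) ≠ 1 := fun h => hb (Subtype.ext h)
      obtain ⟨h1, h2⟩ := mul_notMem_of_ne_one d.prime.inf₁₂ a.2 ha' b.2 hb'
      exact ⟨(e (a, b)).2, by rw [he]; exact h1, by rw [he]; exact h2⟩
    · rintro ⟨_, v, hv, rfl⟩
      obtain ⟨⟨a, b⟩, hab⟩ := e.surjective ⟨v, hv.1⟩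
      have hv' : (a : M) * b = v := by rw [← he (a, b), hab]
      refine ⟨⟨(a, b), fun h => hv.2.2 ?_, fun h => hv.2.1 ?_⟩, Subtype.ext ?_⟩
      · rw [← hv', show a = 1 from h, Subgroup.coe_one, one_mul]; exact b.2
      · rw [← hv', show b = 1 from h, Subgroup.coe_one, mul_one]; exact a.2
      · show (((e (a, b) : ↥(W₁ ⊔ W₂)) : M) : G) = v
        rw [hab]
  · rintro x ⟨w, hw, rfl⟩ _ ⟨v, hv, rfl⟩
    refine ⟨v, hv, ?_⟩
    have hcomm : (⟨w, hw⟩ : ↥(W₁ ⊔ W₂)) * ⟨v, hv.1⟩ = ⟨v, hv.1⟩ * ⟨w, hw⟩ := d.prime.commW _ _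
    have : w * v * w⁻¹ = v := by
      rw [show w * v = v * w from congrArg Subtype.val hcomm, mul_inv_cancel_right]
    exact (congrArg Subtype.val this).symm

theorem mem_of_mem_supp {g : G} (hg : g ∈ dadeSupp (tenA₀ M W₁) H) :
    g ∈ dadeSupp (tenA M K) H ∨ g ∈ d.vClass := by
  obtain ⟨a, ⟨a', ha', rfl⟩, u, hu, x, hx⟩ := hg
  by_cases hK : a' ∈ K
  · refine Or.inl ⟨_, mem_tenA.mpr ⟨hK, fun e => ha' 1 (by rw [e]; simp)⟩, u, hu, x, hx⟩
  · obtain ⟨m, hm, hm2⟩ := d.prime.exists_conj_mem hK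
    have hv : d.InV (m * a' * m⁻¹) := ⟨hm, fun h => ha' m h, hm2⟩
    have h2 := conj_mem_H_of_mem d.dade (mem_tenA₀.mpr ha') m.2 hu
    have e : (m : G) * (a' : G) * (m : G)⁻¹ = ((m * a' * m⁻¹ : M) : G) := by push_cast; rfl
    rw [e, d.H_eq_bot hv, Subgroup.mem_bot] at h2
    have hu1 : u = 1 := by simpa using h2
    subst hu1
    refine Or.inr ⟨_, ⟨_, hv, rfl⟩, ((m : G) * x)⁻¹, ?_⟩
    push_cast
    rw [mul_one] at hx
    rw [← hx]; group

theorem eta_row_int {g : G} (hg : (orderOf g).Coprime (Nat.card W₁)) (a : W₁ →* ℂˣ) :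
    ∃ k : ℤ, d.eta a 1 g = k := by
  refine Cfsg.Agent.S1508.result _ _ d.self d.oddW d.fam d.isFam (d.omegaG a 1) g (hg.coprime_dvd_right ?_)
  refine orderOf_dvd_of_pow_eq_one (MonoidHom.ext fun x => ?_)
  rw [MonoidHom.pow_apply, MonoidHom.one_apply]
  show ((d.prime.row a * d.prime.col 1) (tenHom W₁ W₂ x)) ^ Nat.card W₁ = 1
  rw [MonoidHom.mul_apply, d.prime.col_one, MonoidHom.one_apply, mul_one, d.prime.row_apply, ← map_pow,
    pow_card_eq_one', map_one]

/-- **(10.8)(i)** Off the support, at orders prime to `w₁`, the image of `ζ` has modulus at least one. -/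
theorem one_le_norm_ext {τ₁ : (M → ℂ) → (G → ℂ)} (hT : TenExt d τ₁) {ζ : M → ℂ} (hζ : IsTenZeta d ζ) {g : G}
    (hS : g ∉ dadeSupp (tenA M K) H) (hV : g ∉ d.vClass) (hg : (orderOf g).Coprime (Nat.card W₁)) :
    1 ≤ ‖τ₁ ζ g‖ := by
  classical
  haveI := Fintype.ofFinite (W₁ →* ℂˣ)
  have hz : d.tau (d.prime.muSum 1 - ζ) g = 0 :=
    dade_eq_zero_of_notMem d.dade _ fun h => (d.mem_of_mem_supp h).elim hS hV
  rw [d.ten_six hT hζ, Pi.sub_apply, sub_eq_zero] at hz
  choose k hk using d.eta_row_int hg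
  have hinv : ∀ a, k a⁻¹ = k a := fun a => by
    have h := congrFun (d.eta_conj a 1) g
    rw [show (1 : W₂ →* ℂˣ)⁻¹ = 1 from MonoidHom.ext fun x => inv_one] at h
    change conj (d.eta a 1 g) = _ at h
    rw [hk, hk, map_intCast] at h
    exact_mod_cast h.symm
  have hk1 : k 1 = 1 := by
    have := hk 1
    rw [d.eta_one_one] at this
    exact (Int.cast_eq_one (α := ℂ)).mp this.symm
  have hodd := odd_sum_of_inv_invariant (A := W₁ →* ℂˣ) (by rw [Nat.card_eq_fintype_card, d.card_hom₁']; exact d.prime.odd₁)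
    k hinv (by rw [hk1]; exact odd_one)
  rw [← hz, Finset.sum_apply, Finset.sum_congr rfl fun a _ => hk a, ← Int.cast_sum, Complex.norm_intCast]
  have hne : ∑ a, k a ≠ 0 := fun e => by rw [e] at hodd; exact absurd hodd (by decide)
  exact_mod_cast Int.one_le_abs hne

/-- **(10.8)(iv)** The counting inequality. -/
theorem ten_mass {τ₁ : (M → ℂ) → (G → ℂ)} (hT : TenExt d τ₁) {ζ : M → ℂ} (hζ : IsTenZeta d ζ) (Y : Set G)
    (hY : ∀ g : G, g ∉ dadeSupp (tenA M K) H → g ∉ d.vClass → ¬ (orderOf g).Coprime (Nat.card W₁) → g ∈ Y)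
    {ρ : ℝ} (hYc : (Nat.card Y : ℝ) * Nat.card W₂ ≤ (1 - ρ) * Nat.card G) :
    ρ ≤ 1 / (Nat.card W₁ : ℝ) + (Nat.card W₁ : ℝ) * Nat.card W₂ / Nat.card K := by
  classical
  set g₀ : ℝ := (Nat.card G : ℝ)
  set w₁ : ℝ := (Nat.card W₁ : ℝ) with hw1d
  set w₂ : ℝ := (Nat.card W₂ : ℝ) with hw2d
  set k₀ : ℝ := (Nat.card K : ℝ) with hkd
  have hg0 : 0 < g₀ := Nat.cast_pos.mpr Nat.card_pos
  have hw1 : 0 < w₁ := Nat.cast_pos.mpr Nat.card_pos
  have hw2 : 0 < w₂ := Nat.cast_pos.mpr Nat.card_pos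
  have hk0 : 0 < k₀ := Nat.cast_pos.mpr Nat.card_pos
  have hM : (Nat.card M : ℝ) = k₀ * w₁ := by
    rw [hkd, hw1d, ← Nat.cast_mul, ← d.prime.index_eq, Subgroup.card_mul_index]
  have hψ := d.ext_signed hT hζ.mem hζ.irr
  have hnorm : ∑ g, ‖τ₁ ζ g‖ ^ 2 = (Fintype.card G : ℝ) := by
    rw [← Nat.card_eq_fintype_card]
    rcases hψ with h | h
    · exact sum_norm_sq_irr h
    · simpa using sum_norm_sq_irr h
  have hS : (1 - w₁ / k₀) * (Fintype.card G : ℝ) ≤ ∑ᶠ g ∈ dadeSupp (tenA M K) H, ‖τ₁ ζ g‖ ^ 2 := by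
    have h := Cfsg.Agent.S1525.result (tenA M K) M H d.dadeA (τ₁ ζ)
      (isGenChar_iff_coeff_int.mp (d.ext_gen hT hζ.mem)).1 ζ fun a ha => by
        rw [← d.ten_seven hT hζ (mem_tenA.mp ha).1 (mem_tenA.mp ha).2]; rfl
    rw [d.sum_zeta_sq hζ, hM, ← hw1d] at h
    have e : (k₀ * w₁)⁻¹ * (k₀ * w₁ - w₁ ^ 2) = 1 - w₁ / k₀ := by field_simp
    rw [e] at h
    have h' := mul_le_mul_of_nonneg_left h hg0.le
    rw [← mul_assoc, mul_inv_cancel₀ hg0.ne', one_mul, mul_comm] at h'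
    rw [← Nat.card_eq_fintype_card]
    exact h'
  have hmass := mass_bound (τ₁ ζ) (dadeSupp (tenA M K) H) d.vClass Y hnorm hS fun g h1 h2 h3 =>
    d.one_le_norm_ext hT hζ h1 h2 (by_contra fun hc => h3 (hY g h1 h2 hc))
  rw [← Nat.card_eq_fintype_card] at hmass
  have hsupp : (Nat.card (dadeSupp (tenA M K) H) : ℝ) * (k₀ * w₁) ≤ g₀ * k₀ := by
    have h := congrArg (Nat.cast (R := ℝ)) d.card_dadeSupp_A
    push_cast at h
    rw [hM] at h
    rw [h]
    exact mul_le_mul_of_nonneg_left (Nat.cast_le.mpr (Nat.sub_le (Nat.card K) 1)) hg0.le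
  have hv : (Nat.card d.vClass : ℝ) * (w₁ * w₂) ≤ g₀ * ((w₁ - 1) * (w₂ - 1)) := by
    have h := d.card_vClass
    have h1 : 1 ≤ Nat.card W₁ := Nat.card_pos
    have h2 : 1 ≤ Nat.card W₂ := Nat.card_pos
    have h' : ((Nat.card d.vClass * (Nat.card W₁ * Nat.card W₂) : ℕ) : ℝ) ≤
        ((Nat.card G * ((Nat.card W₁ - 1) * (Nat.card W₂ - 1)) : ℕ) : ℝ) := by exact_mod_cast h
    push_cast [Nat.cast_sub h1, Nat.cast_sub h2] at h'
    exact h'
  refine regular_fraction_le hw1 hw2 (m := k₀) (sS := (Nat.card (dadeSupp (tenA M K) H) : ℝ) / g₀)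
    (sV := (Nat.card d.vClass : ℝ) / g₀) (sY := (Nat.card Y : ℝ) / g₀) ?_ ?_ ?_ ?_
  · rw [← add_div, ← add_div, le_div_iff₀ hg0]
    exact hmass
  · rw [div_le_div_iff₀ hg0 hw1]
    have := le_of_mul_le_mul_right (show (Nat.card (dadeSupp (tenA M K) H) : ℝ) * w₁ * k₀ ≤ g₀ * k₀ by linarith) hk0
    linarith
  · rw [div_le_iff₀ hg0]
    have e : (1 - 1 / w₁ - 1 / w₂ + 1 / (w₁ * w₂)) * g₀ = g₀ * ((w₁ - 1) * (w₂ - 1)) / (w₁ * w₂) := by
      field_simp
      ring
    rw [e, le_div_iff₀ (by positivity)]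
    exact hv
  · rw [div_le_div_iff₀ hg0 hw2]
    exact hYc

end TenData

end CfsgLib.OddOrder.Ten
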