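/-
Peterfalvi (10.8), group-theoretic part: in the partner `T` most elements of the complement act regularly
on the Fitting subgroup, unless the complement is small.
-/
import Cfsg.Agent.Lib.Coprime
import Cfsg.Agent.S1446
import Cfsg.Agent.Lib.CharTheory.CyclicTI

set_option autoImplicit false
set_option linter.unusedSectionVars false
set_option linter.style.haveILetI false

namespace CfsgLib.OddOrder.Ten

open Subgroup
open scoped commutatorElement

universe u

variable {Γ : Type u} [Group Γ] [Finite Γ]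

/-- A nilpotent normal subgroup `Q` acted on coprimely by `V ⋊ W`, `V` abelian and `W` of prime order,
with cyclic fixed points of `W` on `Q`. -/
structure SingData (Q V W : Subgroup Γ) : Prop where
  normalQ : Q.Normal
  nilQ : Group.IsNilpotent Q
  oddQ : Odd (Nat.card Q)
  commV : ∀ a ∈ V, ∀ b ∈ V, a * b = b * a
  normV : W ≤ normalizer (V : Set Γ)
  primeW : (Nat.card W).Prime
  infVW : V ⊓ W = ⊥
  fpf : ∀ r ∈ W, r ≠ 1 → V ⊓ centralizer ({r} : Set Γ) = ⊥
  oddVW : Odd (Nat.card ↥(V ⊔ W))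
  solvVW : Group.IsSolvable ↥(V ⊔ W)
  coprime : (Nat.card ↥(V ⊔ W)).Coprime (Nat.card Q)
  cyclicC : IsCyclic ↥(Q ⊓ centralizer (W : Set Γ))
  centV : Q ⊓ centralizer (V : Set Γ) = ⊥

/-- The elements of `V` fixing a nonidentity element of `Q`. -/
def singSet (Q V : Subgroup Γ) : Set Γ := {v | v ∈ V ∧ ∃ x ∈ Q, x ≠ 1 ∧ v * x = x * v}

/-- A subgroup of `V` maximal among those fixing a nonidentity element of `Q`. -/
structure IsSingKernel (Q V C : Subgroup Γ) : Prop where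
  le : C ≤ V
  fix : Q ⊓ centralizer (C : Set Γ) ≠ ⊥
  maximal : ∀ D : Subgroup Γ, C ≤ D → D ≤ V → Q ⊓ centralizer (D : Set Γ) ≠ ⊥ → D ≤ C

variable {Q V W : Subgroup Γ}

theorem exists_singKernel {v : Γ} (hv : v ∈ singSet Q V) : ∃ C, IsSingKernel Q V C ∧ v ∈ C := by
  obtain ⟨hvV, x, hxQ, hx1, hvx⟩ := hv
  obtain ⟨C, ⟨hCV, hCf, hvC⟩, hmax⟩ := (Set.toFinite {D : Subgroup Γ | D ≤ V ∧
    Q ⊓ centralizer (D : Set Γ) ≠ ⊥ ∧ v ∈ D}).exists_maximal ⟨zpowers v, by rwa [zpowers_le], fun h => by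
      have hmem : x ∈ Q ⊓ centralizer (zpowers v : Set Γ) := by
        refine mem_inf.mpr ⟨hxQ, ?_⟩
        rw [mem_centralizer_iff]
        rintro _ ⟨k, rfl⟩
        exact (Commute.zpow_left hvx k).eq
      rw [h, mem_bot] at hmem
      exact hx1 hmem, mem_zpowers v⟩
  exact ⟨C, ⟨hCV, hCf, fun D hCD hDV hD => hmax ⟨hDV, hD, hCD hvC⟩ hCD⟩, hvC⟩

theorem card_mul_singKernel_le {C U₀ : Subgroup Γ} (hC : IsSingKernel Q V C) (hU : U₀ ≤ V)
    (hreg : ∀ u ∈ U₀, ∀ x ∈ Q, x ≠ 1 → u * x = x * u → u = 1) :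
    Nat.card U₀ * Nat.card C ≤ Nat.card V := by
  obtain ⟨x, hx, hx1⟩ := (bot_or_exists_ne_one _).resolve_left hC.fix
  rw [← Nat.card_prod]
  refine Nat.card_le_card_of_injective
    (fun p : U₀ × C => (⟨(p.1 : Γ) * p.2, V.mul_mem (hU p.1.2) (hC.le p.2.2)⟩ : V)) ?_
  rintro ⟨a, b⟩ ⟨a', b'⟩ e
  have e : (a : Γ) * b = a' * b' := congrArg Subtype.val e
  have h : (a' : Γ)⁻¹ * a = b' * (b : Γ)⁻¹ := by
    rw [eq_mul_inv_iff_mul_eq, mul_assoc, e]; group
  have h1 : (a' : Γ)⁻¹ * a = 1 := hreg _ (U₀.mul_mem (U₀.inv_mem a'.2) a.2) x hx.1 hx1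
    (mem_centralizer_iff.mp hx.2 _ (h ▸ C.mul_mem b'.2 (C.inv_mem b.2)))
  rw [h1] at h
  exact Prod.ext (Subtype.ext (inv_mul_eq_one.mp h1).symm) (Subtype.ext (mul_inv_eq_one.mp h.symm).symm)

namespace SingData

variable (s : SingData Q V W)
include s

theorem conj_mem_kernelFix {C : Subgroup Γ} {g : Γ} (hg : g ∈ normalizer (C : Set Γ)) {y : Γ}
    (hy : y ∈ Q ⊓ centralizer (C : Set Γ)) : g * y * g⁻¹ ∈ Q ⊓ centralizer (C : Set Γ) := by
  refine mem_inf.mpr ⟨s.normalQ.conj_mem y hy.1 g, mem_centralizer_iff.mpr fun c hc => ?_⟩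
  have h1 : g⁻¹ * c * g ∈ C := by
    have := (mem_normalizer_iff.mp (inv_mem hg) c).mp hc
    rwa [inv_inv] at this
  have h2 := mem_centralizer_iff.mp hy.2 _ h1
  calc c * (g * y * g⁻¹) = g * (g⁻¹ * c * g * y) * g⁻¹ := by group
    _ = g * (y * (g⁻¹ * c * g)) * g⁻¹ := by rw [h2]
    _ = g * y * g⁻¹ * c := by group

theorem centralizer_singleton_eq {x : Γ} (hx : x ∈ W) (hx1 : x ≠ 1) :
    centralizer ({x} : Set Γ) = centralizer (W : Set Γ) := by
  haveI := Fact.mk s.primeW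
  have e : W = zpowers x := by
    refine (eq_of_le_of_card_ge (zpowers_le.mpr hx) (le_of_eq ?_)).symm
    rw [Nat.card_zpowers]
    exact ((s.primeW.eq_one_or_self_of_dvd _ (W.orderOf_dvd_natCard hx)).resolve_left
      fun h => hx1 (orderOf_eq_one_iff.mp h)).symm
  rw [e, zpowers_eq_closure, centralizer_closure]

/-- A kernel normalized by `W` yields a fixed point of `W`. -/
theorem fixed_kernel {C : Subgroup Γ} (hC : IsSingKernel Q V C) (hW : W ≤ normalizer (C : Set Γ)) :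
    Q ⊓ centralizer (C : Set Γ) ⊓ centralizer (W : Set Γ) ≠ ⊥ := by
  set Mc := Q ⊓ centralizer (C : Set Γ)
  have hVn : V ≤ normalizer (C : Set Γ) := fun v hv => by
    rw [mem_normalizer_iff]
    intro c
    constructor
    · intro hc
      rw [s.commV v hv c (hC.le hc), mul_inv_cancel_right]; exact hc
    · intro hc
      have h := s.commV v hv _ (hC.le hc)
      have e : c = v * c * v⁻¹ := by
        calc c = v⁻¹ * (v * c * v⁻¹ * v) := by group
          _ = v * c * v⁻¹ := by rw [← h]; group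
      rwa [e]
  have hn : ∀ X : Subgroup Γ, X ≤ normalizer (C : Set Γ) → X ≤ normalizer (Mc : Set Γ) := fun X hX g hg => by
    rw [mem_normalizer_iff]
    refine fun y => ⟨s.conj_mem_kernelFix (hX hg), fun hy => ?_⟩
    have := s.conj_mem_kernelFix (hX (X.inv_mem hg)) hy
    rwa [inv_inv, show g⁻¹ * (g * y * g⁻¹) * g = y by group] at this
  have hMn : Group.IsNilpotent Mc := by
    haveI := s.nilQ
    exact Group.nilpotent_of_mulEquiv (subgroupOfEquivOfLe (inf_le_left : Mc ≤ Q))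
  have hV1 : V ≠ ⊥ := fun e => hC.fix (by
    rw [eq_bot_iff, ← s.centV]
    refine inf_le_inf le_rfl ?_
    rw [show C = ⊥ from eq_bot_iff.mpr (e ▸ hC.le), e])
  have hW1 : W ≠ ⊥ := fun e => s.primeW.ne_one (by rw [e, card_bot])
  obtain ⟨-, hcard, -⟩ := Cfsg.Agent.S1446.result V W Mc hV1 hW1 s.infVW s.normV
    (fun r hr hr1 => s.fpf r hr hr1) s.solvVW s.oddVW hC.fix hMn (hn V hVn) (hn W hW)
    (s.coprime.coprime_dvd_right (card_dvd_of_le inf_le_left))
    (eq_bot_iff.mpr (s.centV ▸ inf_le_inf inf_le_left le_rfl))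
    fun x hx hx1 => by rw [s.centralizer_singleton_eq hx hx1]
  intro e
  rw [e, card_bot, one_pow] at hcard
  exact hC.fix (card_eq_one.mp hcard)

/-- A kernel not normalized by `W` is large. -/
theorem moved_kernel {C : Subgroup Γ} (hC : IsSingKernel Q V C) (hW : ¬ W ≤ normalizer (C : Set Γ)) :
    ∃ q, q ∣ Nat.card ↥(Q ⊓ centralizer (W : Set Γ)) ∧ 2 * Nat.card V + Nat.card C ≤ q * Nat.card C := by
  classical
  haveI := s.normalQ
  haveI := s.nilQ
  haveI := Fintype.ofFinite C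
  obtain ⟨r, hr, hrn⟩ : ∃ r ∈ W, r ∉ normalizer (C : Set Γ) := by
    by_contra h
    push Not at h
    exact hW h
  set p := Nat.card W with hp
  have hrp : r ^ p = 1 := congrArg Subtype.val (pow_card_eq_one' (x := (⟨r, hr⟩ : W)))
  have hrW : W ≤ zpowers r := by
    refine (eq_of_le_of_card_ge (zpowers_le.mpr hr) (le_of_eq ?_)).ge
    rw [Nat.card_zpowers]
    exact ((s.primeW.eq_one_or_self_of_dvd _ (W.orderOf_dvd_natCard hr)).resolve_left
      fun h => hrn (by rw [orderOf_eq_one_iff.mp h]; exact one_mem _)).symm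
  -- an element of prime order fixed by `C`
  obtain ⟨x₀, hx₀, hx₀1⟩ := (bot_or_exists_ne_one _).resolve_left hC.fix
  obtain ⟨q, hq, hqd⟩ := Nat.exists_prime_and_dvd (n := orderOf x₀) fun h => hx₀1 (orderOf_eq_one_iff.mp h)
  haveI := Fact.mk hq
  obtain ⟨x, hxmem, hxord⟩ : ∃ x ∈ Q ⊓ centralizer (C : Set Γ), orderOf x = q :=
    ⟨x₀ ^ (orderOf x₀ / q), pow_mem hx₀ _, orderOf_pow_orderOf_div (orderOf_pos x₀).ne' hqd⟩
  have hqodd : Odd q := s.oddQ.of_dvd_nat (hxord ▸ Q.orderOf_dvd_natCard hxmem.1)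
  -- the central factor containing it
  have hex : ∃ m, (⟨x, hxmem.1⟩ : Q) ∈ Subgroup.upperCentralSeries Q m := by
    obtain ⟨m, hm⟩ := Group.IsNilpotent.nilpotent Q
    exact ⟨m, by rw [hm]; trivial⟩
  obtain ⟨m, hm, hm'⟩ : ∃ m, (⟨x, hxmem.1⟩ : Q) ∈ Subgroup.upperCentralSeries Q (m + 1) ∧
      (⟨x, hxmem.1⟩ : Q) ∉ Subgroup.upperCentralSeries Q m := by
    obtain ⟨k, hk⟩ : ∃ k, Nat.find hex = k + 1 := by
      refine Nat.exists_eq_succ_of_ne_zero fun h => ?_
      have := Nat.find_spec hex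
      rw [h, Subgroup.upperCentralSeries_zero, mem_bot] at this
      have hx1 : x = 1 := congrArg Subtype.val this
      rw [hx1, orderOf_one] at hxord
      exact hq.ne_one hxord.symm
    exact ⟨k, hk ▸ Nat.find_spec hex, Nat.find_min hex (by omega)⟩
  let N : Subgroup Γ := (Subgroup.upperCentralSeries Q m).map Q.subtype
  haveI hN : N.Normal := inferInstanceAs ((Subgroup.upperCentralSeries Q m).map Q.subtype).Normal
  have hNQ : N ≤ Q := map_subtype_le _
  have hnorm : ∀ (X Y : Subgroup Γ), Y.Normal → X ≤ normalizer (Y : Set Γ) := fun X Y h => by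
    rw [normalizer_eq_top_iff.mpr h]; exact le_top
  let π := QuotientGroup.mk' N
  have hlift : ∀ (D : Subgroup Γ), D ≤ V ⊔ W → ∀ y ∈ Q.map π, (∀ d ∈ D, π d * y = y * π d) →
      ∃ c ∈ Q ⊓ centralizer (D : Set Γ), π c = y := by
    rintro D hD _ ⟨k, hk, rfl⟩ hfix
    obtain ⟨c, hc, hkc⟩ := CfsgLib.coprime_fixed_quotient (A := D) (K := Q) (N := N) (hnorm _ _ s.normalQ)
      (s.coprime.coprime_dvd_left (card_dvd_of_le hD)) (Or.inr inferInstance) hNQ (hnorm _ _ hN) (hnorm _ _ hN) hk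
      fun d hd => by
        rw [← QuotientGroup.eq_one_iff]
        show π (d * k * d⁻¹ * k⁻¹) = 1
        rw [map_mul, map_mul, map_mul, map_inv, map_inv, hfix d hd]
        group
    refine ⟨c, hc, ?_⟩
    have h : π (k⁻¹ * c) = 1 := (QuotientGroup.eq_one_iff _).mpr hkc
    rw [map_mul, map_inv, inv_mul_eq_one] at h
    exact h.symm
  have hfixmax : ∀ D : Subgroup Γ, C ≤ D → D ≤ V → ∀ y ∈ Q.map π, y ≠ 1 → (∀ d ∈ D, π d * y = y * π d) →
      D ≤ C := fun D hCD hDV y hy hy1 hfix => by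
    obtain ⟨c, hc, hcy⟩ := hlift D (hDV.trans le_sup_left) y hy hfix
    refine hC.maximal D hCD hDV fun h => hy1 ?_
    rw [h, mem_bot] at hc
    rw [← hcy, hc, map_one]
  -- the abelian section
  let A : Subgroup (Γ ⧸ N) :=
    { carrier := {y | y ∈ Q.map π ∧ (∀ z ∈ Q.map π, z * y = y * z) ∧ y ^ q = 1}
      one_mem' := ⟨one_mem _, fun z _ => by rw [mul_one, one_mul], one_pow q⟩
      mul_mem' := fun {a b} ha hb => ⟨mul_mem ha.1 hb.1,
        fun z hz => by rw [← mul_assoc, ha.2.1 z hz, mul_assoc, hb.2.1 z hz, mul_assoc],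
        by rw [(show Commute a b from hb.2.1 a ha.1).mul_pow, ha.2.2, hb.2.2, one_mul]⟩
      inv_mem' := fun {a} ha => ⟨inv_mem ha.1, fun z hz => (Commute.inv_right (ha.2.1 z hz)).eq,
        by rw [inv_pow, ha.2.2, inv_one]⟩ }
  letI : CommGroup A :=
    { (inferInstance : Group A) with mul_comm := fun a b => Subtype.ext (b.2.2.1 a a.2.1) }
  have hQn : (Q.map π).Normal := Subgroup.Normal.map s.normalQ _ (QuotientGroup.mk'_surjective N)
  have hconj : ∀ (g : Γ ⧸ N), ∀ y ∈ A, g * y * g⁻¹ ∈ A := fun g y hy =>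
    ⟨hQn.conj_mem y hy.1 g, fun z hz => by
      have h := hy.2.1 (g⁻¹ * z * g) (by simpa using hQn.conj_mem z hz g⁻¹)
      calc z * (g * y * g⁻¹) = g * (g⁻¹ * z * g * y) * g⁻¹ := by group
        _ = g * (y * (g⁻¹ * z * g)) * g⁻¹ := by rw [h]
        _ = g * y * g⁻¹ * z := by group,
      by rw [conj_pow, hy.2.2, mul_one, mul_inv_cancel]⟩
  let σ : Γ ⧸ N → A →* A := fun g =>
    { toFun := fun a => ⟨g * a * g⁻¹, hconj g a a.2⟩
      map_one' := Subtype.ext (by show g * (((1 : A)) : Γ ⧸ N) * g⁻¹ = 1; rw [Subgroup.coe_one, mul_one, mul_inv_cancel])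
      map_mul' := fun a b => Subtype.ext (by
        show g * ((a : Γ ⧸ N) * b) * g⁻¹ = g * a * g⁻¹ * (g * b * g⁻¹)
        group) }
  let L : Subgroup A := ((A ⊓ centralizer ((C.map π : Subgroup (Γ ⧸ N)) : Set (Γ ⧸ N))).subgroupOf A)
  have hLmem : ∀ a : A, a ∈ L ↔ ∀ c ∈ C, π c * (a : Γ ⧸ N) = a * π c := fun a => by
    simp only [L, mem_subgroupOf, mem_inf, SetLike.coe_mem, true_and, mem_centralizer_iff]
    exact ⟨fun h c hc => h _ ⟨c, hc, rfl⟩, fun h y hy => by obtain ⟨c, hc, rfl⟩ := hy; exact h c hc⟩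
  have hxA : π x ∈ A := by
    refine ⟨⟨x, hxmem.1, rfl⟩, ?_, by rw [← map_pow, ← hxord, pow_orderOf_eq_one, map_one]⟩
    rintro _ ⟨z, hz, rfl⟩
    have h := Subgroup.mem_upperCentralSeries_succ_iff.mp hm ⟨z, hz⟩
    have h' : π (x * z * x⁻¹ * z⁻¹) = 1 :=
      (QuotientGroup.eq_one_iff _).mpr ⟨⁅(⟨x, hxmem.1⟩ : Q), ⟨z, hz⟩⁆, h, rfl⟩
    rw [map_mul, map_mul, map_mul, map_inv, map_inv, mul_inv_eq_one, mul_inv_eq_iff_eq_mul] at h'
    exact h'.symm
  have hx1 : π x ≠ 1 := fun h => by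
    obtain ⟨y, hy, hyx⟩ := (QuotientGroup.eq_one_iff x).mp h
    exact hm' ((show y = ⟨x, hxmem.1⟩ from Subtype.ext hyx) ▸ hy)
  have hxfix : ∀ c ∈ C, π c * π x = π x * π c := fun c hc => by
    rw [← map_mul, ← map_mul, mem_centralizer_iff.mp hxmem.2 c hc]
  have hxL : (⟨π x, hxA⟩ : A) ∈ L := (hLmem _).mpr hxfix
  -- conjugates of the kernel
  have hconjC : ∀ i : ℕ, ∀ c ∈ C, r ^ i * c * (r ^ i)⁻¹ ∈ V := fun i c hc =>
    (mem_normalizer_iff.mp (pow_mem (s.normV hr) i) c).mp (hC.le hc)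
  have havg : ∀ i : ℕ, i < p → i ≠ 0 → ∀ a ∈ L, ∏ c : C, σ (π c) (σ (π (r ^ i)) a) = 1 := by
    intro i hip hi0 a ha
    rw [hLmem] at ha
    by_contra hne
    set y : A := ∏ c : C, σ (π c) (σ (π (r ^ i)) a)
    let Ci : Subgroup Γ := C.map (MulAut.conj (r ^ i)).toMonoidHom
    have hCiV : Ci ≤ V := by rintro _ ⟨c, hc, rfl⟩; exact hconjC i c hc
    have hinner : ∀ d ∈ Ci, ∀ c ∈ C, σ (π d) (σ (π c) (σ (π (r ^ i)) a)) = σ (π c) (σ (π (r ^ i)) a) := by
      rintro _ ⟨d, hd, rfl⟩ c hc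
      have h1 : σ (π d) a = a := Subtype.ext (by
        show π d * (a : Γ ⧸ N) * (π d)⁻¹ = a
        rw [ha d hd, mul_inv_cancel_right])
      have hcomm : π (MulAut.conj (r ^ i) d) * π c = π c * π (MulAut.conj (r ^ i) d) := by
        rw [← map_mul, ← map_mul]
        exact congrArg π (s.commV _ (hconjC i d hd) c (hC.le hc))
      apply Subtype.ext
      show π (MulAut.conj (r ^ i) d) * (π c * (π (r ^ i) * a * (π (r ^ i))⁻¹) * (π c)⁻¹) *
        (π (MulAut.conj (r ^ i) d))⁻¹ = π c * (π (r ^ i) * a * (π (r ^ i))⁻¹) * (π c)⁻¹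
      calc _ = π (MulAut.conj (r ^ i) d) * π c * (π (r ^ i) * a * (π (r ^ i))⁻¹) *
            (π (MulAut.conj (r ^ i) d) * π c)⁻¹ := by group
        _ = π c * (π (MulAut.conj (r ^ i) d) * (π (r ^ i) * a * (π (r ^ i))⁻¹) *
            (π (MulAut.conj (r ^ i) d))⁻¹) * (π c)⁻¹ := by rw [hcomm]; group
        _ = _ := by
            rw [MulAut.conj_apply, map_mul, map_mul, map_inv,
              show π (r ^ i) * π d * (π (r ^ i))⁻¹ * (π (r ^ i) * (a : Γ ⧸ N) * (π (r ^ i))⁻¹) *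
                (π (r ^ i) * π d * (π (r ^ i))⁻¹)⁻¹ = π (r ^ i) * (π d * a * (π d)⁻¹) * (π (r ^ i))⁻¹ by group,
              ha d hd, mul_inv_cancel_right]
    have hyC : ∀ d ∈ C, σ (π d) y = y := fun d hd => by
      rw [map_prod]
      refine Fintype.prod_equiv (Equiv.mulLeft (⟨d, hd⟩ : C)) _ _ fun c => Subtype.ext ?_
      show π d * (π c * _ * (π c)⁻¹) * (π d)⁻¹ = π (d * c) * _ * (π (d * c))⁻¹
      rw [map_mul]; group
    have hyi : ∀ d ∈ Ci, σ (π d) y = y := fun d hd => by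
      rw [map_prod]; exact Finset.prod_congr rfl fun c _ => hinner d hd c c.2
    have hCi : Ci ≤ C := by
      refine le_trans le_sup_right (hfixmax (C ⊔ Ci) le_sup_left (sup_le hC.le hCiV) (y : Γ ⧸ N) y.2.1
        (fun h => hne (Subtype.ext h)) fun d hd => ?_)
      have hle : C ⊔ Ci ≤ (centralizer ({(y : Γ ⧸ N)} : Set (Γ ⧸ N))).comap π := by
        have key : ∀ e : Γ, σ (π e) y = y → π e * (y : Γ ⧸ N) = y * π e := fun e he => by
          have h : π e * (y : Γ ⧸ N) * (π e)⁻¹ = y := congrArg Subtype.val he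
          exact mul_inv_eq_iff_eq_mul.mp h
        exact sup_le (fun e he => mem_centralizer_singleton_iff.mpr (key e (hyC e he)))
          fun e he => mem_centralizer_singleton_iff.mpr (key e (hyi e he))
      exact mem_centralizer_singleton_iff.mp (hle hd)
    have hri : r ^ i ∈ normalizer (C : Set Γ) := by
      have hsurj : Function.Surjective fun c : C =>
          (⟨r ^ i * c * (r ^ i)⁻¹, hCi ⟨c, c.2, rfl⟩⟩ : C) :=
        Finite.injective_iff_surjective.mp fun c c' e =>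
          Subtype.ext (mul_left_cancel (mul_right_cancel (congrArg Subtype.val e)))
      rw [mem_normalizer_iff]
      refine fun z => ⟨fun hz => hCi ⟨z, hz, rfl⟩, fun hz => ?_⟩
      obtain ⟨c, hc⟩ := hsurj ⟨_, hz⟩
      rw [← mul_left_cancel (mul_right_cancel (congrArg Subtype.val hc))]
      exact c.2
    obtain ⟨k, hk⟩ := exists_pow_eq_self_of_coprime (x := r) (n := i) (Nat.Coprime.coprime_dvd_right
      (W.orderOf_dvd_natCard hr) ((s.primeW.coprime_iff_not_dvd.mpr (Nat.not_dvd_of_pos_of_lt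
        (Nat.pos_of_ne_zero hi0) hip)).symm))
    exact hrn (hk ▸ pow_mem hri k)
  -- the norm map
  let ν : A →* A := ∏ i ∈ Finset.range p, σ (π (r ^ i))
  have hν : ∀ a : A, ν a = ∏ i ∈ Finset.range p, σ (π (r ^ i)) a := fun a => MonoidHom.finsetProd_apply _ _ _
  have hνinj : ∀ a ∈ L, ν a = 1 → a = 1 := by
    intro a ha h1
    have h2 : ∏ c : C, σ (π c) (ν a) = 1 := by simp [h1]
    simp only [hν, map_prod] at h2
    rw [Finset.prod_comm, Finset.prod_eq_single_of_mem 0 (Finset.mem_range.mpr s.primeW.pos)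
      fun i hi hi0 => havg i (Finset.mem_range.mp hi) hi0 a ha] at h2
    have hc : ∀ c : C, σ (π c) (σ (π (r ^ 0)) a) = a := fun c => Subtype.ext (by
      show π c * (π (r ^ 0) * (a : Γ ⧸ N) * (π (r ^ 0))⁻¹) * (π c)⁻¹ = a
      rw [pow_zero, map_one, one_mul, inv_one, mul_one, ((hLmem a).mp ha) c c.2, mul_inv_cancel_right])
    rw [Finset.prod_congr rfl fun c _ => hc c, Finset.prod_const, Finset.card_univ, ← Nat.card_eq_fintype_card] at h2
    have hq' : a ^ q = 1 := Subtype.ext a.2.2.2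
    have hcop : Nat.Coprime (Nat.card C) q :=
      Nat.Coprime.coprime_dvd_right (hxord ▸ Q.orderOf_dvd_natCard hxmem.1)
        (s.coprime.coprime_dvd_left (card_dvd_of_le (hC.le.trans le_sup_left)))
    have := pow_gcd_eq_one.mpr ⟨h2, hq'⟩
    rwa [hcop, pow_one] at this
  have hνfix : ∀ a, ∀ w ∈ W, π w * (ν a : Γ ⧸ N) = ν a * π w := by
    intro a
    have hr1 : σ (π r) (ν a) = ν a := by
      rw [hν, map_prod]
      have e : ∀ i, σ (π r) (σ (π (r ^ i)) a) = σ (π (r ^ (i + 1))) a := fun i => Subtype.ext (by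
        show π r * (π (r ^ i) * (a : Γ ⧸ N) * (π (r ^ i))⁻¹) * (π r)⁻¹ = π (r ^ (i + 1)) * a * (π (r ^ (i + 1)))⁻¹
        rw [pow_succ', map_mul]; group)
      simp only [e]
      have h1 := Finset.prod_range_succ (fun i => σ (π (r ^ i)) a) p
      rw [Finset.prod_range_succ' (fun i => σ (π (r ^ i)) a) p, hrp, pow_zero] at h1
      exact mul_right_cancel h1
    have hz : r ∈ (centralizer ({(ν a : Γ ⧸ N)} : Set (Γ ⧸ N))).comap π :=
      mem_centralizer_singleton_iff.mpr (mul_inv_eq_iff_eq_mul.mp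
        (show π r * (ν a : Γ ⧸ N) * (π r)⁻¹ = ν a from congrArg Subtype.val hr1))
    exact fun w hw => mem_centralizer_singleton_iff.mp ((zpowers_le.mpr hz) (hrW hw))
  set P := (Q ⊓ centralizer (W : Set Γ)).map π with hP
  haveI := s.cyclicC
  haveI : IsCyclic P := isCyclic_of_surjective (π.subgroupMap _) (π.subgroupMap_surjective _)
  have hνP : ∀ a, (ν a : Γ ⧸ N) ∈ P := fun a => by
    obtain ⟨c, hc, hce⟩ := hlift W le_sup_right _ (ν a).2.1 (hνfix a)
    exact ⟨c, hc, hce⟩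
  haveI := Fintype.ofFinite P
  have hL : Nat.card L ≤ q := by
    refine le_trans (Nat.card_le_card_of_injective
      (fun a : L => (⟨⟨(ν a : Γ ⧸ N), hνP a⟩, Subtype.ext (ν (a : A)).2.2.2⟩ : {y : P // y ^ q = 1})) ?_) ?_
    · intro a b e
      have h : ν (a : A) = ν (b : A) := Subtype.ext (congrArg (fun z : {y : P // y ^ q = 1} => ((z : P) : Γ ⧸ N)) e)
      have := hνinj ((a : A) * (b : A)⁻¹) (L.mul_mem a.2 (L.inv_mem b.2)) (by rw [map_mul, map_inv, h, mul_inv_cancel])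
      exact Subtype.ext (mul_inv_eq_one.mp this)
    · rw [Nat.card_eq_fintype_card, Fintype.card_subtype]
      exact IsCyclic.card_pow_eq_one_le hq.pos
  have hqw : q ∣ Nat.card ↥(Q ⊓ centralizer (W : Set Γ)) := by
    have hy1 : (ν ⟨π x, hxA⟩ : Γ ⧸ N) ≠ 1 := fun h => hx1 (congrArg Subtype.val (hνinj _ hxL (Subtype.ext h)))
    refine dvd_trans ?_ (card_map_dvd (H := Q ⊓ centralizer (W : Set Γ)) π)
    rw [← orderOf_eq_prime (ν ⟨π x, hxA⟩).2.2.2 hy1]
    exact P.orderOf_dvd_natCard (hνP _)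
  refine ⟨q, hqw, ?_⟩
  -- the orbit of `x` and of its inverse
  have hstab : ∀ v ∈ V, π v * π x = π x * π v → v ∈ C := fun v hv hvx => by
    refine le_trans le_sup_right (hfixmax (C ⊔ zpowers v) le_sup_left (sup_le hC.le (zpowers_le.mpr hv)) (π x) hxA.1
      hx1 fun d hd => ?_) (mem_zpowers v)
    have hle : C ⊔ zpowers v ≤ (centralizer ({π x} : Set (Γ ⧸ N))).comap π :=
      sup_le (fun c hc => mem_centralizer_singleton_iff.mpr (hxfix c hc))
        (zpowers_le.mpr (mem_centralizer_singleton_iff.mpr hvx))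
    exact mem_centralizer_singleton_iff.mp (hle hd)
  have horbL : ∀ v ∈ V, σ (π v) ⟨π x, hxA⟩ ∈ L := fun v hv => by
    rw [hLmem]
    intro c hc
    show π c * (π v * π x * (π v)⁻¹) = π v * π x * (π v)⁻¹ * π c
    have hcv : π c * π v = π v * π c := by rw [← map_mul, ← map_mul, s.commV c (hC.le hc) v hv]
    calc π c * (π v * π x * (π v)⁻¹) = π v * (π c * π x) * (π v)⁻¹ := by rw [← mul_assoc, ← mul_assoc, hcv]; group
      _ = π v * (π x * π c) * (π v)⁻¹ := by rw [hxfix c hc]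
      _ = π v * π x * (π c * (π v)⁻¹) := by group
      _ = π v * π x * (π v)⁻¹ * π c := by rw [(Commute.inv_right hcv).eq]; group
  let f : Bool × (V ⧸ C.subgroupOf V) → {a : L // a ≠ 1} := fun bv =>
    ⟨if bv.1 then (⟨_, horbL (bv.2.out : V) (bv.2.out : V).2⟩ : L)
      else (⟨_, horbL (bv.2.out : V) (bv.2.out : V).2⟩ : L)⁻¹, by
      have h0 : (⟨_, horbL (bv.2.out : V) (bv.2.out : V).2⟩ : L) ≠ 1 := fun h => hx1 (by
        have h' : π (bv.2.out : V) * π x * (π (bv.2.out : V))⁻¹ = 1 :=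
          congrArg (fun z : L => ((z : A) : Γ ⧸ N)) h
        rwa [conj_eq_one_iff] at h')
      split
      · exact h0
      · exact inv_ne_one.mpr h0⟩
  have hsame : ∀ v w : Γ, v ∈ V → w ∈ V → π v * π x * (π v)⁻¹ = π w * π x * (π w)⁻¹ → v⁻¹ * w ∈ C :=
    fun v w hv hw e => hstab _ (V.mul_mem (V.inv_mem hv) hw) (by
      rw [map_mul, map_inv, ← mul_inv_eq_iff_eq_mul]
      calc (π v)⁻¹ * π w * π x * ((π v)⁻¹ * π w)⁻¹ = (π v)⁻¹ * (π w * π x * (π w)⁻¹) * π v := by group
        _ = π x := by rw [← e]; group)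
  have hopp : ∀ v w : Γ, v ∈ V → w ∈ V → π v * π x * (π v)⁻¹ ≠ (π w * π x * (π w)⁻¹)⁻¹ := by
    intro v w hv hw e
    set u := w⁻¹ * v with hu
    have huV : u ∈ V := V.mul_mem (V.inv_mem hw) hv
    have h1 : π u * π x * (π u)⁻¹ = (π x)⁻¹ := by
      rw [hu, map_mul, map_inv]
      calc (π w)⁻¹ * π v * π x * ((π w)⁻¹ * π v)⁻¹ = (π w)⁻¹ * (π v * π x * (π v)⁻¹) * π w := by group
        _ = (π x)⁻¹ := by rw [e]; group
    have h2 : π (u * u) * π x = π x * π (u * u) := by
      rw [map_mul, ← mul_inv_eq_iff_eq_mul]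
      calc π u * π u * π x * (π u * π u)⁻¹ = π u * (π u * π x * (π u)⁻¹) * (π u)⁻¹ := by group
        _ = π u * (π x)⁻¹ * (π u)⁻¹ := by rw [h1]
        _ = (π u * π x * (π u)⁻¹)⁻¹ := by group
        _ = π x := by rw [h1, inv_inv]
    have h3 := hstab _ (V.mul_mem huV huV) h2
    have hodd : Odd (orderOf u) := s.oddVW.of_dvd_nat
      ((V ⊔ W).orderOf_dvd_natCard (mem_sup_left huV))
    obtain ⟨k, hk⟩ := hodd
    have huC : u ∈ C := by
      have e : u = (u * u) ^ (k + 1) := by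
        rw [← pow_two, ← pow_mul, show 2 * (k + 1) = orderOf u + 1 by omega, pow_succ, pow_orderOf_eq_one, one_mul]
      rw [e]; exact pow_mem h3 _
    rw [hxfix u huC, mul_inv_cancel_right] at h1
    have h4 : (π x) ^ 2 = 1 := by rw [pow_two]; nth_rw 1 [h1]; exact inv_mul_cancel _
    have h5 := pow_gcd_eq_one.mpr ⟨h4, hxA.2.2⟩
    rw [Nat.coprime_two_left.mpr hqodd, pow_one] at h5
    exact hx1 h5
  have hf : Function.Injective f := by
    rintro ⟨b, v⟩ ⟨b', v'⟩ e
    have e' : ((if b then (⟨_, horbL (v.out : V) (v.out : V).2⟩ : L) else (⟨_, horbL (v.out : V) (v.out : V).2⟩ : L)⁻¹ : L) : A) =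
        ((if b' then (⟨_, horbL (v'.out : V) (v'.out : V).2⟩ : L) else (⟨_, horbL (v'.out : V) (v'.out : V).2⟩ : L)⁻¹ : L) : A) :=
      congrArg (fun z : {a : L // a ≠ 1} => ((z : L) : A)) e
    have e'' := congrArg (fun z : A => (z : Γ ⧸ N)) e'
    have hsame' : π (v.out : V) * π x * (π (v.out : V))⁻¹ = π (v'.out : V) * π x * (π (v'.out : V))⁻¹ →
        v = v' := fun h => by
      rw [← QuotientGroup.out_eq' v, ← QuotientGroup.out_eq' v', QuotientGroup.eq, mem_subgroupOf]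
      exact hsame _ _ (v.out : V).2 (v'.out : V).2 h
    cases b <;> cases b'
    · exact Prod.ext rfl (hsame' (inv_injective e''))
    · exact absurd e''.symm (hopp _ _ (v'.out : V).2 (v.out : V).2)
    · exact absurd e'' (hopp _ _ (v.out : V).2 (v'.out : V).2)
    · exact Prod.ext rfl (hsame' e'')
  have hcount := Nat.card_le_card_of_injective f hf
  have hidx : Nat.card (V ⧸ C.subgroupOf V) * Nat.card C = Nat.card V := by
    rw [← index_eq_card, ← Nat.card_congr (subgroupOfEquivOfLe hC.le).toEquiv, mul_comm, card_mul_index]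
  have hne1 : Nat.card {a : L // a ≠ 1} = Nat.card L - 1 := by
    haveI := Fintype.ofFinite L
    rw [Nat.card_eq_fintype_card, Fintype.card_subtype_compl, Fintype.card_subtype_eq, Nat.card_eq_fintype_card]
  rw [Nat.card_prod, Nat.card_eq_fintype_card, Fintype.card_bool, hne1] at hcount
  have hL1 : 1 ≤ Nat.card L := Nat.card_pos
  have hle : 2 * Nat.card (V ⧸ C.subgroupOf V) + 1 ≤ q := by omega
  have := Nat.mul_le_mul_right (Nat.card C) hle
  rw [add_mul, one_mul, mul_assoc, hidx] at this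
  exact this

/-- Either the regular subgroup is small compared with `w = |C_Q(W)|`, or at least half of `V` is regular. -/
theorem singular_bound {U₀ : Subgroup Γ} (hU : U₀ ≤ V)
    (hreg : ∀ u ∈ U₀, ∀ x ∈ Q, x ≠ 1 → u * x = x * u → u = 1) :
    2 * Nat.card U₀ + 1 ≤ Nat.card ↥(Q ⊓ centralizer (W : Set Γ)) ∨ 2 * Nat.card (singSet Q V) ≤ Nat.card V := by
  classical
  set Qw := Q ⊓ centralizer (W : Set Γ) with hQw
  by_cases hmoved : ∃ C, IsSingKernel Q V C ∧ ¬ W ≤ normalizer (C : Set Γ)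
  · obtain ⟨C, hC, hW⟩ := hmoved
    obtain ⟨q, hqw, hle⟩ := s.moved_kernel hC hW
    refine Or.inl (le_trans ?_ (Nat.le_of_dvd Nat.card_pos hqw))
    have h := card_mul_singKernel_le hC hU hreg
    exact Nat.le_of_mul_le_mul_right (by rw [add_mul, one_mul, mul_assoc]; omega) (Nat.card_pos (α := C))
  push Not at hmoved
  refine or_iff_not_imp_left.mpr fun hsmall => ?_
  set 𝒦 : Finset (Subgroup Γ) := (Set.toFinite {C | IsSingKernel Q V C}).toFinset with h𝒦
  have hmemK : ∀ C, C ∈ 𝒦 ↔ IsSingKernel Q V C := fun C => by simp [h𝒦]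
  have hprime : ∀ C : 𝒦, ∃ q : ℕ, q.Prime ∧ ∃ y ∈ (Q ⊓ centralizer ((C : Subgroup Γ) : Set Γ)) ⊓ centralizer (W : Set Γ),
      orderOf y = q := fun C => by
    obtain ⟨y, hy, hy1⟩ := (bot_or_exists_ne_one _).resolve_left
      (s.fixed_kernel ((hmemK C).mp C.2) (hmoved C ((hmemK C).mp C.2)))
    obtain ⟨q, hq, hqd⟩ := Nat.exists_prime_and_dvd (n := orderOf y) fun h => hy1 (orderOf_eq_one_iff.mp h)
    exact ⟨q, hq, y ^ (orderOf y / q), pow_mem hy _, orderOf_pow_orderOf_div (orderOf_pos y).ne' hqd⟩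
  choose qf hqf y hy hyord using hprime
  have hyQw : ∀ C, y C ∈ Qw := fun C => mem_inf.mpr ⟨(hy C).1.1, (hy C).2⟩
  have hinj : Function.Injective qf := by
    intro C D e
    -- the two elements of order `q` generate the same subgroup of the cyclic group
    have hz : zpowers (y C) = zpowers (y D) := by
      haveI := s.cyclicC
      have h := CfsgLib.CharTheory.cyclic_subgroup_ext (A := Qw)
        (H := (zpowers (y C)).subgroupOf Qw) (K := (zpowers (y D)).subgroupOf Qw)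
      have hC' : zpowers (y C) ≤ Qw := zpowers_le.mpr (hyQw C)
      have hD' : zpowers (y D) ≤ Qw := zpowers_le.mpr (hyQw D)
      have h2 := h (by
        rw [Nat.card_congr (subgroupOfEquivOfLe hC').toEquiv, Nat.card_congr (subgroupOfEquivOfLe hD').toEquiv,
          Nat.card_zpowers, Nat.card_zpowers, hyord, hyord, e])
      have := congrArg (Subgroup.map Qw.subtype) h2
      rwa [map_subgroupOf_eq_of_le hC', map_subgroupOf_eq_of_le hD'] at this
    have hyD : y C ∈ Q ⊓ centralizer ((D : Subgroup Γ) : Set Γ) :=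
      (zpowers_le.mpr (hy D).1) (hz ▸ mem_zpowers (y C))
    have hy1 : y C ≠ 1 := fun h => by
      have := hyord C
      rw [h, orderOf_one] at this
      exact (hqf C).ne_one this.symm
    have hCD : (C : Subgroup Γ) ⊔ D ≤ C := ((hmemK C).mp C.2).maximal _ le_sup_left
      (sup_le ((hmemK C).mp C.2).le ((hmemK D).mp D.2).le) fun h => hy1 (by
        have hm : y C ∈ Q ⊓ centralizer (((C : Subgroup Γ) ⊔ D : Subgroup Γ) : Set Γ) := by
          refine mem_inf.mpr ⟨(hy C).1.1, ?_⟩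
          have hle : (C : Subgroup Γ) ⊔ D ≤ centralizer ({y C} : Set Γ) :=
            sup_le (fun c hc => mem_centralizer_singleton_iff.mpr (mem_centralizer_iff.mp (hy C).1.2 c hc))
              fun c hc => mem_centralizer_singleton_iff.mpr (mem_centralizer_iff.mp hyD.2 c hc)
          exact mem_centralizer_iff.mpr fun c hc => mem_centralizer_singleton_iff.mp (hle hc)
        rwa [h, mem_bot] at hm)
    refine Subtype.ext (le_antisymm ?_ (le_trans le_sup_right hCD))
    exact ((hmemK D).mp D.2).maximal C (le_trans le_sup_right hCD) ((hmemK C).mp C.2).le ((hmemK C).mp C.2).fix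
  have hthree : 3 ^ 𝒦.card ≤ Nat.card Qw := by
    have hdvd : ∏ q ∈ Finset.univ.image qf, q ∣ Nat.card Qw := by
      refine Finset.prod_primes_dvd _ (fun q hq => ?_) fun q hq => ?_
      · obtain ⟨C, -, rfl⟩ := Finset.mem_image.mp hq
        exact (hqf C).prime
      · obtain ⟨C, -, rfl⟩ := Finset.mem_image.mp hq
        rw [← hyord C]
        exact Qw.orderOf_dvd_natCard (hyQw C)
    refine le_trans ?_ (Nat.le_of_dvd Nat.card_pos hdvd)
    rw [← Fintype.card_coe 𝒦, ← Finset.card_univ, ← Finset.card_image_of_injective Finset.univ hinj]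
    refine Finset.pow_card_le_prod _ _ _ fun q hq => ?_
    obtain ⟨C, -, rfl⟩ := Finset.mem_image.mp hq
    have hodd : Odd (qf C) := s.oddQ.of_dvd_nat (hyord C ▸ Q.orderOf_dvd_natCard (hy C).1.1)
    have := (hqf C).two_le
    obtain ⟨k, hk⟩ := hodd
    omega
  have hsing : Nat.card (singSet Q V) * Nat.card U₀ ≤ 𝒦.card * Nat.card V := by
    have h1 : Nat.card (singSet Q V) ≤ ∑ C ∈ 𝒦, Nat.card C := by
      haveI := Fintype.ofFinite Γ
      have hsub : (singSet Q V).toFinset ⊆ 𝒦.biUnion fun C => (C : Set Γ).toFinset := fun v hv => by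
        obtain ⟨C, hC, hvC⟩ := exists_singKernel (Set.mem_toFinset.mp hv)
        exact Finset.mem_biUnion.mpr ⟨C, (hmemK C).mpr hC, Set.mem_toFinset.mpr hvC⟩
      have := (Finset.card_le_card hsub).trans Finset.card_biUnion_le
      simpa [Set.toFinset_card, ← Nat.card_eq_fintype_card] using this
    calc Nat.card (singSet Q V) * Nat.card U₀ ≤ (∑ C ∈ 𝒦, Nat.card C) * Nat.card U₀ := Nat.mul_le_mul_right _ h1
      _ = ∑ C ∈ 𝒦, Nat.card U₀ * Nat.card C := by rw [Finset.sum_mul]; exact Finset.sum_congr rfl fun C _ => mul_comm _ _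
      _ ≤ ∑ _C ∈ 𝒦, Nat.card V := Finset.sum_le_sum fun C hC => card_mul_singKernel_le ((hmemK C).mp hC) hU hreg
      _ = 𝒦.card * Nat.card V := by rw [Finset.sum_const, smul_eq_mul]
  have hk : 2 * 𝒦.card ≤ Nat.card U₀ := by
    have h4 : ∀ k : ℕ, k ≤ 1 ∨ 4 * k ≤ 3 ^ k := by
      intro k
      induction k with
      | zero => omega
      | succ k ih =>
        rcases k with _ | _ | k
        · omega
        · norm_num
        · rcases ih with h | h
          · obtain rfl : k = 0 := by omega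
            norm_num
          · right
            ring_nf at h ⊢; omega
    rcases h4 𝒦.card with h | h
    · interval_cases h' : 𝒦.card
      · omega
      · norm_num at hthree
        omega
    · omega
  refine Nat.le_of_mul_le_mul_right ?_ (Nat.card_pos (α := U₀))
  calc 2 * Nat.card (singSet Q V) * Nat.card U₀ ≤ 2 * (𝒦.card * Nat.card V) := by rw [mul_assoc]; omega
    _ = 2 * 𝒦.card * Nat.card V := by ring
    _ ≤ Nat.card U₀ * Nat.card V := Nat.mul_le_mul_right _ hk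
    _ = Nat.card V * Nat.card U₀ := mul_comm _ _

end SingData

end CfsgLib.OddOrder.Ten
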