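/-
Peterfalvi (10.8): the characters of a subgroup of type III, IV or V induced from `M'` are not coherent.
-/
import Cfsg.Agent.Lib.OddOrder.S10.Rho
import Cfsg.Agent.Lib.OddOrder.S10.Index
import Cfsg.Agent.Lib.OddOrder.S10.Singular
import Cfsg.Agent.Lib.OddOrder.S10.Regular

set_option autoImplicit false
set_option linter.unusedSectionVars false
set_option linter.style.haveILetI false

namespace CfsgLib.OddOrder.Ten

open Cfsg Subgroup CfsgLib.CharTheory CfsgLib.OddOrder.Found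
open scoped Pointwise

universe u

variable {G : Type u} [Group G] [Fintype G] {M : Subgroup G} [Fintype M] {K W₁ W₂ : Subgroup M}
  {H : G → Subgroup G}

/-- What section 10 uses about the partner `T` of type II: `T = (Q V) W`, `Q = T_F`, `C_Q(W) = W₁`,
and a regular subgroup `V₀` of `V`. -/
structure TenPartner (_d : TenData M K W₁ W₂ H) (T : Subgroup G) (Q V V₀ W : Subgroup T) : Prop where
  sing : SingData Q V W
  map_W : W.map T.subtype = W₂.map M.subtype
  fixQ : (Q ⊓ centralizer (W : Set T)).map T.subtype = W₁.map M.subtype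
  hall : (Nat.card Q).Coprime (Q.map T.subtype).index
  cent : ∀ y ∈ Q, y ≠ 1 → centralizer ({(y : G)} : Set G) ≤ T
  inf_QV : Q ⊓ V = ⊥
  inf_W : (Q ⊔ V) ⊓ W = ⊥
  top : Q ⊔ V ⊔ W = ⊤
  coprimeW : (Nat.card W).Coprime (Nat.card ↥(Q ⊔ V))
  fixDerived : ∀ r ∈ W, r ≠ 1 → (Q ⊔ V) ⊓ centralizer ({r} : Set T) = Q ⊓ centralizer (W : Set T)
  coprimeV : (Nat.card V).Coprime (Nat.card Q)
  V₀_le : V₀ ≤ V
  V₀_ne : V₀ ≠ ⊥
  reg : ∀ u ∈ V₀, ∀ x ∈ Q, x ≠ 1 → u * x = x * u → u = 1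
  card_V_le : Nat.card V ≤ Nat.card V₀ ^ 2

/-- The cardinality of `Q V` for `Q` normal meeting `V` trivially. -/
theorem card_sup_normal {T : Type*} [Group T] [Finite T] {Q V : Subgroup T} (hQ : Q.Normal) (h : Q ⊓ V = ⊥) :
    Nat.card ↥(Q ⊔ V) = Nat.card Q * Nat.card V := by
  rw [← Nat.card_prod]
  refine (Nat.card_eq_of_bijective
    (fun p : Q × V => (⟨(p.1 : T) * p.2, mul_mem_sup p.1.2 p.2.2⟩ : ↥(Q ⊔ V))) ⟨?_, ?_⟩).symm
  · rintro ⟨a, b⟩ ⟨a', b'⟩ e
    have e : (a : T) * b = a' * b' := congrArg Subtype.val e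
    have hh : (a' : T)⁻¹ * a = b' * (b : T)⁻¹ := by rw [eq_mul_inv_iff_mul_eq, mul_assoc, e]; group
    have hm : (a' : T)⁻¹ * a ∈ Q ⊓ V :=
      mem_inf.mpr ⟨Q.mul_mem (Q.inv_mem a'.2) a.2, hh ▸ V.mul_mem b'.2 (V.inv_mem b.2)⟩
    rw [h, mem_bot] at hm
    rw [hm] at hh
    exact Prod.ext (Subtype.ext (inv_mul_eq_one.mp hm).symm) (Subtype.ext (mul_inv_eq_one.mp hh.symm).symm)
  · rintro ⟨z, hz⟩
    haveI := hQ
    rw [← SetLike.mem_coe, normal_mul] at hz
    obtain ⟨a, ha, b, hb, rfl⟩ := hz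
    exact ⟨(⟨a, ha⟩, ⟨b, hb⟩), rfl⟩

/-- A prime order element is conjugate into a Hall subgroup of order divisible by that prime. -/
theorem exists_conj_mem_hall {X : Type*} [Group X] [Finite X] {Q : Subgroup X} (hQ : (Nat.card Q).Coprime Q.index)
    {y : X} {q : ℕ} (hq : q.Prime) (hy : orderOf y = q) (hd : q ∣ Nat.card Q) :
    ∃ g : X, g * y * g⁻¹ ∈ Q := by
  haveI := Fact.mk hq
  obtain ⟨P⟩ : Nonempty (Sylow q Q) := inferInstance
  have hidx : ¬ q ∣ Q.index := fun h => hq.ne_one (Nat.eq_one_of_dvd_coprimes hQ hd h)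
  have hcard : Nat.card ↥((P : Subgroup Q).map Q.subtype) = q ^ (Nat.card X).factorization q := by
    rw [card_map_of_injective Q.subtype_injective, P.card_eq_multiplicity, ← Q.card_mul_index,
      Nat.factorization_mul Nat.card_pos.ne' index_ne_zero_of_finite, Finsupp.add_apply,
      Nat.factorization_eq_zero_of_not_dvd hidx, add_zero]
  let P' : Sylow q X := Sylow.ofCard ((P : Subgroup Q).map Q.subtype) hcard
  obtain ⟨S, hS⟩ := (IsPGroup.of_card (show Nat.card (zpowers y) = q ^ 1 by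
    rw [Nat.card_zpowers, hy, pow_one])).exists_le_sylow
  obtain ⟨g, hg⟩ := MulAction.exists_smul_eq X S P'
  refine ⟨g, (map_subtype_le (P : Subgroup Q)) ?_⟩
  have hmem : g * y * g⁻¹ ∈ ((g • S : Sylow q X) : Subgroup X) := by
    rw [Sylow.coe_subgroup_smul]
    exact ⟨y, hS (mem_zpowers y), rfl⟩
  rw [hg] at hmem
  exact hmem

namespace TenPartner

variable {d : TenData M K W₁ W₂ H} {T : Subgroup G} {Q V V₀ W : Subgroup T} (p : TenPartner d T Q V V₀ W)
include p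

theorem normal_QV : (Q ⊔ V).Normal := by
  rw [← normalizer_eq_top_iff, eq_top_iff, ← p.top]
  refine sup_le (sup_le ?_ ?_) ?_
  · exact le_trans le_sup_left le_normalizer
  · exact le_trans le_sup_right le_normalizer
  · intro w hw
    rw [mem_normalizer_iff]
    haveI := p.sing.normalQ
    have key : ∀ z : T, z ∈ W → ∀ x ∈ Q ⊔ V, z * x * z⁻¹ ∈ Q ⊔ V := by
      intro z hz x hx
      have hle : Q ⊔ V ≤ (Q ⊔ V).comap (MulAut.conj z).toMonoidHom :=
        sup_le (fun a ha => mem_sup_left (p.sing.normalQ.conj_mem a ha z))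
          fun a ha => mem_sup_right ((mem_normalizer_iff.mp (p.sing.normV hz) a).mp ha)
      exact hle hx
    refine fun x => ⟨key w hw x, fun hx => ?_⟩
    have := key w⁻¹ (W.inv_mem hw) _ hx
    simpa [mul_assoc] using this

theorem card_T : Nat.card T = Nat.card ↥(Q ⊔ V) * Nat.card W := by
  rw [← card_sup_normal p.normal_QV p.inf_W, p.top, card_top]

theorem card_fixQ : Nat.card ↥(Q ⊓ centralizer (W : Set T)) = Nat.card W₁ := by
  rw [← card_map_of_injective T.subtype_injective, p.fixQ, card_map_of_injective M.subtype_injective]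

theorem card_W : Nat.card W = Nat.card W₂ := by
  rw [← card_map_of_injective T.subtype_injective, p.map_W, card_map_of_injective M.subtype_injective]

/-- **(10.8)(ii)** Elements of order not prime to `w₁` outside `supp A` and `V^G` are conjugate into `Y₀`. -/
theorem cover {g : G} (hV : g ∉ d.vClass) (hg : ¬ (orderOf g).Coprime (Nat.card W₁)) :
    ∃ x : T, x ∈ Q ⊔ V ∧ ¬ (orderOf x).Coprime (Nat.card Q) ∧ ∃ z : G, z * x * z⁻¹ = g := by
  obtain ⟨q, hq, hqd⟩ := Nat.exists_prime_and_dvd (n := Nat.gcd (orderOf g) (Nat.card W₁)) hg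
  have hqo : q ∣ orderOf g := hqd.trans (Nat.gcd_dvd_left _ _)
  have hqw : q ∣ Nat.card W₁ := hqd.trans (Nat.gcd_dvd_right _ _)
  have hqQ : q ∣ Nat.card Q := hqw.trans (p.card_fixQ ▸ card_dvd_of_le inf_le_left)
  obtain ⟨y, hy, hyg⟩ : ∃ y : G, orderOf y = q ∧ Commute y g :=
    ⟨g ^ (orderOf g / q), orderOf_pow_orderOf_div (orderOf_pos g).ne' hqo, Commute.pow_self g _⟩
  obtain ⟨z, ⟨y', hy', hzy⟩⟩ := exists_conj_mem_hall (Q := Q.map T.subtype)
    (by rw [card_map_of_injective T.subtype_injective]; exact p.hall) hq hy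
    (by rw [card_map_of_injective T.subtype_injective]; exact hqQ)
  have hy'1 : y' ≠ 1 := fun h => by
    have h1 : z * y * z⁻¹ = 1 := by rw [← hzy, h]; rfl
    rw [conj_eq_one_iff] at h1
    rw [h1, orderOf_one] at hy
    exact hq.ne_one hy.symm
  have hxT : z * g * z⁻¹ ∈ T := p.cent y' hy' hy'1 (mem_centralizer_singleton_iff.mpr (by
    have hzy' : (y' : G) = z * y * z⁻¹ := hzy
    rw [hzy']
    calc z * g * z⁻¹ * (z * y * z⁻¹) = z * (g * y) * z⁻¹ := by group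
      _ = z * (y * g) * z⁻¹ := by rw [hyg.eq]
      _ = z * y * z⁻¹ * (z * g * z⁻¹) := by group))
  set x : T := ⟨z * g * z⁻¹, hxT⟩ with hx
  have hord : orderOf x = orderOf g := by
    rw [← orderOf_injective T.subtype T.subtype_injective x, coe_subtype]
    exact MulEquiv.orderOf_eq (MulAut.conj z) g
  by_cases hxQV : x ∈ Q ⊔ V
  · refine ⟨x, hxQV, fun hc => hq.ne_one (Nat.eq_one_of_dvd_coprimes hc (hord ▸ hqo) hqQ), z⁻¹, ?_⟩
    show z⁻¹ * (z * g * z⁻¹) * z⁻¹⁻¹ = g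
    group
  exfalso
  haveI := p.normal_QV
  obtain ⟨k, hk, r, hr, hkr⟩ : ∃ k ∈ Q ⊔ V, ∃ r ∈ W, k * r = x := by
    have : x ∈ ((Q ⊔ V) ⊔ W : Subgroup T) := by rw [p.top]; trivial
    rw [← SetLike.mem_coe, normal_mul] at this
    obtain ⟨k, hk, r, hr, e⟩ := this
    exact ⟨k, hk, r, hr, e⟩
  have hr1 : r ≠ 1 := fun h => hxQV (by rw [← hkr, h, mul_one]; exact hk)
  obtain ⟨l, -, c, hc, hconj⟩ := exists_conj_coset (K := Q ⊔ V) (x := r)
    (p.coprimeW.coprime_dvd_left (W.orderOf_dvd_natCard hr)) (p.fixDerived r hr hr1) hk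
  rw [hkr] at hconj
  have hcG : (c : G) ∈ W₁.map M.subtype := p.fixQ ▸ mem_map_of_mem _ hc
  have hrG : (r : G) ∈ W₂.map M.subtype := p.map_W ▸ mem_map_of_mem _ hr
  obtain ⟨c', hc', hce⟩ := hcG
  obtain ⟨r', hr', hre⟩ := hrG
  have hce : (c' : G) = c := hce
  have hre : (r' : G) = r := hre
  have hgx : z⁻¹ * ((l : G) * ((c : G) * r) * (l : G)⁻¹) * z = g := by
    have e : (x : G) = (l : G) * ((c : G) * r) * (l : G)⁻¹ := (congrArg Subtype.val hconj).symm
    rw [← e]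
    show z⁻¹ * (z * g * z⁻¹) * z = g
    group
  have hr'1 : r' ≠ 1 := fun h => hr1 (Subtype.ext (by rw [← hre, h]; rfl))
  by_cases hc1 : c' = 1
  · -- then `g` has order `w₂`
    have hcg : (c : G) = 1 := by rw [← hce, hc1]; rfl
    rw [hcg, one_mul] at hgx
    have ho : orderOf g ∣ Nat.card W₂ := by
      have e : orderOf g = orderOf ((r' : M) : G) := by
        rw [← hgx, hre]
        have h1 := MulEquiv.orderOf_eq (MulAut.conj (z⁻¹ * (l : G))) (r : G)
        rw [MulAut.conj_apply] at h1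
        rw [← h1]
        congr 1
        group
      rw [e, orderOf_coe]
      exact W₂.orderOf_dvd_natCard hr'
    exact hq.ne_one (Nat.eq_one_of_dvd_coprimes
      (d.prime.coprime.coprime_dvd_right (card_dvd_of_le d.prime.le_kernel)) hqw (hqo.trans ho))
  · obtain ⟨h1, h2⟩ := mul_notMem_of_ne_one d.prime.inf₁₂ hc' hc1 hr' hr'1
    refine hV ⟨_, ⟨c' * r', ⟨mul_mem_sup hc' hr', h1, h2⟩, rfl⟩, z⁻¹ * (l : G), ?_⟩
    push_cast
    rw [hce, hre, ← hgx]
    group

/-- **(10.8)(iii)** The size of the singular part of the partner. -/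
theorem card_singular : Nat.card {x : T | x ∈ Q ⊔ V ∧ ¬ (orderOf x).Coprime (Nat.card Q)} +
    Nat.card Q * Nat.card {v : T | v ∈ V ∧ v ∉ singSet Q V} ≤ Nat.card ↥(Q ⊔ V) := by
  classical
  haveI := p.sing.normalQ
  set R : Set T := {v : T | v ∈ V ∧ v ∉ singSet Q V} with hR
  have h1 : Nat.card Q * Nat.card R ≤ Nat.card {x : T | x ∈ Q ⊔ V ∧ (orderOf x).Coprime (Nat.card Q)} := by
    rw [← Nat.card_prod]
    refine Nat.card_le_card_of_injective (fun nb : Q × R => (⟨(nb.1 : T) * (nb.2 : T),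
      mul_mem_sup nb.1.2 nb.2.2.1, ?_⟩ : {x : T | x ∈ Q ⊔ V ∧ (orderOf x).Coprime (Nat.card Q)})) ?_
    · have hreg : ∀ n ∈ Q, n * (nb.2 : T) = (nb.2 : T) * n → n = 1 := fun n hn hc => by
        by_contra h
        exact nb.2.2.2 ⟨nb.2.2.1, n, hn, h, hc.symm⟩
      obtain ⟨n, -, hn⟩ := exists_conj_of_regular hreg nb.1.2
      rw [← hn, ← MulAut.conj_apply, MulEquiv.orderOf_eq]
      exact p.coprimeV.coprime_dvd_left (V.orderOf_dvd_natCard nb.2.2.1)
    · rintro ⟨n, b⟩ ⟨n', b'⟩ e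
      have e : (n : T) * b = n' * b' := congrArg Subtype.val e
      have hh : (n' : T)⁻¹ * n = b' * (b : T)⁻¹ := by rw [eq_mul_inv_iff_mul_eq, mul_assoc, e]; group
      have hm : (n' : T)⁻¹ * n ∈ Q ⊓ V :=
        mem_inf.mpr ⟨Q.mul_mem (Q.inv_mem n'.2) n.2, hh ▸ V.mul_mem b'.2.1 (V.inv_mem b.2.1)⟩
      rw [p.inf_QV, mem_bot] at hm
      rw [hm] at hh
      exact Prod.ext (Subtype.ext (inv_mul_eq_one.mp hm).symm) (Subtype.ext (mul_inv_eq_one.mp hh.symm).symm)
  refine le_trans (Nat.add_le_add_left h1 _) (le_of_eq ?_)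
  rw [Nat.card_coe_set_eq, Nat.card_coe_set_eq, ← Set.ncard_union_eq (Set.disjoint_left.mpr fun x hx hx' => hx.2 hx'.2),
    show Nat.card ↥(Q ⊔ V) = ((Q ⊔ V : Subgroup T) : Set T).ncard from Nat.card_coe_set_eq _]
  congr 1
  ext x
  simp only [Set.mem_union, Set.mem_setOf_eq, SetLike.mem_coe]
  tauto

/-- **(10.8)(ii)-(iv)** At most the fraction `1 / w₁ + w₁ w₂ / |M'|` of `V` is regular. -/
theorem regular_le {τ₁ : (M → ℂ) → (G → ℂ)} (hT : TenExt d τ₁) :
    (Nat.card {v : T | v ∈ V ∧ v ∉ singSet Q V} : ℝ) / Nat.card V ≤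
      1 / (Nat.card W₁ : ℝ) + (Nat.card W₁ : ℝ) * Nat.card W₂ / Nat.card K := by
  obtain ⟨ζ, hζ⟩ := d.exists_zeta
  set R : Set T := {v : T | v ∈ V ∧ v ∉ singSet Q V} with hR
  set Y₀ : Set T := {x : T | x ∈ Q ⊔ V ∧ ¬ (orderOf x).Coprime (Nat.card Q)} with hY₀
  set Y : Set G := {g | ∃ y ∈ Subtype.val '' Y₀, ∃ z : G, z * y * z⁻¹ = g} with hY
  refine d.ten_mass hT hζ Y (fun g _ hV hg => ?_) ?_
  · obtain ⟨x, hx, hx2, z, hz⟩ := p.cover hV hg
    exact ⟨_, ⟨x, ⟨hx, hx2⟩, rfl⟩, z, hz⟩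
  have hconj : Nat.card Y * Nat.card T ≤ Nat.card G * Nat.card (Subtype.val '' Y₀ : Set G) := by
    refine card_conjugates_le T (Subtype.val '' Y₀) ?_
    rintro x hx _ ⟨y, ⟨hy1, hy2⟩, rfl⟩
    haveI := p.normal_QV
    refine ⟨⟨x, hx⟩ * y * (⟨x, hx⟩ : T)⁻¹, ⟨p.normal_QV.conj_mem y hy1 _, ?_⟩, rfl⟩
    rw [← MulAut.conj_apply, MulEquiv.orderOf_eq]
    exact hy2
  rw [Nat.card_image_of_injective Subtype.val_injective] at hconj
  have hqv := card_sup_normal p.sing.normalQ p.inf_QV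
  have h1 : Nat.card Y₀ + Nat.card Q * Nat.card R ≤ Nat.card Q * Nat.card V := hqv ▸ p.card_singular
  have hTc : Nat.card T = Nat.card Q * Nat.card V * Nat.card W₂ := by rw [p.card_T, hqv, p.card_W]
  have hv : (0 : ℝ) < Nat.card V := Nat.cast_pos.mpr Nat.card_pos
  have hq : (0 : ℝ) < Nat.card Q := Nat.cast_pos.mpr Nat.card_pos
  have h1' : (Nat.card Y₀ : ℝ) + (Nat.card Q : ℝ) * Nat.card R ≤ (Nat.card Q : ℝ) * Nat.card V := by
    exact_mod_cast h1
  have h2' : (Nat.card Y : ℝ) * ((Nat.card Q : ℝ) * Nat.card V * Nat.card W₂) ≤ (Nat.card G : ℝ) * Nat.card Y₀ := by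
    rw [hTc] at hconj
    exact_mod_cast hconj
  refine le_of_mul_le_mul_right ?_ (mul_pos hq hv)
  have e : (1 - (Nat.card R : ℝ) / Nat.card V) * (Nat.card G : ℝ) * ((Nat.card Q : ℝ) * Nat.card V) =
      (Nat.card G : ℝ) * ((Nat.card Q : ℝ) * Nat.card V - (Nat.card Q : ℝ) * Nat.card R) := by
    field_simp
  rw [e]
  have hg : (0 : ℝ) ≤ Nat.card G := Nat.cast_nonneg _
  nlinarith [mul_le_mul_of_nonneg_left h1' hg]

end TenPartner

/-- **(10.8)** The set of characters induced from `M'` is not coherent. -/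
theorem TenData.not_coherent (d : TenData M K W₁ W₂ H) {T : Subgroup G} {Q V V₀ W : Subgroup T}
    (p : TenPartner d T Q V V₀ W) :
    ¬ IsCoherent (inducedIrrAbove K (⊥ : Subgroup M)) {1}ᶜ (dadeIsometry (tenA₀ M W₁) M H) := by
  classical
  rintro ⟨-, τ₁, hiso, hagree⟩
  have hT : TenExt d τ₁ := ⟨hiso, hagree⟩
  have hρ := p.regular_le hT
  set R : Set T := {v : T | v ∈ V ∧ v ∉ singSet Q V} with hR
  set w : ℕ := Nat.card W₁ with hwd
  have hw := d.prime.three_le₁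
  have hw' : (3 : ℝ) ≤ (w : ℝ) := by exact_mod_cast hw
  have heps : (w : ℝ) * Nat.card W₂ / Nat.card K ≤ (w : ℝ) / (2 * (w : ℝ) - 1) ^ 2 := by
    have h := d.index_bound
    have h' : (Nat.card W₂ : ℝ) * (2 * (w : ℝ) - 1) ^ 2 ≤ Nat.card K := by
      have := (Nat.cast_le (α := ℝ)).mpr h
      push_cast [Nat.cast_sub (show 1 ≤ 2 * Nat.card W₁ by omega)] at this
      exact this
    rw [div_le_div_iff₀ (Nat.cast_pos.mpr Nat.card_pos) (by nlinarith)]
    calc (w : ℝ) * Nat.card W₂ * (2 * (w : ℝ) - 1) ^ 2 = w * (Nat.card W₂ * (2 * (w : ℝ) - 1) ^ 2) := by ring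
      _ ≤ _ := mul_le_mul_of_nonneg_left h' (by linarith)
  have hvpos : (0 : ℝ) < Nat.card V := Nat.cast_pos.mpr Nat.card_pos
  rcases p.sing.singular_bound p.V₀_le p.reg with hsmall | hhalf
  · -- a small regular subgroup
    rw [p.card_fixQ] at hsmall
    set e : ℕ := Nat.card V₀ with hed
    have he3 : 3 ≤ e := by
      have h1 := (one_lt_card_iff_ne_bot _).mpr p.V₀_ne
      have h2 : Odd e := d.oddG.of_dvd_nat ((card_subgroup_dvd_card V₀).trans (card_subgroup_dvd_card T))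
      obtain ⟨k, hk⟩ := h2
      omega
    have hR1 : e - 1 ≤ Nat.card R := by
      have hsub : (V₀ : Set T) \ {1} ⊆ R := fun u hu => ⟨p.V₀_le hu.1, fun ⟨_, x, hx, hx1, hc⟩ =>
        hu.2 (p.reg u hu.1 x hx hx1 hc)⟩
      have := Set.ncard_le_ncard hsub (Set.toFinite R)
      rw [Set.ncard_sdiff_singleton_of_mem (one_mem _), ← Nat.card_coe_set_eq, ← Nat.card_coe_set_eq,
        SetLike.coe_sort_coe] at this
      exact this
    have hVe : (Nat.card V : ℝ) ≤ (e : ℝ) ^ 2 := by exact_mod_cast p.card_V_le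
    have hR1' : (e : ℝ) - 1 ≤ Nat.card R := by
      have := (Nat.cast_le (α := ℝ)).mpr hR1
      rwa [Nat.cast_sub (by omega), Nat.cast_one] at this
    have hlow : ((e : ℝ) - 1) / (e : ℝ) ^ 2 ≤ (Nat.card R : ℝ) / Nat.card V := by
      have he' : (3 : ℝ) ≤ (e : ℝ) := by exact_mod_cast he3
      exact div_le_div₀ (Nat.cast_nonneg _) hR1' hvpos hVe
    have hmono : 2 * ((w : ℝ) - 3) / ((w : ℝ) - 1) ^ 2 ≤ ((e : ℝ) - 1) / (e : ℝ) ^ 2 := by
      have he' : (3 : ℝ) ≤ (e : ℝ) := by exact_mod_cast he3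
      have hew : 2 * (e : ℝ) + 1 ≤ w := by exact_mod_cast hsmall
      rw [div_le_div_iff₀ (by nlinarith) (by positivity)]
      nlinarith [mul_nonneg (by linarith : (0 : ℝ) ≤ (w : ℝ) - 1 - 2 * e)
        (by nlinarith : (0 : ℝ) ≤ (e : ℝ) * ((w : ℝ) - 1) - (w : ℝ) + 1 - 2 * e)]
    have hq : (7 : ℝ) ≤ (w : ℝ) := by
      have : 7 ≤ w := by omega
      exact_mod_cast this
    linarith [avg_bound hq]
  · -- half of `V` is regular
    have hsum : Nat.card (singSet Q V) + Nat.card R = Nat.card V := by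
      rw [Nat.card_coe_set_eq, Nat.card_coe_set_eq,
        ← Set.ncard_union_eq (Set.disjoint_left.mpr fun x hx hx' => hx'.2 hx),
        show Nat.card V = (V : Set T).ncard from Nat.card_coe_set_eq _]
      congr 1
      ext v
      simp only [Set.mem_union, hR, Set.mem_setOf_eq, SetLike.mem_coe]
      exact ⟨fun h => h.elim (fun h => h.1) fun h => h.1, fun h => (em _).imp id fun h' => ⟨h, h'⟩⟩
    have hhalf' : (1 : ℝ) / 2 ≤ (Nat.card R : ℝ) / Nat.card V := by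
      rw [div_le_div_iff₀ (by norm_num) hvpos]
      have : Nat.card V ≤ 2 * Nat.card R := by omega
      have := (Nat.cast_le (α := ℝ)).mpr this
      push_cast at this
      linarith
    have h1 : 1 / (w : ℝ) ≤ 1 / 3 := div_le_div_of_nonneg_left (by norm_num) (by norm_num) hw'
    have h2 : (w : ℝ) / (2 * (w : ℝ) - 1) ^ 2 ≤ 3 / 25 := by
      rw [div_le_div_iff₀ (by nlinarith) (by norm_num)]
      nlinarith
    linarith

end CfsgLib.OddOrder.Ten
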