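/-
Peterfalvi section 10: a maximal subgroup with `U = 1` and its partner satisfy the hypotheses of (10.8).
-/
import Cfsg.Agent.Lib.OddOrder.S10.Noncoherence
import Cfsg.Agent.Lib.OddOrder.S8.Partner

set_option autoImplicit false
set_option linter.unusedSectionVars false
set_option linter.style.haveILetI false

namespace CfsgLib.OddOrder.Ten

open Cfsg Subgroup CfsgLib.MinSimpleOdd CfsgLib.OddOrder.Found CfsgLib.OddOrder.S8
open scoped Pointwise commutatorElement

universe u

/-- An abelian group of rank at most two has order at most the square of its exponent. -/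
theorem card_le_sq_exponent {A : Type*} [Group A] [Finite A] [IsMulCommutative A]
    (h : ∀ r : ℕ, r.Prime → PRankLE r 2 A) : Nat.card A ≤ Monoid.exponent A ^ 2 := by
  let tor : ℕ → Subgroup A := fun n =>
    { carrier := {x | x ^ n = 1}
      one_mem' := one_pow n
      mul_mem' := fun {a b} ha hb => by
        rw [Set.mem_setOf_eq] at ha hb ⊢
        rw [(show Commute a b from mul_comm' a b).mul_pow, ha, hb, one_mul]
      inv_mem' := fun {a} ha => by
        rw [Set.mem_setOf_eq] at ha ⊢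
        rw [inv_pow, ha, inv_one] }
  have key : ∀ n : ℕ, n ≠ 0 → Nat.card (tor n) ≤ n ^ 2 := by
    intro n
    induction n using Nat.recOnMul with
    | zero => exact fun h0 => absurd rfl h0
    | one =>
      intro _
      have : tor 1 = ⊥ := by
        rw [eq_bot_iff]
        intro x hx
        simpa [tor] using hx
      rw [this, card_bot]; norm_num
    | prime r hr =>
      exact fun _ => h r hr (tor r) ⟨⟨fun a b => Subtype.ext (mul_comm' (a : A) b)⟩⟩ fun x hx => hx
    | mul a b iha ihb =>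
      intro hab
      obtain ⟨ha, hb⟩ := mul_ne_zero_iff.mp hab
      let f : tor (a * b) →* tor b :=
        { toFun := fun x => ⟨(x : A) ^ a, by
            show ((x : A) ^ a) ^ b = 1
            rw [← pow_mul]; exact x.2⟩
          map_one' := Subtype.ext (one_pow a)
          map_mul' := fun x y => Subtype.ext ((show Commute (x : A) (y : A) from mul_comm' _ _).mul_pow a) }
      have hk : Nat.card f.ker ≤ Nat.card (tor a) :=
        Nat.card_le_card_of_injective (fun x : f.ker => (⟨((x : tor (a * b)) : A), congrArg Subtype.val x.2⟩ : tor a))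
          fun x y e => Subtype.ext (Subtype.ext (congrArg (fun z : tor a => (z : A)) e))
      rw [← f.ker.card_mul_index, index_ker, mul_pow]
      exact Nat.mul_le_mul (hk.trans (iha ha)) ((card_le_card_group f.range).trans (ihb hb))
  refine le_trans ?_ (key _ Monoid.exponent_ne_zero_of_finite)
  rw [← card_top]
  exact card_le_of_le fun x _ => Monoid.pow_exponent_eq_one x

variable {G : Type u} [Group G] [Fintype G] {M K U L : Subgroup G}

theorem tenA₀_eq_kappaA0 (hG : IsMinSimpleOddOrder G) (p : KappaPair M K L) (h : IsSigmaDecomposition M K U)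
    (hU : U = ⊥) : tenA₀ M (K.subgroupOf M) = kappaA0 M K := by
  rw [kappaA0_eq hG p h hU]
  ext x
  constructor
  · rintro ⟨y, hy, rfl⟩
    exact ⟨y.2, fun g hg => hy ⟨g, hg⟩⟩
  · rintro ⟨hx, hx'⟩
    exact ⟨⟨x, hx⟩, fun g => hx' g g.2, rfl⟩

/-- The hypothesis of section 10 for a maximal subgroup with `U = 1`. -/
theorem tenData_of_pair [Fintype M] (hG : IsMinSimpleOddOrder G) (p : KappaPair M K L)
    (h : IsSigmaDecomposition M K U) (hU : U = ⊥) :
    TenData M ((sigmaCore M).subgroupOf M) (K.subgroupOf M) ((fixedCore M K).subgroupOf M) (supportR M) := by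
  have hM := p.left.hM
  have hsM : sigmaCore M ≤ M := piCoreOf_le _ _
  have hKM : K ≤ M := p.left.hall.1
  have hCM : fixedCore M K ≤ M := inf_le_left.trans hsM
  have hder := derived_eq_core hG p h hU
  obtain ⟨-, hMK, hcop⟩ := kappa_split_data hG hM h p.left.ne
  rw [hder] at hMK hcop
  obtain ⟨U', hP, -, -⟩ := exists_typeP hG hM h p.left.ne
  have hodd : Odd (Nat.card G) := hG.1
  have hcard : Nat.card M = Nat.card (sigmaCore M) * Nat.card K := card_complIn hMK
  refine ⟨hodd, ?_, ?_, ?_, ?_, ?_⟩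
  · refine ⟨?_, ?_, ?_, ?_, ?_, ?_, ?_, ?_, ?_, ?_, ?_⟩
    · exact (normal_subgroupOf_iff_le_normalizer hsM).mpr (le_normalizer_sigmaCore hG hM le_rfl)
    · rw [eq_bot_iff]
      rintro x ⟨h1, h2⟩
      have hx : (x : G) ∈ sigmaCore M ⊓ K := mem_inf.mpr ⟨h1, h2⟩
      rw [hMK.2.2.1, mem_bot] at hx
      exact mem_bot.mpr (Subtype.ext hx)
    · rw [← subgroupOf_sup hsM hKM, subgroupOf_eq_top]
      intro x hx
      obtain ⟨a, ha, b, hb, rfl⟩ := hMK.2.2.2 x hx
      exact mul_mem_sup ha hb
    · rw [Ne, subgroupOf_eq_bot, disjoint_iff, inf_eq_left.mpr hKM]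
      exact p.left.ne
    · haveI := p.cycK
      exact isCyclic_of_surjective (subgroupOfEquivOfLe hKM).symm.toMonoidHom (subgroupOfEquivOfLe hKM).symm.surjective
    · have hidx : (K.subgroupOf M).index = Nat.card (sigmaCore M) := by
        refine Nat.eq_of_mul_eq_mul_left (Nat.card_pos (α := K.subgroupOf M)) ?_
        rw [card_mul_index, hcard, Nat.card_congr (subgroupOfEquivOfLe hKM).toEquiv, mul_comm]
      rw [hidx, Nat.card_congr (subgroupOfEquivOfLe hKM).toEquiv]
      exact hcop
    · rw [Ne, subgroupOf_eq_bot, disjoint_iff, inf_eq_left.mpr hCM]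
      exact p.left.fixed_ne
    · haveI := p.cycC
      exact isCyclic_of_surjective (subgroupOfEquivOfLe hCM).symm.toMonoidHom (subgroupOfEquivOfLe hCM).symm.surjective
    · exact fun x hx => inf_le_left (a := sigmaCore M) hx
    · intro x hx hx1
      ext y
      simp only [mem_inf, mem_subgroupOf, mem_centralizer_singleton_iff]
      rw [← p.left.prime x hx fun e => hx1 (Subtype.ext e)]
      simp only [mem_inf, mem_centralizer_singleton_iff, ← coe_mul, SetLike.coe_eq_coe]
    · exact hodd.of_dvd_nat ((card_subgroup_dvd_card _).trans (card_subgroup_dvd_card M))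
  · rw [map_subgroupOf_eq_of_le hKM, map_subgroupOf_eq_of_le hCM]
    exact p.selfNormalizing hG
  · haveI := solvable_of_ne_top hG hM.1
    infer_instance
  · have h2 : fixedCore M K ≤ ⁅sigmaCore M, sigmaCore M⁆ := hder ▸ hP.W₂_le.trans inf_le_right
    intro x hx
    have h3 : (x : G) ∈ (⁅(sigmaCore M).subgroupOf M, (sigmaCore M).subgroupOf M⁆ : Subgroup M).map M.subtype := by
      rw [map_commutator, map_subgroupOf_eq_of_le hsM]
      exact h2 hx
    exact mem_map_iff'.mp h3
  · rw [tenA₀_eq_kappaA0 hG p h hU]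
    exact kappa_dade hG p

/-- The partner of a maximal subgroup with `U = 1`. -/
theorem tenPartner_of_pair [Fintype M] (hG : IsMinSimpleOddOrder G) (p : KappaPair M K L)
    (h : IsSigmaDecomposition M K U) (hU : U = ⊥) :
    ∃ V V₀ : Subgroup L, TenPartner (tenData_of_pair hG p h hU) L ((sigmaCore L).subgroupOf L) V V₀
      ((fixedCore M K).subgroupOf L) := by
  obtain ⟨hpr, -, V, hLV, hV1, -, -, -, hnil, hTI, V₀, hV₀, hexp, hreg⟩ := partner_typeII hG p h hU
  have hL := p.right.hM
  have hC := p.left.fixed_ne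
  obtain ⟨-, hs⟩ := decomp_split hG hL hLV hC
  obtain ⟨hSV, hDW, hcopW⟩ := kappa_split_data hG hL hLV hC
  obtain ⟨-, hcent, -⟩ := hs.two hV1
  have hsL : sigmaCore L ≤ L := piCoreOf_le _ _
  have hWL : fixedCore M K ≤ L := p.right.hall.1
  have hVL : V ≤ L := hs.UE.trans hs.hE.1
  have hodd : Odd (Nat.card G) := hG.1
  have hSL := (sigmaCore_hall hG hL)
  have hnσ : ∀ r, r.Prime → r ∣ Nat.card ↥(V ⊔ fixedCore M K) → r ∉ sigma L := by
    intro r hr hd hσ
    refine hSL.1.2.2 r hr hσ ?_
    have hidx : (sigmaCore L).relIndex L = Nat.card ↥(V ⊔ fixedCore M K) := by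
      refine Nat.eq_of_mul_eq_mul_left (Nat.card_pos (α := sigmaCore L)) ?_
      rw [← relIndex_bot_left (sigmaCore L), relIndex_mul_relIndex _ _ _ bot_le hsL, relIndex_bot_left,
        relIndex_bot_left, card_complIn hs.hE, mul_comm]
    rw [hidx]
    exact hd
  have hcop : (Nat.card ↥(V ⊔ fixedCore M K)).Coprime (Nat.card (sigmaCore L)) :=
    Nat.coprime_of_dvd fun r hr h1 h2 => hnσ r hr h1 (hSL.1.2.1 r hr h2)
  have hcopV : (Nat.card V).Coprime (Nat.card (sigmaCore L)) :=
    hcop.coprime_dvd_left (card_dvd_of_le le_sup_left)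
  have hcopC : (Nat.card (fixedCore M K)).Coprime (Nat.card (sigmaCore L)) :=
    hcop.coprime_dvd_left (card_dvd_of_le le_sup_right)
  have hderL : (⁅L, L⁆ : Subgroup G) = sigmaCore L ⊔ V := by
    rw [kappa_derived_eq hG hL hLV hC, sup_comm]
  set Q' := (sigmaCore L).subgroupOf L with hQ'
  set V' := V.subgroupOf L with hV'
  set W' := (fixedCore M K).subgroupOf L with hW'
  have hnorm : Q'.Normal := (normal_subgroupOf_iff_le_normalizer hsL).mpr (le_normalizer_sigmaCore hG hL le_rfl)
  have hsup : Q' ⊔ V' = (⁅L, L⁆ : Subgroup G).subgroupOf L := by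
    rw [hderL, hQ', hV', subgroupOf_sup hsL hVL]
  have hVW : V' ⊔ W' = (V ⊔ fixedCore M K).subgroupOf L := (subgroupOf_sup hVL hWL).symm
  have hmapc : ∀ (X : Subgroup G), X ≤ L → Nat.card (X.subgroupOf L) = Nat.card X := fun X hX =>
    Nat.card_congr (subgroupOfEquivOfLe hX).toEquiv
  have hnormV : fixedCore M K ≤ normalizer (V : Set G) := hs.KE.trans hs.normal
  have hprime : ∀ r : L, r ∈ W' → r ≠ 1 → Q' ⊓ centralizer ({r} : Set L) = Q' ⊓ centralizer (W' : Set L) := by
    intro r hr hr1
    ext y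
    simp only [mem_inf, hQ', mem_subgroupOf, mem_centralizer_singleton_iff]
    refine and_congr_right fun hy => ⟨fun hc => ?_, fun hc => ?_⟩
    · have hm : (y : G) ∈ sigmaCore L ⊓ centralizer ({(r : G)} : Set G) :=
        ⟨hy, mem_centralizer_singleton_iff.mpr (congrArg Subtype.val hc)⟩
      rw [p.right.prime r hr fun e => hr1 (Subtype.ext e)] at hm
      exact mem_centralizer_iff.mpr fun w hw => Subtype.ext (mem_centralizer_iff.mp hm.2 (w : G) hw)
    · exact (mem_centralizer_iff.mp hc r hr).symm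
  have hfixmap : (Q' ⊓ centralizer (W' : Set L)).map L.subtype = K := by
    rw [← p.symm_eq]
    ext y
    constructor
    · rintro ⟨z, ⟨hzQ, hzC⟩, rfl⟩
      exact ⟨hzQ, mem_centralizer_iff.mpr fun w hw =>
        congrArg Subtype.val (mem_centralizer_iff.mp hzC (⟨w, hWL hw⟩ : L) hw)⟩
    · rintro ⟨hyQ, hyC⟩
      exact ⟨⟨y, hsL hyQ⟩, ⟨hyQ, mem_centralizer_iff.mpr fun w hw =>
        Subtype.ext (mem_centralizer_iff.mp hyC (w : G) hw)⟩, rfl⟩
  have hfpf : ∀ r ∈ W', r ≠ 1 → V' ⊓ centralizer ({r} : Set L) = ⊥ := by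
    intro r hr hr1
    rw [eq_bot_iff]
    rintro v ⟨hv, hc⟩
    have hm : (v : G) ∈ V ⊓ centralizer ({(r : G)} : Set G) :=
      ⟨hv, mem_centralizer_singleton_iff.mpr (congrArg Subtype.val (mem_centralizer_singleton_iff.mp hc))⟩
    rw [hs.fpf r hr fun e => hr1 (Subtype.ext e), mem_bot] at hm
    exact mem_bot.mpr (Subtype.ext hm)
  have hQV : Q' ⊓ V' = ⊥ := by
    refine disjoint_iff.mp (disjoint_of_coprime_natCard ?_)
    rw [hQ', hV', hmapc _ hsL, hmapc _ hVL]
    exact hcopV.symm
  have hsing : SingData Q' V' W' := by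
    refine ⟨hnorm, ?_, ?_, ?_, ?_, ?_, ?_, hfpf, ?_, ?_, ?_, ?_, ?_⟩
    · haveI := hnil
      exact Group.nilpotent_of_mulEquiv (subgroupOfEquivOfLe hsL).symm
    · exact hodd.of_dvd_nat ((card_subgroup_dvd_card _).trans (card_subgroup_dvd_card L))
    · haveI := hs.comm
      exact fun a ha b hb => Subtype.ext (show (a : G) * b = b * a from
        congrArg Subtype.val (mul_comm' (⟨(a : G), ha⟩ : V) ⟨(b : G), hb⟩))
    · intro w hw
      rw [mem_normalizer_iff]
      exact fun x => mem_normalizer_iff.mp (hnormV hw) (x : G)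
    · rw [hW', hmapc _ hWL]
      exact hpr
    · rw [eq_bot_iff]
      rintro v ⟨hv, hv'⟩
      have : (v : G) ∈ V ⊓ fixedCore M K := ⟨hv, hv'⟩
      rw [hs.compl.2.2.1, mem_bot] at this
      exact mem_bot.mpr (Subtype.ext this)
    · exact hodd.of_dvd_nat ((card_subgroup_dvd_card _).trans (card_subgroup_dvd_card L))
    · haveI := solvable_of_ne_top hG hL.1
      infer_instance
    · rw [hVW, hQ', hmapc _ hsL, hmapc _ (sup_le hVL hWL)]
      exact hcop
    · haveI : IsCyclic ↥((Q' ⊓ centralizer (W' : Set L)).map L.subtype) := hfixmap ▸ p.cycK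
      exact isCyclic_of_surjective _ ((Q' ⊓ centralizer (W' : Set L)).equivMapOfInjective L.subtype
        L.subtype_injective).symm.surjective
    · rw [eq_bot_iff]
      rintro y ⟨hy, hc⟩
      have hm : (y : G) ∈ sigmaCore L ⊓ centralizer (V : Set G) := ⟨hy, mem_centralizer_iff.mpr fun v hv =>
        congrArg Subtype.val (mem_centralizer_iff.mp hc (⟨v, hVL hv⟩ : L) hv)⟩
      rw [hcent, mem_bot] at hm
      exact mem_bot.mpr (Subtype.ext hm)
  have hV1' : V₀.subgroupOf L ≠ ⊥ := by
    rw [Ne, subgroupOf_eq_bot, disjoint_iff, inf_eq_left.mpr (hV₀.trans hVL)]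
    intro e
    apply hV1
    have h1 : Monoid.exponent V₀ = 1 := by
      rw [e]
      exact Monoid.exp_eq_one_of_subsingleton
    rw [hexp, Monoid.exp_eq_one_iff] at h1
    exact eq_bot_iff.mpr fun x hx => mem_bot.mpr (congrArg Subtype.val (Subsingleton.elim (⟨x, hx⟩ : V) 1))
  refine ⟨V', V₀.subgroupOf L, hsing, ?_, ?_, ?_, ?_, hQV, ?_, ?_, ?_, ?_, ?_, ?_, hV1', ?_, ?_⟩
  · rw [hW', map_subgroupOf_eq_of_le hWL, map_subgroupOf_eq_of_le
      (show fixedCore M K ≤ M from inf_le_left.trans (piCoreOf_le _ _))]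
  · rw [hfixmap, map_subgroupOf_eq_of_le p.left.hall.1]
  · rw [hQ', hmapc _ hsL, map_subgroupOf_eq_of_le hsL]
    exact Nat.coprime_of_dvd fun r hr h1 h2 => hSL.2.2 r hr (hSL.2.1 r hr h1) h2
  · intro y hy hy1
    have hne : fittingOf L ≠ ⊥ := fun e => hy1 (by
      have hle := le_fittingOf_of_normal hsL (le_normalizer_sigmaCore hG hL le_rfl) hnil hy
      rw [e, mem_bot] at hle
      exact Subtype.ext hle)
    have hFL : fittingOf L ≤ L := map_subtype_le _
    have hnF : L ≤ normalizer (fittingOf L : Set G) := le_normalizer_fittingOf L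
    have hN : normalizer (fittingOf L : Set G) = L :=
      normalizer_eq hG hL hne (fun e => hL.1 (top_le_iff.mp (e ▸ hFL))) hnF
    intro g hg
    by_contra hgL
    refine hy1 (Subtype.ext (hTI g (by rwa [hN]) (y : G)
      (le_fittingOf_of_normal hsL (le_normalizer_sigmaCore hG hL le_rfl) hnil hy) ?_))
    rw [mem_centralizer_singleton_iff.mp hg, mul_inv_cancel_right]
    exact le_fittingOf_of_normal hsL (le_normalizer_sigmaCore hG hL le_rfl) hnil hy
  · refine disjoint_iff.mp (disjoint_of_coprime_natCard ?_)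
    rw [hsup, hmapc _ hDW.1, hW', hmapc _ hWL]
    exact hcopW.symm
  · rw [hsup, hW', ← subgroupOf_sup hDW.1 hWL, subgroupOf_eq_top]
    intro x hx
    obtain ⟨a, ha, b, hb, rfl⟩ := hDW.2.2.2 x hx
    exact mul_mem_sup ha hb
  · rw [hsup, hmapc _ hDW.1, hW', hmapc _ hWL]
    exact hcopW
  · intro r hr hr1
    refine le_antisymm ?_ (le_inf (inf_le_left.trans le_sup_left) ?_)
    · rintro z ⟨hz, hc⟩
      haveI := hnorm
      have hz' : z ∈ ((Q' ⊔ V' : Subgroup L) : Set L) := hz
      rw [normal_mul] at hz'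
      obtain ⟨a, ha, b, hb, rfl⟩ := hz'
      have hc : a * b * r = r * (a * b) := mem_centralizer_singleton_iff.mp hc
      have h1 : r * a * r⁻¹ ∈ Q' := hnorm.conj_mem a ha r
      have h2 : r * b * r⁻¹ ∈ V' := (mem_normalizer_iff.mp (hsing.normV hr) b).mp hb
      have e : r * a * r⁻¹ * (r * b * r⁻¹) = a * b := by
        calc r * a * r⁻¹ * (r * b * r⁻¹) = r * (a * b) * r⁻¹ := by group
          _ = a * b := by rw [← hc]; group
      have e' : a⁻¹ * (r * a * r⁻¹) = b * (r * b * r⁻¹)⁻¹ := by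
        rw [eq_mul_inv_iff_mul_eq, mul_assoc, e]; group
      have hm : a⁻¹ * (r * a * r⁻¹) ∈ Q' ⊓ V' :=
        mem_inf.mpr ⟨Q'.mul_mem (Q'.inv_mem ha) h1, e' ▸ V'.mul_mem hb (V'.inv_mem h2)⟩
      rw [hQV, mem_bot] at hm
      rw [hm] at e'
      have hb0 : b ∈ V' ⊓ centralizer ({r} : Set L) := by
        refine mem_inf.mpr ⟨hb, mem_centralizer_singleton_iff.mpr ?_⟩
        have : b = r * b * r⁻¹ := mul_inv_eq_one.mp e'.symm
        nth_rw 1 [this]
        group
      rw [hfpf r hr hr1, mem_bot] at hb0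
      subst hb0
      rw [mul_one] at hc
      show a * 1 ∈ _
      rw [mul_one]
      rw [← hprime r hr hr1]
      exact mem_inf.mpr ⟨ha, mem_centralizer_singleton_iff.mpr hc⟩
    · rw [← hprime r hr hr1]
      exact inf_le_right
  · rw [hV', hQ', hmapc _ hVL, hmapc _ hsL]
    exact hcopV
  · exact fun x hx => hV₀ hx
  · intro u hu x hx hx1 hc
    exact Subtype.ext (hreg (u : G) hu (x : G) hx (fun e => hx1 (Subtype.ext e)) (congrArg Subtype.val hc))
  · rw [hV', hmapc _ hVL, hmapc _ (hV₀.trans hVL)]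
    haveI := hs.comm
    have hrank : ∀ r : ℕ, r.Prime → PRankLE r 2 V := by
      intro r hr
      by_cases hd : r ∣ Nat.card V
      · have hLr : PRankLE r 2 L := by
          by_contra hc
          exact hnσ r hr (hd.trans (card_dvd_of_le le_sup_left)) (alpha_subset_sigma hG hL ⟨hr, hc⟩)
        exact pRankLE_mono hVL hLr
      · intro A _ hA
        haveI := Fact.mk hr
        have hp : IsPGroup r A := fun a => ⟨1, by rw [pow_one]; exact Subtype.ext (hA a a.2)⟩
        obtain ⟨k, hk⟩ := IsPGroup.iff_card.mp hp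
        rcases k with _ | k
        · rw [hk, pow_zero]; exact Nat.one_le_pow _ _ hr.pos
        · exact absurd ((dvd_pow_self r k.succ_ne_zero).trans (hk ▸ card_subgroup_dvd_card A)) hd
    refine (card_le_sq_exponent hrank).trans (Nat.pow_le_pow_left ?_ 2)
    rw [← hexp]
    exact Nat.le_of_dvd Nat.card_pos Group.exponent_dvd_nat_card

/-- **(10.8)** For a maximal subgroup with `U = 1` the induced characters are not coherent. -/
theorem not_coherent_of_pair [Fintype M] (hG : IsMinSimpleOddOrder G) (p : KappaPair M K L)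
    (h : IsSigmaDecomposition M K U) (hU : U = ⊥) :
    ¬ IsCoherent (inducedIrrAbove ((sigmaCore M).subgroupOf M) (⊥ : Subgroup M)) {1}ᶜ
      (dadeIsometry (kappaA0 M K) M (supportR M)) := by
  obtain ⟨V, V₀, hp⟩ := tenPartner_of_pair hG p h hU
  rw [← tenA₀_eq_kappaA0 hG p h hU]
  exact (tenData_of_pair hG p h hU).not_coherent hp

end CfsgLib.OddOrder.Ten
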