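/-
Peterfalvi (10.10): a maximal subgroup of type V has a `p`-group as kernel, which is a TI subgroup.
-/
import Cfsg.Agent.Lib.OddOrder.S10.FromS8
import Cfsg.Agent.Lib.OddOrder.S10.Cube
import Cfsg.Agent.Lib.MinSimpleOdd.TypeFive
import Cfsg.Agent.S1383

set_option autoImplicit false
set_option linter.unusedSectionVars false
set_option linter.style.haveILetI false

namespace CfsgLib.OddOrder.Ten

open Cfsg Subgroup CfsgLib.MinSimpleOdd CfsgLib.OddOrder.S8
open scoped Pointwise commutatorElement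

universe u

variable {G : Type u} [Group G]

/-- What is known about a maximal subgroup of type V before the case (6.8 c2). -/
structure TypeVFacts [Fintype G] (M K L : Subgroup G) [Fintype M] (p : ℕ) : Prop where
  pair : KappaPair M K L
  decomp : IsSigmaDecomposition M K ⊥
  core : fittingHallOf M = sigmaCore M
  hp : p.Prime
  pgroup : IsPGroup p (sigmaCore M)
  nonabelian : ¬ IsMulCommutative (sigmaCore M)
  notdvd : ¬ Nat.card K ∣ p - 1
  chief : ∀ N : Subgroup M, N.Normal →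
    ⁅(sigmaCore M).subgroupOf M, (sigmaCore M).subgroupOf M⁆ ≤ N → N ≤ (sigmaCore M).subgroupOf M →
      N = ⁅(sigmaCore M).subgroupOf M, (sigmaCore M).subgroupOf M⁆ ∨ N = (sigmaCore M).subgroupOf M
  prime₂ : Nat.card (fixedCore M K) = p

/-- **(10.10), first part.** The kernel of a type V subgroup is a `p`-group. -/
theorem exists_typeVFacts [Fintype G] (hG : IsMinSimpleOddOrder G) {M : Subgroup G} [Fintype M] (hM : IsCoatom M)
    (hV : IsOfTypeV M) : ∃ (K L : Subgroup G) (p : ℕ), TypeVFacts M K L p := by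
  obtain ⟨K₀, hK₀⟩ := CfsgLib.exists_isPiHallOf (kappa M) (M := M) (solvable_of_ne_top hG hM.1)
  obtain ⟨U₁, hU₁⟩ : ∃ U, IsSigmaDecomposition M K₀ U :=
    exists_sigmaDecomposition hG hM (kappaHall_cyclic hG hM hK₀) hK₀
  obtain ⟨hK1, hU, hcore⟩ := (Cfsg.Agent.S1383.result hG M hM K₀ U₁ hU₁).mp hV
  subst hU
  obtain ⟨L, pr⟩ := (kappaData_of_hall hG hM hK₀ hK1).exists_pair hG
  have hd := tenData_of_pair hG pr hU₁ rfl
  obtain ⟨V, V₀, hp⟩ := tenPartner_of_pair hG pr hU₁ rfl
  have hnil : Group.IsNilpotent ((sigmaCore M).subgroupOf M) := by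
    haveI : Group.IsNilpotent (sigmaCore M) := hcore ▸ fittingHallOf_nilpotent M
    exact Group.nilpotent_of_mulEquiv (subgroupOfEquivOfLe (show sigmaCore M ≤ M from piCoreOf_le _ _)).symm
  obtain ⟨p, m, hpp, hcard, hne, hnd, hchief⟩ := hd.pgroup_of_not_coherent hnil (hd.not_coherent hp)
  haveI := Fact.mk hpp
  rw [Nat.card_congr (subgroupOfEquivOfLe (show sigmaCore M ≤ M from piCoreOf_le _ _)).toEquiv] at hcard
  refine ⟨K₀, L, p, pr, hU₁, hcore, hpp, IsPGroup.of_card hcard, fun hc => hne ?_, fun h => hnd ?_, hchief, ?_⟩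
  · refine commutator_eq_bot_iff_le_centralizer.mpr fun x hx => mem_centralizer_iff.mpr fun y hy => ?_
    exact Subtype.ext (show (y : G) * x = x * y from
      congrArg Subtype.val (hc.is_comm.comm (⟨(y : G), hy⟩ : sigmaCore M) ⟨(x : G), hx⟩))
  · rwa [Nat.card_congr (subgroupOfEquivOfLe pr.left.hall.1).toEquiv]
  · obtain ⟨hprime, -⟩ := partner_typeII hG pr hU₁ rfl
    obtain ⟨k, -, hk⟩ := (Nat.dvd_prime_pow hpp).mp (hcard ▸ card_dvd_of_le
      (show fixedCore M K₀ ≤ sigmaCore M from inf_le_left))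
    rw [hk] at hprime ⊢
    rw [Nat.Prime.eq_one_of_pow hprime, pow_one]

/-- **(10.10), the non-TI cases.** The kernel of a type V subgroup is a TI subgroup. -/
theorem typeV_ti [Finite G] (hG : IsMinSimpleOddOrder G) {M : Subgroup G} (hM : IsCoatom M) (hV : IsOfTypeV M) :
    IsTISubset (fittingHallOf M : Set G) := by
  classical
  haveI := Fintype.ofFinite G
  haveI := Fintype.ofFinite M
  obtain ⟨K, L, p, f⟩ := exists_typeVFacts hG hM hV
  haveI := Fact.mk f.hp
  obtain ⟨W₁, U, W₂, hP, -, h⟩ := hV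
  have hw : Nat.card W₁ = Nat.card K := (typeP_facts hG hM hP f.decomp).2.1
  have hpg : IsPGroup p (fittingHallOf M) := f.core.symm ▸ f.pgroup
  have heq : ∀ q : ℕ, q.Prime → q ∣ Nat.card (fittingHallOf M) → q = p := fun q hq hd => by
    obtain ⟨k, hk⟩ := IsPGroup.iff_card.mp hpg
    exact (Nat.prime_dvd_prime_iff_eq hq f.hp).mp (hq.dvd_of_dvd_pow (hk ▸ hd))
  rcases h with h | ⟨q, hq, hqd, hdvd, -⟩ | ⟨q, hq, hqd, hcard, hdvd, -⟩
  · exact h
  · exact absurd (by rwa [heq q hq hqd, hw] at hdvd) f.notdvd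
  · rw [heq q hq hqd] at hcard hdvd
    have htop : pCore p (fittingHallOf M) = ⊤ :=
      le_antisymm le_top (le_sSup ⟨inferInstance, fun a =>
        ⟨(hpg a.1).choose, Subtype.ext (hpg a.1).choose_spec⟩⟩)
    have hsM : sigmaCore M ≤ M := piCoreOf_le _ _
    have hKc : Nat.card ((sigmaCore M).subgroupOf M) = p ^ 3 := by
      rw [Nat.card_congr (subgroupOfEquivOfLe hsM).toEquiv, ← f.core, ← card_top, ← htop, hcard]
    have hd := tenData_of_pair hG f.pair f.decomp rfl
    obtain ⟨V, V₀, hp⟩ := tenPartner_of_pair hG f.pair f.decomp rfl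
    refine absurd (hd.coherent_cube f.hp hKc (fun e => f.nonabelian ⟨⟨fun a b => ?_⟩⟩) ?_) (hd.not_coherent hp)
    · have h1 := mem_centralizer_iff.mp (commutator_eq_bot_iff_le_centralizer.mp e
        (show (⟨(a : G), hsM a.2⟩ : M) ∈ (sigmaCore M).subgroupOf M from a.2))
        ⟨(b : G), hsM b.2⟩ b.2
      exact Subtype.ext (congrArg Subtype.val h1).symm
    · rw [Nat.card_congr (subgroupOfEquivOfLe f.pair.left.hall.1).toEquiv, ← hw]
      exact hdvd

end CfsgLib.OddOrder.Ten
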