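/-
Peterfalvi (10.10) from the case (6.8 c2), and (10.11): without type V both subgroups of a pair have
`W₁` of prime order.
-/
import Cfsg.Agent.Lib.OddOrder.S10.NonTI
import Cfsg.Agent.Lib.OddOrder.S10.TypeV.Basic
import Cfsg.Agent.Lib.OddOrder.S8.Pair

set_option autoImplicit false
set_option linter.unusedSectionVars false
set_option linter.style.haveILetI false

namespace CfsgLib.OddOrder.Ten

open Cfsg Subgroup CfsgLib.MinSimpleOdd CfsgLib.OddOrder.S8 CfsgLib.OddOrder.S13
open scoped Pointwise commutatorElement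

universe u

variable {G : Type u} [Group G]

/-- The case (6.8 c2): `S` is coherent for every `TypeVData`. -/
def CaseC2 (G : Type u) [Group G] [Fintype G] : Prop :=
  ∀ (M : Subgroup G) [Fintype M] (K W₁ W₂ : Subgroup M) (H : G → Subgroup G) (d : TenData M K W₁ W₂ H) (p : ℕ),
    TypeV.TypeVData d p → IsCoherent (inducedIrrAbove K (⊥ : Subgroup M)) {1}ᶜ d.tau

/-- The hypothesis of (6.8 c2) for a maximal subgroup of type V. -/
theorem typeVData_of_facts [Fintype G] (hG : IsMinSimpleOddOrder G) {M K L : Subgroup G} [Fintype M] {p : ℕ}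
    (f : TypeVFacts M K L p) (hTI : IsTISubset (fittingHallOf M : Set G)) :
    TypeV.TypeVData (tenData_of_pair hG f.pair f.decomp rfl) p := by
  haveI := Fact.mk f.hp
  have hM := f.pair.left.hM
  have hsM : sigmaCore M ≤ M := piCoreOf_le _ _
  have hmap : ((sigmaCore M).subgroupOf M).map M.subtype = sigmaCore M := map_subgroupOf_eq_of_le hsM
  have hne : sigmaCore M ≠ ⊥ := sigmaCore_ne_bot hG hM
  obtain ⟨-, hhall⟩ := sigmaCore_hall hG hM
  have hdvd : p ∣ Nat.card (sigmaCore M) := by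
    obtain ⟨k, hk⟩ := IsPGroup.iff_card.mp f.pgroup
    rcases k with _ | k
    · exact absurd (card_eq_one.mp (by rw [hk, pow_zero])) hne
    · exact hk ▸ dvd_pow_self p k.succ_ne_zero
  refine ⟨f.hp, ?_, ?_, ?_, ?_, f.chief, ?_, fun h => f.notdvd ?_⟩
  · exact f.pgroup.of_equiv (subgroupOfEquivOfLe hsM).symm
  · rw [hmap]
    exact hhall.2 p f.hp (hhall.1 p f.hp hdvd)
  · rw [hmap, ← f.core]; exact hTI
  · rw [hmap]
    exact normalizer_eq hG hM hne (ne_top_of_le_ne_top hM.1 hsM) (le_normalizer_sigmaCore hG hM le_rfl)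
  · rw [Nat.card_congr (subgroupOfEquivOfLe
      (show fixedCore M K ≤ M from inf_le_left.trans hsM)).toEquiv, f.prime₂]
  · rwa [Nat.card_congr (subgroupOfEquivOfLe f.pair.left.hall.1).toEquiv] at h

/-- **(10.10)** There is no maximal subgroup of type V, given the case (6.8 c2). -/
theorem not_typeV_of_c2 [Fintype G] (hc : CaseC2 G) (hG : IsMinSimpleOddOrder G) {M : Subgroup G} (hM : IsCoatom M) :
    ¬ IsOfTypeV M := fun hV => by
  classical
  haveI := Fintype.ofFinite M
  obtain ⟨K, L, p, f⟩ := exists_typeVFacts hG hM hV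
  have hd := tenData_of_pair hG f.pair f.decomp rfl
  obtain ⟨V, V₀, hp⟩ := tenPartner_of_pair hG f.pair f.decomp rfl
  exact hd.not_coherent hp (hc M _ _ _ _ hd p (typeVData_of_facts hG f (typeV_ti hG hM hV)))

/-- A side of a pair that is not of type V has `W₁` of prime order. -/
theorem prime_W₁_of_type [Finite G] (hG : IsMinSimpleOddOrder G) {S W₁ U W₂ : Subgroup G} (hS : IsCoatom S)
    (hP : IsTypePWith S W₁ U W₂) (h : IsOfTypeII S ∨ IsOfTypeIII S ∨ IsOfTypeIV S) : (Nat.card W₁).Prime := by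
  obtain ⟨K, hK⟩ := CfsgLib.exists_isPiHallOf (kappa S) (M := S) (solvable_of_ne_top hG hS.1)
  obtain ⟨U₀, hd⟩ := exists_sigmaDecomposition hG hS (kappaHall_cyclic hG hS hK) hK
  obtain ⟨W, U', W', hP', hpr⟩ : ∃ W U' W' : Subgroup G, IsTypePWith S W U' W' ∧ (Nat.card W).Prime := by
    rcases h with ⟨W, U', W', h1, -, h2, -⟩ | ⟨W, U', W', h1, -, h2, -⟩ | ⟨W, U', W', h1, -, h2, -⟩ <;>
      exact ⟨W, U', W', h1, h2⟩
  rwa [(typeP_facts hG hS hP hd).2.1, ← (typeP_facts hG hS hP' hd).2.1]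

/-- **(10.11)** In a pair without type V both `W₁` and `W₂` have prime order. -/
theorem pair_primes [Finite G] {S T W₁ W₂ U V : Subgroup G} (hP : FTPair S T W₁ W₂ U V)
    (hS : ¬ IsOfTypeV S) (hT : ¬ IsOfTypeV T) : (Nat.card W₁).Prime ∧ (Nat.card W₂).Prime ∧
      (Nat.card W₁).Coprime (Nat.card W₂) := by
  have h1 := prime_W₁_of_type hP.hG hP.hS hP.hSP (by have := hP.hS25; tauto)
  have h2 := prime_W₁_of_type hP.hG hP.hT hP.hTP (by have := hP.hT25; tauto)
  refine ⟨h1, h2, (Nat.coprime_primes h1 h2).mpr fun e => ?_⟩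
  have hW2 : W₂ ≤ (⁅S, S⁆ : Subgroup G) := (hP.hSP.W₂_le.trans inf_le_right).trans (commutator_le_self _)
  have hle : (⁅S, S⁆ : Subgroup G) ≤ S := commutator_le_self S
  have hdvd : Nat.card W₂ ∣ W₁.relIndex S := by
    have hc := CfsgLib.MinSimpleOdd.card_complIn hP.hSP.W₁_compl
    have hW1 : W₁ ≤ S := hP.hSP.W₁_compl.2.1
    have : W₁.relIndex S = Nat.card (⁅S, S⁆ : Subgroup G) := by
      refine Nat.eq_of_mul_eq_mul_left (Nat.card_pos (α := W₁)) ?_
      rw [← relIndex_bot_left W₁, relIndex_mul_relIndex _ _ _ bot_le hW1, relIndex_bot_left, relIndex_bot_left,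
        hc, mul_comm]
    rw [this]
    exact card_dvd_of_le hW2
  exact h1.ne_one (Nat.eq_one_of_dvd_coprimes hP.hSP.W₁_hall dvd_rfl (e ▸ hdvd))

end CfsgLib.OddOrder.Ten
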