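/-
Peterfalvi (10.10): there is no maximal subgroup of type V.
-/
import Cfsg.Agent.Lib.OddOrder.S10.NoTypeV
import Cfsg.Agent.Lib.OddOrder.S10.TypeV.Main

set_option autoImplicit false

namespace CfsgLib.OddOrder.Ten

open Cfsg

universe u

variable {G : Type u} [Group G]

theorem caseC2 [Fintype G] : CaseC2 G := fun _ _ _ _ _ _ _ _ t => t.coherent

/-- **(10.10)** There is no maximal subgroup of type V. -/
theorem not_typeV [Finite G] (hG : IsMinSimpleOddOrder G) {M : Subgroup G} (hM : IsCoatom M) :
    ¬ IsOfTypeV M :=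
  haveI := Fintype.ofFinite G
  not_typeV_of_c2 caseC2 hG hM

end CfsgLib.OddOrder.Ten
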